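import Cfsg.Agent.Lib.SpThreeCent.BigHom
import Cfsg.Agent.Lib.Classical.Linear
import Cfsg.Agent.Lib.NineSym.RelAlt

/-!
# The centralizer of the three transpositions lies in the image

Modulo `⟨(03),(14),(25)⟩` the element `e₃` is self-centralizing, so S3331 applies; the `3`-group
`⟨e₁e₂, e₃⟩` fixes a Sylow `2`- or `7`-subgroup, and everything it fixes lies in the image.
-/

set_option autoImplicit false
set_option linter.style.haveILetI false
set_option linter.unusedSectionVars false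
set_option maxRecDepth 100000
set_option synthInstance.maxSize 10000

namespace Cfsg.Agent.SpThreeCent

open Subgroup
open scoped Pointwise
open Cfsg.Agent.NineSym
open Cfsg.Agent.ExtraTwoNine.CoordPerm (P6)
open SymSix (cb cc ct cw)

section Cover

variable {G : Type*} [Group G] [Finite G]

/-- A `3`-group acting on `K` fixes a Sylow subgroup when their number is prime to three. -/
theorem exists_fixed_sylow (K A : Subgroup G) (hA : IsPGroup 3 A) (hAK : A ≤ normalizer (K : Set G))
    {p : ℕ} [Fact p.Prime] (hn : ¬ 3 ∣ Nat.card (Sylow p K)) :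
    ∃ T : Sylow p K, A ≤ normalizer ((T : Subgroup K).map K.subtype : Set G) := by
  haveI : Fact (Nat.Prime 3) := ⟨Nat.prime_three⟩
  let φ : A →* MulAut K := K.normalizerMonoidHom.comp (Subgroup.inclusion hAK)
  letI : MulAction A (Sylow p K) := MulAction.compHom _ φ
  obtain ⟨T, hT⟩ := hA.nonempty_fixed_point_of_prime_not_dvd_card (Sylow p K) hn
  refine ⟨T, fun a ha => ?_⟩
  have key : ∀ b : A, ∀ k ∈ (T : Subgroup K).map K.subtype,
      (b : G) * k * (b : G)⁻¹ ∈ (T : Subgroup K).map K.subtype := by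
    rintro b _ ⟨k, hk, rfl⟩
    have hb : φ b • T = T := hT b
    refine ⟨φ b k, ?_, rfl⟩
    rw [← hb]
    exact smul_mem_pointwise_smul k (φ b) _ hk
  refine mem_normalizer_iff.2 fun k => ⟨key ⟨a, ha⟩ k, fun hk => ?_⟩
  simpa [mul_assoc] using key ⟨a⁻¹, inv_mem ha⟩ _ hk

/-- `f` is self-centralizing of order three and inverted by `t`; a `3`-group containing `f` normalizes
`K` and its invariant `3'`-subgroups lie in `M`: then so does `K`. -/
theorem cover_self_three (K A M : Subgroup G) (f t : G) (hfK : f ∈ K) (hfA : f ∈ A) (hfM : f ∈ M)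
    (htK : t ∈ K) (htM : t ∈ M) (ht2 : t * t = 1) (ht : t * f * t⁻¹ = f⁻¹) (hf : orderOf f = 3)
    (hC : ∀ g ∈ K, g * f = f * g → g ∈ zpowers f) (hA : IsPGroup 3 A) (hAK : A ≤ normalizer (K : Set G))
    (hsig : ∀ R : Subgroup G, R ≤ K → (Nat.card R).Coprime 3 → A ≤ normalizer (R : Set G) → R ≤ M) :
    K ≤ M := by
  classical
  haveI : Fact (Nat.Prime 3) := ⟨Nat.prime_three⟩
  set fK : K := ⟨f, hfK⟩ with hfK'
  set tK : K := ⟨t, htK⟩ with htK'
  set H := M.subgroupOf K with hH
  have hfH : fK ∈ H := hfM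
  have htH : tK ∈ H := htM
  suffices hT : H = ⊤ from subgroupOf_eq_top.1 hT
  have hf3 : fK ^ 3 = 1 := Subtype.ext (by simpa [hf] using pow_orderOf_eq_one f)
  have hfo : orderOf fK = 3 := by rw [← Subgroup.orderOf_coe]; exact hf
  have htf : tK * fK * tK⁻¹ = fK⁻¹ := Subtype.ext ht
  have htt : tK * tK = 1 := Subtype.ext ht2
  have hX : Nat.card (zpowers fK) = 3 := by rw [Nat.card_zpowers, hfo]
  have hCX : centralizer (zpowers fK : Set K) = zpowers fK := by
    refine le_antisymm (fun g hg => ?_) (fun g hg => mem_centralizer_iff.2 fun y hy => ?_)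
    · obtain ⟨i, hi⟩ := hC g g.2 (congrArg Subtype.val (mem_centralizer_iff.1 hg fK (mem_zpowers fK))).symm
      exact ⟨i, Subtype.ext (by simpa using hi)⟩
    · obtain ⟨i, rfl⟩ := hy
      obtain ⟨j, rfl⟩ := hg
      exact ((Commute.refl fK).zpow_zpow i j).eq
  have hcore : ∀ N : Subgroup K, N.Normal → (Nat.card N).Coprime 3 → N ≤ H := fun N hN hc => by
    refine (PLocal.Cores.le_pPrimeCore hc).trans fun r hr => ?_
    haveI : (Cfsg.pPrimeCore 3 K).Characteristic := PLocal.Cores.pPrimeCore_characteristic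
    exact hsig _ (map_subtype_le (Cfsg.pPrimeCore 3 K))
      (by rw [card_map_of_injective K.subtype_injective]; exact PLocal.Cores.coprime_card_pPrimeCore)
      (le_normalizer_map_char hAK _) ⟨r, hr, rfl⟩
  -- the images of `f` and `t` in a quotient by a `3'`-group
  have hquot : ∀ (N : Subgroup K) [N.Normal], (Nat.card N).Coprime 3 → N ≤ H →
      6 ∣ Nat.card (H.map (QuotientGroup.mk' N)) ∧ orderOf (QuotientGroup.mk' N fK) = 3 ∧
        orderOf (QuotientGroup.mk' N tK) = 2 ∧ (H.map (QuotientGroup.mk' N) = ⊤ → H = ⊤) := by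
    intro N _ hNc hNH
    set q := QuotientGroup.mk' N with hq
    have hfN : q fK ≠ 1 := fun h => by
      have h1 : fK ∈ N := (QuotientGroup.eq_one_iff _).1 h
      have h2 := orderOf_dvd_natCard (⟨fK, h1⟩ : N)
      rw [← Subgroup.orderOf_coe] at h2
      change orderOf fK ∣ _ at h2
      rw [hfo] at h2
      have := Nat.dvd_gcd h2 (dvd_refl 3)
      rw [hNc.gcd_eq_one] at this
      norm_num at this
    have h3 : orderOf (q fK) = 3 := orderOf_eq_prime (by rw [← map_pow, hf3, map_one]) hfN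
    have h2 : orderOf (q tK) = 2 := orderOf_eq_prime (by rw [pow_two, ← map_mul, htt, map_one]) fun h => by
      have h1 := congrArg q htf
      rw [map_mul, map_mul, map_inv, map_inv, h, one_mul, inv_one, mul_one] at h1
      have h4 : q fK * q fK = 1 := by nth_rewrite 1 [h1]; exact inv_mul_cancel _
      have h5 : (q fK) ^ 3 = 1 := by rw [← h3, pow_orderOf_eq_one]
      rw [pow_succ, pow_two, h4, one_mul] at h5
      exact hfN h5
    refine ⟨?_, h3, h2, fun h => ?_⟩
    · have hd : ∀ x ∈ H, orderOf (q x) ∣ Nat.card (H.map q) := fun x hx => by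
        have := orderOf_dvd_natCard (⟨q x, mem_map_of_mem q hx⟩ : H.map q)
        rwa [← Subgroup.orderOf_coe] at this
      have := Nat.Coprime.mul_dvd_of_dvd_of_dvd (show Nat.Coprime 3 2 by norm_num)
        (h3 ▸ hd fK hfH) (h2 ▸ hd tK htH)
      simpa using this
    · have := congrArg (Subgroup.comap q) h
      rw [comap_map_eq, comap_top, hq, QuotientGroup.ker_mk', sup_eq_left.2 hNH] at this
      exact this
  rcases S3331.result (zpowers fK) hX hCX with ⟨N, hN, -, hNc, h36⟩ | ⟨N, hN, -, hN2, ⟨ea⟩⟩ | ⟨⟨ep⟩⟩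
  · have hNH := hcore N hN hNc
    obtain ⟨h6, -, -, htop⟩ := hquot N hNc hNH
    refine htop (eq_top_of_le_card _ ?_)
    have h1 := Nat.le_of_dvd Nat.card_pos h6
    refine le_trans ?_ h1
    rcases h36 with h | ⟨⟨e⟩⟩
    · rw [h]; norm_num
    · rw [Nat.card_congr e.toEquiv, Nat.card_perm, Nat.card_fin]; norm_num [Nat.factorial]
  · haveI : Fact (Nat.Prime 2) := ⟨Nat.prime_two⟩
    have hNp : IsPGroup 2 N := fun x => ⟨1, Subtype.ext (by simpa using hN2 x x.2)⟩
    have hNc : (Nat.card N).Coprime 3 := by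
      obtain ⟨m, hm⟩ := IsPGroup.iff_card.1 hNp
      rw [hm]; exact Nat.Coprime.pow_left m (by norm_num)
    have hNH := hcore N hN hNc
    obtain ⟨h6, hqf, hqt, htop⟩ := hquot N hNc hNH
    set q := QuotientGroup.mk' N with hq
    have h60 : Nat.card (K ⧸ N) = 60 := by
      rw [Nat.card_congr ea.toEquiv, nat_card_alternatingGroup, Nat.card_fin]; rfl
    haveI : IsSimpleGroup (K ⧸ N) := by
      haveI := alternatingGroup.isSimpleGroup (α := Fin 5) (by norm_num)
      haveI : Nontrivial (K ⧸ N) := ea.toEquiv.nontrivial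
      exact IsSimpleGroup.isSimpleGroup_of_surjective ea.symm.toMonoidHom ea.symm.surjective
    have S0 : Sylow 2 K := default
    have hn : Nat.card (Sylow 2 K) = 5 := by
      set T := S0.mapSurjective (QuotientGroup.mk'_surjective N) with hT
      have hTS : ((T : Subgroup (K ⧸ N))).comap q = (S0 : Subgroup K) := by
        show ((S0 : Subgroup K).map q).comap q = _
        rw [comap_map_eq, sup_eq_left, hq, QuotientGroup.ker_mk']
        exact (PLocal.Cores.le_pCore hNp).trans (PLocal.Cores.pCore_le_sylow S0)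
      rw [S0.card_eq_index_normalizer]
      show (normalizer ((S0 : Subgroup K) : Set K)).index = 5
      rw [← hTS, ← comap_normalizer_eq_of_surjective _ (QuotientGroup.mk'_surjective _),
        index_comap_of_surjective _ (QuotientGroup.mk'_surjective _)]
      show (normalizer (T : Set (K ⧸ N))).index = 5
      rw [← T.card_eq_index_normalizer, sylow_two_five h60]
    obtain ⟨S, hS⟩ := exists_fixed_sylow K A hA hAK (p := 2) (by rw [hn]; norm_num)
    have hSH : (S : Subgroup K) ≤ H := fun s hs => hsig _ (map_subtype_le _) (by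
      rw [card_map_of_injective K.subtype_injective]
      obtain ⟨m, hm⟩ := IsPGroup.iff_card.1 S.2
      rw [hm]; exact Nat.Coprime.pow_left m (by norm_num)) hS ⟨s, hs, rfl⟩
    set T := S.mapSurjective (QuotientGroup.mk'_surjective N) with hT
    have hT4 : Nat.card (T : Subgroup (K ⧸ N)) = 4 := by
      simpa using SmallSimple.Basic.card_sylow_eq_pow (p := 2) (a := 2) (m := 15) (by rw [h60]; norm_num) (by norm_num) T
    have hTH : (T : Subgroup (K ⧸ N)) ≤ H.map q := Subgroup.map_mono hSH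
    have h12 : 12 ∣ Nat.card (H.map q) := Nat.lcm_dvd (m := 4) (n := 6) (hT4 ▸ card_dvd_of_le hTH) h6
    have h60' : Nat.card (H.map q) ∣ 60 := h60 ▸ card_subgroup_dvd_card _
    apply htop
    by_contra hne
    have hlt : Nat.card (H.map q) ≠ 60 := fun h => hne (eq_top_of_card_eq _ (by rw [h, h60]))
    have hH12 : Nat.card (H.map q) = 12 := by
      obtain ⟨m, hm⟩ := h12
      rw [hm] at h60' hlt ⊢
      have := Nat.le_of_dvd (by norm_num) h60'
      have hm5 : m ≤ 5 := by omega
      interval_cases m <;> revert h60' hlt <;> norm_num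
    have hqfN : q fK ∈ normalizer ((T : Subgroup (K ⧸ N)) : Set (K ⧸ N)) := by
      have h1 : fK ∈ normalizer ((S : Subgroup K) : Set K) := by
        refine mem_normalizer_iff.2 fun x => ?_
        have h := mem_normalizer_iff.1 (hS hfA) (x : G)
        constructor
        · intro hx
          obtain ⟨y, hy, hye⟩ := h.1 ⟨x, hx, rfl⟩
          exact (Subtype.ext hye : y = fK * x * fK⁻¹) ▸ hy
        · intro hx
          obtain ⟨y, hy, hye⟩ := h.2 ⟨_, hx, rfl⟩
          exact (Subtype.ext hye : y = x) ▸ hy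
      exact le_normalizer_map q ⟨fK, h1, rfl⟩
    have heq : (T : Subgroup (K ⧸ N)) ⊔ zpowers (q fK) = H.map q := by
      refine eq_of_le_of_card_ge (sup_le hTH (zpowers_le.2 (mem_map_of_mem q hfH))) ?_
      rw [hH12]
      refine Nat.le_of_dvd Nat.card_pos (Nat.lcm_dvd (m := 4) (n := 3) (hT4 ▸ card_dvd_of_le le_sup_left) ?_)
      rw [← hqf, ← Nat.card_zpowers]
      exact card_dvd_of_le le_sup_right
    have hqtN : q tK ∈ normalizer ((T : Subgroup (K ⧸ N)) : Set (K ⧸ N)) := by
      have : H.map q ≤ normalizer ((T : Subgroup (K ⧸ N)) : Set (K ⧸ N)) :=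
        heq ▸ sup_le le_normalizer (zpowers_le.2 hqfN)
      exact this (mem_map_of_mem q htH)
    have hqtT : q tK ∈ (T : Subgroup (K ⧸ N)) := by
      have hp : IsPGroup 2 ((T : Subgroup (K ⧸ N)) ⊔ zpowers (q tK) : Subgroup (K ⧸ N)) :=
        IsPGroup.to_sup_of_normal_left' T.2 (IsPGroup.of_card (n := 1) (by rw [Nat.card_zpowers, hqt, pow_one]))
          (zpowers_le.2 hqtN)
      rw [← T.3 hp le_sup_left]
      exact mem_sup_right (mem_zpowers _)
    have hff : q fK * q fK ∈ (T : Subgroup (K ⧸ N)) := by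
      have h1 : q fK * q tK * (q fK)⁻¹ * (q tK)⁻¹ ∈ (T : Subgroup (K ⧸ N)) :=
        mul_mem ((mem_normalizer_iff.1 hqfN _).1 hqtT) (inv_mem hqtT)
      rwa [show q fK * q tK * (q fK)⁻¹ * (q tK)⁻¹ = q fK * (q tK * q fK * (q tK)⁻¹)⁻¹ by group, ← map_inv q tK,
        ← map_mul, ← map_mul, htf, map_inv, inv_inv] at h1
    have hdvd : orderOf (q fK * q fK) ∣ 4 := by
      have := orderOf_dvd_natCard (⟨_, hff⟩ : (T : Subgroup (K ⧸ N)))
      rw [← Subgroup.orderOf_coe, hT4] at this
      exact this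
    have h4 := orderOf_dvd_iff_pow_eq_one.1 hdvd
    rw [← pow_two, ← pow_mul] at h4
    have := orderOf_dvd_of_pow_eq_one h4
    rw [hqf] at this
    norm_num at this
  · haveI : Fact (Nat.Prime 7) := ⟨by norm_num⟩
    haveI : IsSimpleGroup (Matrix.ProjectiveSpecialLinearGroup (Fin 2) (ZMod 7)) :=
      Classical.Linear.isSimpleGroup_PSL_fin le_rfl fun _ => by rw [ZMod.card]; norm_num
    haveI : IsSimpleGroup K := ep.isSimpleGroup
    have h168 : Nat.card K = 168 := by rw [Nat.card_congr ep.toEquiv, card_psl_seven]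
    have h7n : ¬ 3 ∣ Nat.card (Sylow 7 K) := by
      have hnc := SmallSimple.Basic.not_comm_of_not_prime (G := K) (by rw [h168]; norm_num)
      obtain ⟨hd, hmod, h1, hf'⟩ := SmallSimple.Basic.sylow_count (p := 7) hnc (by rw [h168]; norm_num) (a := 1)
        (m := 24) (by rw [h168]; norm_num) (by norm_num)
      have hle := Nat.le_of_dvd (by norm_num) hd
      generalize Nat.card (Sylow 7 K) = n at hd hmod h1 hle ⊢
      interval_cases n <;> revert hd hmod <;> decide
    obtain ⟨S, hS⟩ := exists_fixed_sylow K A hA hAK (p := 7) h7n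
    have hSH : (S : Subgroup K) ≤ H := fun s hs => hsig _ (map_subtype_le _) (by
      rw [card_map_of_injective K.subtype_injective]
      obtain ⟨m, hm⟩ := IsPGroup.iff_card.1 S.2
      rw [hm]; exact Nat.Coprime.pow_left m (by norm_num)) hS ⟨s, hs, rfl⟩
    have h7 : 7 ∣ Nat.card H := by
      refine dvd_trans ?_ (card_dvd_of_le hSH)
      exact S.dvd_card_of_dvd_card (by rw [h168]; norm_num)
    have h2 : 2 ∣ Nat.card H := by
      have := orderOf_dvd_natCard (⟨tK, htH⟩ : H)
      rw [← Subgroup.orderOf_coe, orderOf_eq_prime (p := 2) (by rw [pow_two]; exact htt) (fun h => ?_)] at this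
      · exact this
      · have h1 := htf
        rw [show (tK : K) = 1 from h, one_mul, inv_one, mul_one] at h1
        have h4 : fK * fK = 1 := by nth_rewrite 1 [h1]; exact inv_mul_cancel _
        have h5 := orderOf_dvd_of_pow_eq_one (show fK ^ 2 = 1 by rw [pow_two, h4])
        rw [hfo] at h5
        norm_num at h5
    have h3 : 3 ∣ Nat.card H := by
      have := orderOf_dvd_natCard (⟨fK, hfH⟩ : H)
      rwa [← Subgroup.orderOf_coe, hfo] at this
    have h42 : 42 ∣ Nat.card H :=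
      Nat.Coprime.mul_dvd_of_dvd_of_dvd (show Nat.Coprime 6 7 by norm_num)
        (Nat.Coprime.mul_dvd_of_dvd_of_dvd (show Nat.Coprime 2 3 by norm_num) h2 h3) h7
    by_contra hne
    have hfac := SmallSimple.Basic.two_mul_card_dvd_factorial
      (SmallSimple.Basic.not_comm_of_not_prime (G := K) (by rw [h168]; norm_num)) H hne
    have hi := card_mul_index H
    obtain ⟨m, hm⟩ := h42
    rw [hm, h168] at hi
    have hidx : H.index ≤ 4 := by
      rcases Nat.eq_zero_or_pos m with rfl | hm0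
      · simp at hi
      · have : 42 * H.index ≤ 42 * m * H.index := by nlinarith
        omega
    have := Nat.le_of_dvd (Nat.factorial_pos _) hfac
    have h24 := Nat.factorial_le hidx
    rw [h168] at this
    norm_num [Nat.factorial] at h24
    omega

end Cover

variable {G : Type*} [Group G] [Finite G] {a : G} {R J : Subgroup G} {φ : Mn → G}

namespace Loc

variable (D : Loc a R J true true φ)
include D

variable {K : Subgroup G} (S6 : SixData J φ K) {f : P6 →* G} (F : SixMap φ K f)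
include S6 F

variable (Θ : SixEnd.S →* G) (hΘi : Function.Injective Θ) (hΘ : ∀ i, Θ (SixEnd.node i) = nodeG φ f i)
include hΘi hΘ

/-- The centralizer of the three transpositions lies in the image. -/
theorem emb_cent_T0 {g : G} (h03 : g * f t03 = f t03 * g)
    (h14 : g * f (Equiv.swap 1 4) = f (Equiv.swap 1 4) * g)
    (h25 : g * f (Equiv.swap 2 5) = f (Equiv.swap 2 5) * g) : g ∈ Θ.range := by
  classical
  haveI : Fact (Nat.Prime 3) := ⟨Nat.prime_three⟩
  obtain ⟨⟨hr03, hr14, hr25⟩, -⟩ := cross_six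
  obtain ⟨hT8, hTsq, -⟩ := klein_six
  obtain ⟨-, -, ⟨-, -, -, -, -, -, hn2, hne3, -⟩, -⟩ := cross_model
  obtain ⟨he0, hsplit, -, -, -, hgen⟩ := cross_aux
  set M := Θ.range with hM
  set e := φ (jM (0, 0, 1)) with he
  set n := φ (wM nCw) with hn
  have he3 : e ^ 3 = 1 := D.jcube _
  have he1 : e ≠ 1 := fun h => he0 (D.jinj (h.trans D.jzero.symm))
  have heM : e ∈ M := D.emb_e3 S6 F Θ hΘi hΘ
  have hnM : n ∈ M := ⟨_, D.emb_twenty S6 F Θ hΘi hΘ⟩
  let Tc : Subgroup P6 := centralizer ({t03, Equiv.swap 1 4, Equiv.swap 2 5} : Set P6)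
  have hTc : ∀ π, π ∈ Tc ↔ π * t03 = t03 * π ∧ π * Equiv.swap 1 4 = Equiv.swap 1 4 * π ∧
      π * Equiv.swap 2 5 = Equiv.swap 2 5 * π := fun π => by
    simp only [Tc, mem_centralizer_iff, Set.mem_insert_iff, Set.mem_singleton_iff, forall_eq_or_imp, forall_eq,
      eq_comm]
  let T : Subgroup G := Tc.map f
  have hTcard : Nat.card T = 8 := by
    rw [card_map_of_injective F.inj, Nat.card_congr (Equiv.subtypeEquivRight hTc), Nat.card_eq_fintype_card]
    exact hT8
  have hT2 : ∀ t ∈ T, t * t = 1 := by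
    rintro _ ⟨π, hπ, rfl⟩
    obtain ⟨h1, h2, h3⟩ := (hTc π).1 hπ
    rw [← map_mul, hTsq π h1 h2 h3, map_one]
  have hTM : T ≤ M := by
    rintro _ ⟨π, -, rfl⟩
    exact D.emb_K S6 F Θ hΘi hΘ π
  have hTe : ∀ t ∈ T, t * e = e * t := by
    rintro _ ⟨π, -, rfl⟩
    exact (F.c π).symm
  let C : Subgroup G := centralizer ({f t03, f (Equiv.swap 1 4), f (Equiv.swap 2 5)} : Set G)
  have hC : ∀ x, x ∈ C ↔ x * f t03 = f t03 * x ∧ x * f (Equiv.swap 1 4) = f (Equiv.swap 1 4) * x ∧
      x * f (Equiv.swap 2 5) = f (Equiv.swap 2 5) * x := fun x => by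
    simp only [C, mem_centralizer_iff, Set.mem_insert_iff, Set.mem_singleton_iff, forall_eq_or_imp, forall_eq,
      eq_comm]
  have hTC : T ≤ C := by
    rintro _ ⟨π, hπ, rfl⟩
    obtain ⟨h1, h2, h3⟩ := (hTc π).1 hπ
    refine (hC _).2 ⟨?_, ?_, ?_⟩ <;> rw [← map_mul, ← map_mul]
    exacts [congrArg f h1, congrArg f h2, congrArg f h3]
  have hCT : ∀ x ∈ C, ∀ t ∈ T, x * t = t * x := by
    intro x hx
    obtain ⟨h1, h2, h3⟩ := (hC x).1 hx
    rintro _ ⟨π, hπ, rfl⟩
    obtain ⟨hh1, hh2, hh3⟩ := (hTc π).1 hπ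
    obtain ⟨i, j, k, rfl⟩ := hgen π hh1 hh2 hh3
    rw [map_mul, map_mul, _root_.map_pow, _root_.map_pow, _root_.map_pow]
    exact (((show Commute x (f t03) from h1).pow_right _).mul_right
      ((show Commute x (f _) from h2).pow_right _)).mul_right ((show Commute x (f _) from h3).pow_right _)
  let P : Subgroup G :=
    { carrier := {x | ∃ v : V3, v.1 = v.2.1 ∧ φ (jM v) = x}
      one_mem' := ⟨0, rfl, D.jzero⟩
      mul_mem' := by
        rintro _ _ ⟨x, hx, rfl⟩ ⟨y, hy, rfl⟩
        exact ⟨x + y, by simp [Prod.fst_add, Prod.snd_add, hx, hy], D.jadd _ _⟩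
      inv_mem' := by
        rintro _ ⟨x, hx, rfl⟩
        exact ⟨-x, by simp [Prod.fst_neg, Prod.snd_neg, hx], D.jneg _⟩ }
  have hPJ : P ≤ J := by rintro _ ⟨x, -, rfl⟩; exact D.memj _
  have hP9 : Nat.card P = 9 := by
    rw [← Nat.card_eq_of_bijective
      (fun v : {v : V3 // v.1 = v.2.1} => (⟨φ (jM v.1), v.1, v.2, rfl⟩ : P))
      ⟨fun x y h => Subtype.ext (D.jinj (congrArg Subtype.val h)),
        fun x => by obtain ⟨v, hv, h⟩ := x.2; exact ⟨⟨v, hv⟩, Subtype.ext h⟩⟩, Nat.card_eq_fintype_card]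
    decide +kernel
  have hPT : P ≤ normalizer (T : Set G) := by
    rintro _ ⟨v, hv, rfl⟩
    obtain ⟨i, j, rfl⟩ := hsplit v hv
    rw [D.jadd, D.jsmul, D.jsmul, ← he]
    refine mul_mem (pow_mem ?_ _) (pow_mem (mem_normalizer_of_comm hTe) _)
    rw [D.e110 S6 F]
    refine mem_normalizer_iff_map_conj_eq.2 (eq_of_le_of_card_ge ?_
      (le_of_eq (card_map_of_injective (K := T) (MulEquiv.injective (MulAut.conj _))).symm))
    rintro _ ⟨_, ⟨π, hπ, rfl⟩, rfl⟩
    refine ⟨cb * cc * π * (cb * cc)⁻¹, (hTc _).2 ?_, ?_⟩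
    swap
    · show f (cb * cc * π * (cb * cc)⁻¹) = f (cb * cc) * f π * (f (cb * cc))⁻¹
      rw [map_mul f (cb * cc * π), map_mul f (cb * cc), map_inv]
    obtain ⟨h1, h2, h3⟩ := (hTc π).1 hπ
    have key : ∀ s s' : P6, cb * cc * s * (cb * cc)⁻¹ = s' → π * s = s * π →
        cb * cc * π * (cb * cc)⁻¹ * s' = s' * (cb * cc * π * (cb * cc)⁻¹) := fun s s' h hπs => by
      rw [← h]
      calc cb * cc * π * (cb * cc)⁻¹ * (cb * cc * s * (cb * cc)⁻¹)
          = cb * cc * (π * s) * (cb * cc)⁻¹ := by group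
        _ = cb * cc * (s * π) * (cb * cc)⁻¹ := by rw [hπs]
        _ = _ := by group
    exact ⟨key _ _ hr25 h3, key _ _ hr03 h1, key _ _ hr14 h2⟩
  -- the quotient
  set N := normalizer (T : Set G) with hN
  have hCN : C ≤ N := fun x hx => mem_normalizer_of_comm (fun t ht => (hCT x hx t ht).symm)
  have heC : e ∈ C := (hC e).2 ⟨F.c _, F.c _, F.c _⟩
  have hnC : n ∈ C := (hC n).2 ⟨F.nC _, F.nC _, F.nC _⟩
  haveI : (T.subgroupOf N).Normal := normal_in_normalizer
  set μ := QuotientGroup.mk' (T.subgroupOf N) with hμ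
  have hker : ∀ x : N, μ x = 1 ↔ (x : G) ∈ T := fun x => by
    rw [hμ, QuotientGroup.mk'_apply, QuotientGroup.eq_one_iff, mem_subgroupOf]
  have heq : ∀ x y : N, μ x = μ y → ∃ t ∈ T, (x : G) = y * t := fun x y h => by
    refine ⟨(y : G)⁻¹ * x, ?_, by group⟩
    have := (hker (y⁻¹ * x)).1 (by rw [_root_.map_mul, _root_.map_inv, h, inv_mul_cancel])
    simpa using this
  set eN : N := ⟨e, hCN heC⟩ with heN'
  set nN : N := ⟨n, hCN hnC⟩ with hnN'
  have hoq : orderOf (μ eN) = 3 := orderOf_eq_prime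
    (by rw [← _root_.map_pow, show eN ^ 3 = 1 from Subtype.ext (by simpa using he3), _root_.map_one])
    fun h => he1 (by
      have h2 := hT2 _ ((hker _).1 h)
      have h3 := he3
      rw [pow_succ, pow_two] at h3
      change e * e = 1 at h2
      rwa [h2, one_mul] at h3)
  set Q := (C.subgroupOf N).map μ with hQ
  set A := (P.subgroupOf N).map μ with hA
  set M' := (M.subgroupOf N).map μ with hM'
  have hQC : ∀ q ∈ Q, q * μ eN = μ eN * q → q ∈ zpowers (μ eN) := by
    rintro _ ⟨x, hx, rfl⟩ hcomm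
    obtain ⟨t, ht, hxe⟩ := heq (x * eN * x⁻¹) eN (by
      rw [_root_.map_mul, _root_.map_mul, _root_.map_inv, hcomm, mul_inv_cancel_right])
    simp only [Subgroup.coe_mul, InvMemClass.coe_inv] at hxe
    change (x : G) * e * (x : G)⁻¹ = e * t at hxe
    have ht1 : t = 1 := by
      have h : ((x : G) * e * (x : G)⁻¹) ^ 3 = 1 := by rw [conj_pow, he3, mul_one, mul_inv_cancel]
      rw [hxe, (show Commute e t from (hTe t ht).symm).mul_pow, he3, one_mul, pow_succ, pow_two, hT2 t ht,
        one_mul] at h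
      exact h
    rw [ht1, mul_one, mul_inv_eq_iff_eq_mul] at hxe
    obtain ⟨π, i, hxs⟩ := D.cent_e3 S6 F hxe
    rw [← he] at hxs
    have hπ : f π ∈ T := by
      refine ⟨π, (hTc π).2 ?_, rfl⟩
      obtain ⟨h1, h2, h3⟩ := (hC (x : G)).1 hx
      refine ⟨?_, ?_, ?_⟩ <;> refine D.e3_comm_iff S6 F (i := i) ?_ <;> rw [← he, ← hxs]
      exacts [h1, h2, h3]
    refine ⟨(i.val : ℤ), ?_⟩
    show μ eN ^ (i.val : ℤ) = μ x
    rw [zpow_natCast, show x = ⟨f π, hCN (hTC hπ)⟩ * eN ^ i.val from Subtype.ext (by simpa using hxs),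
      _root_.map_mul, (hker ⟨f π, hCN (hTC hπ)⟩).2 hπ, one_mul, _root_.map_pow]
  have hPC : P ≤ normalizer (C : Set G) := fun p hp => by
    refine mem_normalizer_iff_map_conj_eq.2 (eq_of_le_of_card_ge ?_ (by
      rw [card_map_of_injective (MulEquiv.injective (MulAut.conj _))]))
    rintro _ ⟨x, hx, rfl⟩
    show p * x * p⁻¹ ∈ C
    have hcom : ∀ t ∈ T, p * x * p⁻¹ * t = t * (p * x * p⁻¹) := fun t ht => by
      have ht' : p⁻¹ * t * p ∈ T := by
        have := (mem_normalizer_iff.1 (hPT (inv_mem hp)) t).1 ht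
        rwa [inv_inv] at this
      calc p * x * p⁻¹ * t = p * (x * (p⁻¹ * t * p)) * p⁻¹ := by group
        _ = p * ((p⁻¹ * t * p) * x) * p⁻¹ := by rw [hCT x hx _ ht']
        _ = _ := by group
    have h1 : ∀ π : P6, π ∈ Tc → f π ∈ T := fun π h => ⟨π, h, rfl⟩
    refine (hC _).2 ⟨hcom _ (h1 _ ((hTc _).2 ?_)), hcom _ (h1 _ ((hTc _).2 ?_)), hcom _ (h1 _ ((hTc _).2 ?_))⟩ <;>
      decide +kernel
  have hcov : Q ≤ M' := by
    refine cover_self_three Q A M' (μ eN) (μ nN) ⟨eN, heC, rfl⟩ ⟨eN, ⟨(0, 0, 1), rfl, rfl⟩, rfl⟩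
      ⟨eN, heM, rfl⟩ ⟨nN, hnC, rfl⟩ ⟨nN, hnM, rfl⟩ ?_ ?_ hoq hQC ?_ ?_ ?_
    · rw [← _root_.map_mul, show nN * nN = 1 from Subtype.ext (by
        show n * n = 1
        rw [hn, ← D.hmul, hn2, D.one]), _root_.map_one]
    · rw [← _root_.map_inv, ← _root_.map_inv, ← _root_.map_mul, ← _root_.map_mul]
      exact congrArg μ (Subtype.ext (by
        show n * e * n⁻¹ = e⁻¹
        rw [hn, he, D.hconjM, hne3, D.hinv]))
    · refine IsPGroup.map ?_ μ
      exact ((D.J_isP).to_le hPJ).of_equiv (subgroupOfEquivOfLe hPT).symm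
    · rintro _ ⟨p, hp, rfl⟩
      refine le_normalizer_map μ ⟨p, ?_, rfl⟩
      refine mem_normalizer_iff.2 fun x => ?_
      rw [mem_subgroupOf, mem_subgroupOf]
      exact mem_normalizer_iff.1 (hPC hp) (x : G)
    · intro S hSQ hS hAS
      let Y : Subgroup G := (S.comap μ).map N.subtype
      have hY3 : (Nat.card Y).Coprime 3 := by
        rw [card_map_of_injective N.subtype_injective, SelfThree.card_comap_mk,
          Nat.card_congr (subgroupOfEquivOfLe (show T ≤ N from le_normalizer)).toEquiv, hTcard]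
        exact Nat.Coprime.mul_left (by norm_num) hS
      have hPY : P ≤ normalizer (Y : Set G) := by
        intro p hp
        have hpn : (⟨p, hPT hp⟩ : N) ∈ normalizer ((S.comap μ : Subgroup N) : Set N) := by
          refine mem_normalizer_iff.2 fun x => ?_
          rw [mem_comap, mem_comap, _root_.map_mul, _root_.map_mul, _root_.map_inv]
          exact mem_normalizer_iff.1 (hAS ⟨_, hp, rfl⟩) (μ x)
        exact le_normalizer_map N.subtype ⟨_, hpn, rfl⟩
      have hle : Y ≤ M := by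
        refine NineSym.le_of_fixed (E := P) (fun x hx y hy => D.J_comm (hPJ hx) (hPJ hy)) hP9
          (fun x hx => D.J_cube (hPJ hx)) hPY hY3 ?_
        rintro _ ⟨v, -, rfl⟩ hv1 y - hyv
        exact D.emb_cent_J S6 F Θ hΘi hΘ (fun h => hv1 (by rw [h, D.jzero])) hyv
      intro s hs
      obtain ⟨x, rfl⟩ := QuotientGroup.mk'_surjective _ s
      exact ⟨x, hle ⟨x, hs, rfl⟩, rfl⟩
  have hg : g ∈ C := (hC g).2 ⟨h03, h14, h25⟩
  obtain ⟨m, hm, hmg⟩ := hcov ⟨⟨g, hCN hg⟩, hg, rfl⟩
  obtain ⟨t, ht, h⟩ := heq ⟨g, hCN hg⟩ m hmg.symm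
  rw [show g = (m : G) * t from h]
  exact mul_mem hm (hTM ht)

end Loc

end Cfsg.Agent.SpThreeCent
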