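import Cfsg.Agent.Lib.SpThreeCent.Pair
import Cfsg.Agent.Lib.SpThreeCent.CentThree
import Cfsg.Agent.Lib.SpThreeCent.SixEnd.Classes

/-!
# The embedded model satisfies the hypothesis of the endgame
-/

set_option autoImplicit false
set_option linter.style.haveILetI false
set_option linter.unusedSectionVars false

namespace Cfsg.Agent.SpThreeCent

open Subgroup
open Cfsg.Agent.NineSym
open Cfsg.Agent.ExtraTwoNine.CoordPerm (P6)

variable {G : Type*} [Group G] [Finite G] {a : G} {R J : Subgroup G} {φ : Mn → G}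

namespace Loc

variable (D : Loc a R J true true φ)
include D

/-- With `C(e₃) = 3 × Sym 6` the model embeds with the hypothesis of the endgame. -/
theorem exists_hyp {K : Subgroup G} (S6 : SixData J φ K) :
    ∃ Θ : SixEnd.S →* G, SixEnd.Hyp Θ := by
  obtain ⟨f, F⟩ := D.exists_sixMap S6
  obtain ⟨Θ, hΘi, hΘ⟩ := D.exists_emb S6 F
  refine ⟨Θ, hΘi, fun σ hσ g hg => D.emb_move S6 F Θ hΘi hΘ σ hσ g hg, fun g h8 h16 => ?_,
    fun i j g hg => D.emb_ne S6 F Θ hΘi hΘ i j g hg⟩
  exact D.emb_pair S6 F Θ hΘi hΘ (fun x h1 h2 h3 => D.emb_cent_T0 S6 F Θ hΘi hΘ h1 h2 h3)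
    SixEnd.exists_conj_rep g h8 h16

end Loc

end Cfsg.Agent.SpThreeCent
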