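import Cfsg.Agent.Lib.SpThreeCent.OrbitTwoClasses
import Cfsg.Agent.Lib.ZStar.Main
import Cfsg.Agent.Lib.Transfer.Frobenius

/-!
# The case of two classes
-/

set_option autoImplicit false
set_option linter.style.haveILetI false
set_option linter.unusedSectionVars false
set_option maxRecDepth 100000
set_option synthInstance.maxSize 10000

namespace Cfsg.Agent.SpThreeCent

open Subgroup
open Cfsg.Agent.NineSym (Mn Wt V3 InL Wok jM jM_add wM wact pact pmul SylowAt)
open Cfsg.Agent.PSpAmalgam (SL3 negOne)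

theorem le_of_plength_one {H : Type*} [Group H] [Finite H] (P : Sylow 3 H) (hl : Cfsg.PLengthLE 3 1 H)
    (L : Subgroup H) (hR : ∀ R : Subgroup H, R.Normal → (Nat.card R).Coprime 3 → R ≤ L)
    (hN : normalizer ((P : Subgroup H) : Set H) ≤ L) : L = ⊤ := by
  haveI : Fact (Nat.Prime 3) := ⟨Nat.prime_three⟩
  set T1 := (Cfsg.upperPSeries 3 H 1).1 with hT1
  haveI hn1 : T1.Normal := (Cfsg.upperPSeries 3 H 1).2
  have e1 : T1 = (Cfsg.pPrimeCore 3 (H ⧸ (Cfsg.upperPSeries 3 H 0).1)).comap (QuotientGroup.mk' _) := rfl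
  set T2 := (Cfsg.upperPSeries 3 H 2).1 with hT2
  haveI hn2 : T2.Normal := (Cfsg.upperPSeries 3 H 2).2
  have e2 : T2 = (Cfsg.pCore 3 (H ⧸ T1)).comap (QuotientGroup.mk' T1) := rfl
  have e3 : (Cfsg.pPrimeCore 3 (H ⧸ T2)).comap (QuotientGroup.mk' T2) = ⊤ := hl
  have hc1 : (Nat.card T1).Coprime 3 := by
    have h := PLocal.Cores.card_comap_eq (Cfsg.pPrimeCore 3 (H ⧸ (Cfsg.upperPSeries 3 H 0).1))
      (QuotientGroup.mk'_surjective (Cfsg.upperPSeries 3 H 0).1)
    rw [QuotientGroup.ker_mk', show Nat.card (Cfsg.upperPSeries 3 H 0).1 = 1 from card_bot] at h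
    rw [e1, h]
    simpa using PLocal.Cores.coprime_card_pPrimeCore (G := H ⧸ (Cfsg.upperPSeries 3 H 0).1) (p := 3)
  have hP2 : (P : Subgroup H) ≤ T2 := fun s hs => by
    rw [← QuotientGroup.eq_one_iff, ← orderOf_eq_one_iff]
    have htop : Cfsg.pPrimeCore 3 (H ⧸ T2) = ⊤ := by
      rw [← map_comap_eq_self_of_surjective (QuotientGroup.mk'_surjective T2) (Cfsg.pPrimeCore 3 (H ⧸ T2)), e3,
        map_top_of_surjective _ (QuotientGroup.mk'_surjective T2)]
    have hcop := PLocal.Cores.coprime_card_pPrimeCore (G := H ⧸ T2) (p := 3)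
    rw [htop, card_top] at hcop
    obtain ⟨k, hk⟩ := P.2 ⟨s, hs⟩
    have hk' : s ^ 3 ^ k = 1 := by simpa using congrArg Subtype.val hk
    have h1 : orderOf (QuotientGroup.mk' T2 s) ∣ 3 ^ k :=
      orderOf_dvd_of_pow_eq_one (by rw [← map_pow, hk', map_one])
    have h2 : orderOf (QuotientGroup.mk' T2 s) ∣ Nat.card (H ⧸ T2) := orderOf_dvd_natCard _
    exact Nat.dvd_one.1 ((hcop.pow_right k) ▸ Nat.dvd_gcd h2 h1)
  have hT2le : ∀ y ∈ T2, ∃ t ∈ T1, ∃ s ∈ (P : Subgroup H), y = t * s := by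
    intro y hy
    rw [e2] at hy
    obtain ⟨s, hs, e⟩ := PLocal.Cores.pCore_le_sylow (P.mapSurjective (QuotientGroup.mk'_surjective T1))
      (mem_comap.1 hy)
    refine ⟨y * s⁻¹, ?_, s, hs, (inv_mul_cancel_right y s).symm⟩
    rw [← QuotientGroup.eq_one_iff]
    show QuotientGroup.mk' T1 (y * s⁻¹) = 1
    rw [map_mul, map_inv, e, mul_inv_cancel]
  have hT2L : T2 ≤ L := fun y hy => by
    obtain ⟨t, ht, s, hs, rfl⟩ := hT2le y hy
    exact mul_mem (hR T1 hn1 hc1 ht) (hN (le_normalizer hs))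
  rw [eq_top_iff, ← Sylow.normalizer_sup_eq_top' P hP2]
  exact sup_le hN hT2L

/-- A group with a noncyclic Sylow subgroup of order nine inverted by an involution lies in a
subgroup containing the normalizer and the invariant `3'`-subgroups. -/
theorem le_of_inverted {G : Type*} [Group G] [Finite G] {C S L : Subgroup G} (hS : SylowAt C S)
    (hcomm : ∀ x ∈ S, ∀ y ∈ S, x * y = y * x) (hexp : ∀ x ∈ S, x ^ 3 = 1) (h9 : Nat.card S = 9)
    {w : G} (hwC : w ∈ C) (hw2 : w * w = 1) (hwS : ∀ s ∈ S, w * s * w⁻¹ = s⁻¹)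
    (hN : ∀ g ∈ C, g ∈ normalizer (S : Set G) →
      (∀ s ∈ S, g * s * g⁻¹ = s) ∨ (∀ s ∈ S, g * s * g⁻¹ = s⁻¹))
    (hnorm : ∀ g ∈ C, g ∈ normalizer (S : Set G) → g ∈ L)
    (hcore : ∀ T : Subgroup G, T ≤ C → (Nat.card T).Coprime 3 → S ≤ normalizer (T : Set G) → T ≤ L) :
    C ≤ L := by
  classical
  haveI : Fact (Nat.Prime 3) := ⟨Nat.prime_three⟩
  obtain ⟨P, hP⟩ := hS.exists_sylow
  have hmem : ∀ s : C, s ∈ (P : Subgroup C) ↔ (s : G) ∈ S := fun s => by rw [hP]; rfl
  have hPn : ∀ n : C, n ∈ normalizer ((P : Subgroup C) : Set C) → (n : G) ∈ normalizer (S : Set G) := by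
    intro n hn
    refine mem_normalizer_iff.2 fun y => ⟨fun hy => ?_, fun hy => ?_⟩
    · exact (hmem _).1 ((mem_normalizer_iff.1 hn ⟨y, hS.le hy⟩).1 ((hmem _).2 hy))
    · have hyC : y ∈ C := by
        have := mul_mem (mul_mem (inv_mem n.2) (hS.le hy)) n.2
        simpa [mul_assoc] using this
      exact (hmem _).1 ((mem_normalizer_iff.1 hn ⟨y, hyC⟩).2 ((hmem _).2 hy))
  have hab : IsMulCommutative (P : Subgroup C) :=
    ⟨⟨fun a b => Subtype.ext (Subtype.ext (hcomm _ ((hmem _).1 a.2) _ ((hmem _).1 b.2)))⟩⟩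
  have hP9 : Nat.card (P : Subgroup C) = 9 := by
    rw [hP, Nat.card_congr (subgroupOfEquivOfLe hS.le).toEquiv, h9]
  have hnc : ¬ IsCyclic (P : Subgroup C) := fun hc => by
    obtain ⟨g, hg⟩ := hc.exists_ofOrder_eq_natCard
    have : orderOf g ∣ 3 := orderOf_dvd_of_pow_eq_one (Subtype.ext (Subtype.ext (by
      simpa using hexp _ ((hmem _).1 g.2))))
    rw [hg, hP9] at this
    norm_num at this
  let wC : C := ⟨w, hwC⟩
  have hwP : wC ∈ normalizer ((P : Subgroup C) : Set C) := by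
    refine mem_normalizer_iff.2 fun y => ?_
    rw [hmem, hmem]
    simp only [Subgroup.coe_mul, InvMemClass.coe_inv, wC]
    constructor
    · intro hy; rw [hwS _ hy]; exact inv_mem hy
    · intro hy
      have h := inv_mem hy
      rw [← hwS _ hy, inv_eq_of_mul_eq_one_left hw2] at h
      rw [show w * (w * (y : G) * w) * w = w * w * y * (w * w) by group, hw2, one_mul, mul_one] at h
      exact h
  have hidx : ((centralizer ((P : Subgroup C) : Set C)).subgroupOf
      (normalizer ((P : Subgroup C) : Set C))).index = 2 := by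
    refine Subgroup.index_eq_two_iff.2 ⟨⟨wC, hwP⟩, fun g => ?_⟩
    have hcase := hN _ g.1.2 (hPn g.1 g.2)
    have hcen : ∀ k : normalizer ((P : Subgroup C) : Set C),
        k ∈ (centralizer ((P : Subgroup C) : Set C)).subgroupOf (normalizer ((P : Subgroup C) : Set C)) ↔
          ∀ s ∈ S, ((k : C) : G) * s * ((k : C) : G)⁻¹ = s := by
      intro k
      rw [mem_subgroupOf, mem_centralizer_iff]
      constructor
      · intro h s hs
        have := congrArg Subtype.val (h ⟨s, hS.le hs⟩ ((hmem _).2 hs))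
        rw [mul_inv_eq_iff_eq_mul]
        exact this.symm
      · intro h s hs
        exact Subtype.ext (mul_inv_eq_iff_eq_mul.1 (h _ ((hmem _).1 hs))).symm
    obtain ⟨s0, hs0, hs1⟩ : ∃ s ∈ S, s⁻¹ ≠ s := by
      by_contra h
      push Not at h
      have h1 : S ≤ ⊥ := fun s hs => mem_bot.2 (by
        have h3 := hexp s hs
        have := h s hs
        rw [inv_eq_iff_mul_eq_one] at this
        rwa [pow_succ, pow_two, this, one_mul] at h3)
      rw [le_bot_iff] at h1
      rw [h1, card_bot] at h9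
      norm_num at h9
    rw [hcen, hcen]
    simp only [Subgroup.coe_mul, wC]
    rcases hcase with h | h
    · refine Or.inr ⟨h, fun h' => hs1 ?_⟩
      have e := h' s0 hs0
      rwa [show ((g : C) : G) * w * s0 * (((g : C) : G) * w)⁻¹ = ((g : C) : G) * (w * s0 * w⁻¹) * ((g : C) : G)⁻¹ by
        group, hwS _ hs0, h _ (inv_mem hs0)] at e
    · refine Or.inl ⟨fun s hs => ?_, fun h' => hs1 ?_⟩
      · rw [show ((g : C) : G) * w * s * (((g : C) : G) * w)⁻¹ = ((g : C) : G) * (w * s * w⁻¹) * ((g : C) : G)⁻¹ by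
          group, hwS _ hs, h _ (inv_mem hs), inv_inv]
      · exact (h _ hs0).symm.trans (h' s0 hs0)
  have hres : Cfsg.pResidual 3 C = ⊤ := by
    haveI : (Cfsg.pResidual 3 C).Normal := inferInstance
    have hinv : ∀ y : C, y * y = 1 → y ∈ Cfsg.pResidual 3 C := fun y hy => by
      refine subset_closure ?_
      exact (by norm_num : Nat.Coprime 2 3).coprime_dvd_left (orderOf_dvd_of_pow_eq_one (by rw [pow_two, hy]))
    have hPle : (P : Subgroup C) ≤ Cfsg.pResidual 3 C := fun s hs => by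
      have h1 : (s * wC) * (s * wC) = 1 := Subtype.ext (by
        simp only [Subgroup.coe_mul, Subgroup.coe_one, wC]
        rw [show (s : G) * w * ((s : G) * w) = (s : G) * (w * s * w⁻¹) * (w * w) by group, hwS _ ((hmem s).1 hs),
          hw2, mul_inv_cancel, one_mul])
      have h := mul_mem (hinv _ h1) (hinv wC (Subtype.ext hw2))
      rwa [mul_assoc, show wC * wC = 1 from Subtype.ext hw2, mul_one] at h
    refine eq_top_of_card_eq _ (Nat.dvd_antisymm (card_subgroup_dvd_card _) ?_)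
    rw [Nat.dvd_iff_prime_pow_dvd_dvd]
    intro p n hp hdvd
    haveI : Fact p.Prime := ⟨hp⟩
    rcases eq_or_ne p 3 with rfl | hp3
    · exact (P.pow_dvd_card_of_pow_dvd_card hdvd).trans (card_dvd_of_le hPle)
    · refine ((default : Sylow p C).pow_dvd_card_of_pow_dvd_card hdvd).trans (card_dvd_of_le fun y hy => ?_)
      refine subset_closure ?_
      obtain ⟨k, hk⟩ := (default : Sylow p C).2 ⟨y, hy⟩
      have hk' : y ^ p ^ k = 1 := by simpa using congrArg Subtype.val hk
      exact (Nat.Coprime.pow_left k ((Nat.coprime_primes hp Nat.prime_three).2 hp3)).coprime_dvd_left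
        (orderOf_dvd_of_pow_eq_one hk')
  rcases S3347.result 3 (by norm_num) P hab hnc hidx with h | h
  · exact absurd hres h
  have htop := le_of_plength_one P h (L.subgroupOf C) (fun T hTn hTc t ht => mem_subgroupOf.2
    (hcore (T.map C.subtype) (map_subtype_le T) (by rwa [card_map_of_injective C.subtype_injective])
      (fun s hs => le_normalizer_map C.subtype ⟨⟨s, hS.le hs⟩, by rw [normalizer_eq_top]; exact mem_top _, rfl⟩)
      ⟨t, ht, rfl⟩)) (fun n hn => mem_subgroupOf.2 (hnorm _ n.2 (hPn n hn)))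
  exact fun c hc => mem_subgroupOf.1 (htop.symm ▸ mem_top (⟨c, hc⟩ : C))

theorem t_cent : ∀ p : Mn, p.w.k = 0 → p * tM = tM * p →
    Axis p.v ∧ p.w * p.w = 1 ∧ ((∀ v, Axis v → wact p.w v = v) ∨ ∀ v, Axis v → wact p.w v = -v) := by
  decide +kernel

theorem iM_facts : iM * iM = 1 ∧ iM * tM = tM * iM ∧ (∀ v : V3, wact iM.w v = -v) ∧
    (∀ v i, iM * mP v i * iM⁻¹ = mP (-v) i) ∧ ∀ v : V3, jM (-v) = (jM v)⁻¹ := by
  decide +kernel

theorem tM_facts : (∀ v : V3, Axis v → wact tM.w v = v) ∧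
    ∀ w : Wt, w.k = 0 → ∀ v : V3, Plane v → ¬ Diag v → ¬ Axis (wact w v) := by
  decide +kernel

theorem tM_x : wact tM.w (0, 1, 2) ≠ ((0, 1, 2) : V3) := by decide +kernel

variable {G : Type*} [Group G] [Finite G] {a : G} {R J : Subgroup G} {φ : Mn → G}
variable (D : Loc a R J true false φ)
include D

local notation "M" => normalizer (zpowers a : Set G)

theorem Loc.normJ_of_axis {g : G} (hg : g ∈ normalizer (D.axis : Set G)) : g ∈ normalizer (J : Set G) := by
  refine mem_normalizer_fintype fun j hj => ?_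
  set z := g * j * g⁻¹ with hz
  have hzc : ∀ v : V3, Axis v → z * φ (jM v) = φ (jM v) * z := by
    intro v hv
    have h : g⁻¹ * φ (jM v) * g ∈ D.axis := by
      have := (mem_normalizer_iff.1 (inv_mem hg) (φ (jM v))).1 (D.axis_iff.2 hv)
      simpa using this
    have hc : Commute j (g⁻¹ * φ (jM v) * g) := D.jdata.comm j hj _ (D.axis_le h)
    calc z * φ (jM v) = g * (j * (g⁻¹ * φ (jM v) * g)) * g⁻¹ := by rw [hz]; group
      _ = g * ((g⁻¹ * φ (jM v) * g) * j) * g⁻¹ := by rw [hc.eq]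
      _ = _ := by rw [hz]; group
  have hy : z * φ (jM (1, 0, 0)) = φ (jM (1, 0, 0)) * z := hzc _ rfl
  obtain ⟨p, hp, e⟩ := D.norm_eq z (D.cent_y (α := 1) (β := 0) (by decide) (mem_centralizer_singleton_iff.2 hy))
  show z ∈ J
  rw [← e] at hy ⊢
  have hw := (y_fix _ (inL_iff.1 hp) 1 0 (by decide) ((D.comm_iff hp _).1 hy)).1
  refine D.mem_J_of hp (D.w_one hp (k := 1) ?_ ?_)
  · rw [e, hz, conj_pow, pow_one, D.jdata.exp j hj, mul_one, mul_inv_cancel]
  · rcases hw with h | h <;> rw [h] <;> decide +kernel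

theorem Loc.iota_facts : φ iM * φ iM = 1 ∧ φ iM * φ tM = φ tM * φ iM ∧
    (∀ v, φ iM * φ (jM v) * (φ iM)⁻¹ = (φ (jM v))⁻¹) ∧ φ iM ∈ normalizer (R : Set G) := by
  have hi : InL true false iM := inL_iff.2 rfl
  have ht : InL true false tM := inL_iff.2 rfl
  refine ⟨?_, ?_, fun v => ?_, ?_⟩
  · rw [← D.hom _ _ hi hi, iM_facts.1, D.map_one]
  · rw [← D.hom _ _ hi ht, ← D.hom _ _ ht hi, iM_facts.2.1]
  · rw [D.conj_j hi, iM_facts.2.2.1, iM_facts.2.2.2.2, D.map_inv (D.inLjM v)]
  · refine mem_normalizer_fintype fun r hr => ?_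
    obtain ⟨v, i, hv, rfl⟩ := D.form_R hr
    show φ iM * φ (mP v i) * (φ iM)⁻¹ ∈ R
    rw [← D.map_inv hi, ← D.hom _ _ hi (D.inLmP _ _),
      ← D.hom _ _ (inL_iff.2 (inL_mul_two _ _ rfl rfl)) (inL_iff.2 (inL_wt_inv _ rfl)), iM_facts.2.2.2.1]
    exact D.mP_mem_R ((by decide +kernel : ∀ v : V3, Plane v → Plane (-v)) v hv) i

theorem Loc.M_le_normR : M ≤ normalizer (R : Set G) := by
  obtain ⟨hi2, -, hiv, hiR⟩ := D.iota_facts
  intro g hg
  rcases D.mem_M_iff.1 hg with e | e
  · exact D.norm (mem_centralizer_singleton_iff.2 (mul_inv_eq_iff_eq_mul.1 e))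
  · have h1 : g * φ iM ∈ normalizer (R : Set G) := by
      refine D.norm (mem_centralizer_singleton_iff.2 (mul_inv_eq_iff_eq_mul.1 ?_))
      have hia : φ iM * a * (φ iM)⁻¹ = a⁻¹ := by rw [← D.a_eq]; exact hiv _
      calc g * φ iM * a * (g * φ iM)⁻¹ = g * (φ iM * a * (φ iM)⁻¹) * g⁻¹ := by group
        _ = (g * a * g⁻¹)⁻¹ := by rw [hia]; group
        _ = a := by rw [e, inv_inv]
    have := mul_mem h1 hiR
    rwa [mul_assoc, hi2, mul_one] at this

/-- An involution inverting `a` fixes an element of `R` outside `⟨a⟩`. -/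
theorem Loc.exists_fixed_R {s : G} (hs2 : s * s = 1) (hsR : s ∈ normalizer (R : Set G))
    (hsa : s * a * s = a⁻¹) : ∃ u ∈ R, u ∉ zpowers a ∧ s * u = u * s := by
  classical
  by_contra hcon
  push Not at hcon
  have hsi : s⁻¹ = s := inv_eq_of_mul_eq_one_left hs2
  have hfix : ∀ u ∈ R, s * u * s = u → u = 1 := by
    intro u hu h
    have hc : s * u = u * s := by
      calc s * u = s * u * (s * s) := by rw [hs2, mul_one]
        _ = _ := by rw [← mul_assoc, h]
    by_contra hu1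
    refine hcon u hu (fun hz => ?_) hc
    have h2 : u⁻¹ = u := by
      rcases (D.pow_zp hz).resolve_left hu1 with rfl | rfl
      · rw [← hsa]; exact h
      · have e : s * a⁻¹ * s = a := by
          rw [show s * a⁻¹ * s = (s * a * s)⁻¹ by rw [mul_inv_rev, mul_inv_rev, hsi, mul_assoc], hsa, inv_inv]
        rw [inv_inv, ← e]
        rwa [e] at h ⊢
    have h3 : u ^ 3 = 1 := D.exp u hu
    rw [inv_eq_iff_mul_eq_one] at h2
    rw [pow_succ, pow_two, h2, one_mul] at h3
    exact hu1 h3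
  have hconj : ∀ r ∈ R, s * r * s ∈ R := fun r hr => by
    have := (mem_normalizer_iff.1 hsR r).1 hr
    rwa [hsi] at this
  let f : R → R := fun r => ⟨(r : G)⁻¹ * (s * r * s), mul_mem (inv_mem r.2) (hconj _ r.2)⟩
  have hf : Function.Injective f := by
    intro r q h
    have h' : (r : G)⁻¹ * (s * r * s) = (q : G)⁻¹ * (s * q * s) := congrArg Subtype.val h
    apply Subtype.ext
    refine (mul_inv_eq_one.1 (hfix ((q : G) * (r : G)⁻¹) (mul_mem q.2 (inv_mem r.2)) ?_)).symm
    have e : s * ((r : G)⁻¹) * s = (s * r * s)⁻¹ := by rw [mul_inv_rev, mul_inv_rev, hsi, mul_assoc]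
    calc s * ((q : G) * (r : G)⁻¹) * s = (s * q * s) * (s * (r : G)⁻¹ * s) := by
          rw [show s * (q : G) * s * (s * (r : G)⁻¹ * s) = s * q * (s * s) * (r : G)⁻¹ * s by group, hs2, mul_one]
          group
      _ = (q : G) * ((r : G)⁻¹ * (s * r * s)) * (s * r * s)⁻¹ := by rw [e, h']; group
      _ = _ := by group
  have hinv : ∀ r ∈ R, s * r * s = r⁻¹ := by
    intro r hr
    obtain ⟨q, hq⟩ := (Finite.injective_iff_surjective.1 hf) ⟨r, hr⟩
    have hq' : (q : G)⁻¹ * (s * q * s) = r := congrArg Subtype.val hq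
    have e1 : s * r * s = s * (q : G)⁻¹ * s * (q : G) := by
      rw [← hq', show s * ((q : G)⁻¹ * (s * q * s)) * s = s * (q : G)⁻¹ * s * q * (s * s) by group, hs2, mul_one]
    rw [e1, ← hq', mul_inv_rev, mul_inv_rev, mul_inv_rev, inv_inv, hsi]
    group
  have hle : R ≤ zpowers a := fun x hx => D.center x hx fun y hy => by
    have h1 := hinv _ (mul_mem hx hy)
    rw [show s * (x * y) * s = s * x * (s * s) * y * s by rw [hs2]; group] at h1
    rw [show s * x * (s * s) * y * s = (s * x * s) * (s * y * s) by group, hinv x hx, hinv y hy,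
      ← mul_inv_rev, inv_inj] at h1
    exact h1.symm
  have := card_dvd_of_le hle
  rw [D.card_R, Nat.card_zpowers, D.order] at this
  norm_num at this

theorem Loc.sylow_t : SylowAt (centralizer ({φ tM} : Set G)) D.axis := by
  refine SylowAt.of_normalizer ?_ (IsPGroup.of_card (p := 3) (n := 2) (by rw [D.card_axis]; norm_num))
    fun g hgC hg ⟨k, hk⟩ => ?_
  · rintro _ ⟨v, hv, rfl⟩
    refine mem_centralizer_singleton_iff.2 ?_
    exact ((D.comm_iff (p := tM) (inL_iff.2 rfl) v).2 (tM_facts.1 v hv)).symm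
  · obtain ⟨p, hp, rfl⟩ := D.norm_eq g (D.normJ_of_axis hg)
    have ht : InL true false tM := inL_iff.2 rfl
    have hc := mem_centralizer_singleton_iff.1 hgC
    rw [← D.hom _ _ hp ht, ← D.hom _ _ ht hp] at hc
    obtain ⟨hv, hw, -⟩ := t_cent p (inL_iff.1 hp) (D.inj _ _ (inL_iff.2 (inL_mul_two _ _ (inL_iff.1 hp) rfl))
      (inL_iff.2 (inL_mul_two _ _ rfl (inL_iff.1 hp))) hc)
    have hw1 := D.w_one hp hk hw
    obtain ⟨pv, pw⟩ := p
    exact ⟨pv, hv, by rw [jM, show (pw : Wt) = 1 from hw1]⟩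

/-- The centralizer of the involution. -/
theorem Loc.cent_t : centralizer ({φ tM} : Set G) ≤ M := by
  obtain ⟨hi2, hit, hiv, -⟩ := D.iota_facts
  have hcomm : ∀ x ∈ D.axis, ∀ y ∈ D.axis, x * y = y * x :=
    fun x hx y hy => D.jdata.comm x (D.axis_le hx) y (D.axis_le hy)
  have hexp : ∀ x ∈ D.axis, x ^ 3 = 1 := fun x hx => D.jdata.exp x (D.axis_le hx)
  refine le_of_inverted D.sylow_t hcomm hexp D.card_axis (w := φ iM) (mem_centralizer_singleton_iff.2 hit) hi2
    (by rintro _ ⟨v, -, rfl⟩; exact hiv v) (fun g hgC hg => ?_)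
    (fun g _ hg => D.normJ_le_M (D.normJ_of_axis hg)) fun T hTC hT hXT => ?_
  · obtain ⟨p, hp, rfl⟩ := D.norm_eq g (D.normJ_of_axis hg)
    have ht : InL true false tM := inL_iff.2 rfl
    have hc := mem_centralizer_singleton_iff.1 hgC
    rw [← D.hom _ _ hp ht, ← D.hom _ _ ht hp] at hc
    obtain ⟨-, -, hcase⟩ := t_cent p (inL_iff.1 hp) (D.inj _ _ (inL_iff.2 (inL_mul_two _ _ (inL_iff.1 hp) rfl))
      (inL_iff.2 (inL_mul_two _ _ rfl (inL_iff.1 hp))) hc)
    rcases hcase with h | h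
    · refine Or.inl ?_
      rintro _ ⟨v, hv, rfl⟩
      rw [D.conj_j hp, h v hv]
    · refine Or.inr ?_
      rintro _ ⟨v, hv, rfl⟩
      rw [D.conj_j hp, h v hv, ← D.map_inv (D.inLjM v), iM_facts.2.2.2.2]
  · refine NineSym.le_of_fixed hcomm D.card_axis hexp hXT hT fun v hv hv1 r _ hrv => ?_
    exact D.cent_three (D.jdata.le (D.axis_le hv)) (hexp v hv) hv1 (mem_centralizer_singleton_iff.2 hrv)

/-- The involution is isolated. -/
theorem Loc.isolated : Cfsg.IsIsolatedInvolution (φ tM) := by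
  obtain ⟨htt, htC, htR⟩ := D.t_facts
  refine ⟨orderOf_eq_prime (by rw [pow_two, htt]) fun e => htR (e ▸ one_mem R), fun g hg => ?_⟩
  set s := g * φ tM * g⁻¹ with hs
  have hss : s * s = 1 := by
    rw [hs, show g * φ tM * g⁻¹ * (g * φ tM * g⁻¹) = g * (φ tM * φ tM) * g⁻¹ by group, htt, mul_one,
      mul_inv_cancel]
  have hsM : s ∈ M := D.cent_t (mem_centralizer_singleton_iff.2 hg.symm.eq)
  rcases D.mem_M_iff.1 hsM with e | e
  · have hsC : s ∈ centralizer ({a} : Set G) := mem_centralizer_singleton_iff.2 (mul_inv_eq_iff_eq_mul.1 e)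
    obtain ⟨π, -, hπk⟩ := D.quot
    set r : ↥(centralizer ({a} : Set G)) := ⟨φ tM, htC⟩ * ⟨s, hsC⟩ with hr
    have hrR : (r : G) ∈ R := by
      rcases sl_facts.1 (π ⟨s, hsC⟩) (by
        rw [← _root_.map_mul, show (⟨s, hsC⟩ : ↥(centralizer ({a} : Set G))) * ⟨s, hsC⟩ = 1 from Subtype.ext hss,
          _root_.map_one]) with h | h
      · have h3 := D.exp s ((hπk _).1 h)
        rw [pow_succ, pow_two, hss, one_mul] at h3
        rw [hs, conj_eq_one_iff] at h3
        exact absurd (h3 ▸ one_mem R) htR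
      · rw [← hπk, hr, _root_.map_mul, D.t_quot hπk, h, sl_neg_facts.1]
    have h2 : (φ tM * s) * (φ tM * s) = 1 := by
      rw [show φ tM * s * (φ tM * s) = φ tM * (s * φ tM) * s by group, ← hg.eq,
        show φ tM * (φ tM * s) * s = (φ tM * φ tM) * (s * s) by group, htt, hss, one_mul]
    have h3 := D.exp _ hrR
    simp only [hr, Subgroup.coe_mul] at h3
    rw [pow_succ, pow_two, h2, one_mul] at h3
    have h4 := eq_inv_of_mul_eq_one_left h3
    rw [inv_eq_of_mul_eq_one_left hss] at h4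
    exact h4.symm
  · exfalso
    have hsi : s⁻¹ = s := inv_eq_of_mul_eq_one_left hss
    rw [hsi] at e
    obtain ⟨u, huR, hua, hsu⟩ := D.exists_fixed_R hss (D.M_le_normR hsM) e
    obtain ⟨c, hc, v, hv, hvd, hcu⟩ := D.R_conj huR hua
    have hgu : g⁻¹ * u * g ∈ centralizer ({φ tM} : Set G) := by
      refine mem_centralizer_singleton_iff.2 ?_
      calc g⁻¹ * u * g * φ tM = g⁻¹ * (u * s) * g := by rw [hs]; group
        _ = g⁻¹ * (s * u) * g := by rw [hsu]
        _ = _ := by rw [hs]; group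
    obtain ⟨h, -, hh⟩ := sylow_conj D.sylow_t hgu (k := 1) (by
      have := D.exp u huR
      calc (g⁻¹ * u * g) ^ 3 ^ 1 = g⁻¹ * u ^ 3 * g := by
            rw [pow_one, show g⁻¹ * u * g = g⁻¹ * u * g⁻¹⁻¹ by rw [inv_inv], conj_pow, inv_inv]
        _ = 1 := by rw [this]; group)
    obtain ⟨w, hw, hwe⟩ := hh
    obtain ⟨p, hp, hpw⟩ := D.fus v w (h * g⁻¹ * c⁻¹) (by rw [hwe, ← hcu]; group)
    exact tM_facts.2 p.w (inL_iff.1 hp) v hv hvd (hpw ▸ hw)

theorem Loc.odd_inf_le {O : Subgroup G} [O.Normal] (hodd : Odd (Nat.card O)) : O ⊓ M ≤ R := by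
  rintro g ⟨hgO, hgM⟩
  have hgC : g ∈ centralizer ({a} : Set G) := D.odd_cent hgM hodd (by
    have := congrArg Subtype.val (pow_card_eq_one' (x := (⟨g, hgO⟩ : O)))
    rwa [Subgroup.coe_pow] at this)
  obtain ⟨π, hπs, hπk⟩ := D.quot
  by_contra hgR
  set I := (O.subgroupOf (centralizer ({a} : Set G))).map π with hI
  haveI : I.Normal := Normal.map inferInstance π hπs
  have hIodd : Odd (Nat.card I) := Odd.of_dvd_nat hodd
    (((card_map_dvd (O.subgroupOf (centralizer ({a} : Set G))) π)).trans (by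
      rw [← card_map_of_injective (centralizer ({a} : Set G)).subtype_injective, subgroupOf_map_subtype]
      exact card_dvd_of_le inf_le_left))
  have hgI : π ⟨g, hgC⟩ ∈ I := mem_map_of_mem π (mem_subgroupOf.2 hgO)
  obtain ⟨c, k, hk⟩ := sl_neg_power _ (fun h => hgR ((hπk ⟨g, hgC⟩).1 h))
  have hn : negOne ∈ I := by
    rcases hk with h | h <;> rw [← h]
    · exact pow_mem hgI _
    · exact pow_mem (mul_mem ((inferInstance : I.Normal).conj_mem _ hgI c) (inv_mem hgI)) _
  have ho : orderOf negOne = 2 := orderOf_eq_prime (by rw [pow_two]; exact sl_neg_facts.1) sl_neg_facts.2.2.1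
  have h2 : 2 ∣ Nat.card I :=
    (dvd_of_eq (by rw [Nat.card_zpowers, ho])).trans (card_dvd_of_le (zpowers_le.2 hn))
  exact absurd h2 (Nat.two_dvd_ne_zero.2 (Nat.odd_iff.1 hIodd))

/-- With the inversion and without the sign changes the subgroup of order three is normal. -/
theorem normal_of_pair : normalizer (zpowers a : Set G) = ⊤ := by
  classical
  haveI : Fact (Nat.Prime 3) := ⟨Nat.prime_three⟩
  set O := Cfsg.oddCore G with hO
  haveI : O.Normal := ZStar.Main.oddCore_normal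
  have hodd : Odd (Nat.card O) := InvChar.Core.odd_card_oddCore
  have hOJ : J ≤ normalizer (O : Set G) := by rw [normalizer_eq_top]; exact le_top
  have hOne : O ≠ ⊥ := by
    intro h
    have hc := ZStar.Main.mem_center_of_isolated h D.isolated
    have h1 := mem_center_iff.1 hc (φ (jM (0, 1, 2)))
    have h2 := (D.comm_iff (p := tM) (inL_iff.2 rfl) (0, 1, 2)).1 h1.symm
    exact tM_x h2
  have h3O : 3 ∣ Nat.card O := by
    by_contra h
    exact hOne (D.sig O ((Nat.prime_three.coprime_iff_not_dvd.2 h).symm) hOJ)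
  obtain ⟨S, hS⟩ := exists_fixed (q := 3) (A := J) (K := O)
    (IsPGroup.of_card (p := 3) (n := 3) (by rw [D.jdata.card]; norm_num)) hOJ
    (fun h => by have := card_sylow_modEq_one 3 O; unfold Nat.ModEq at this; omega)
  set Q := (S : Subgroup O).map O.subtype with hQ
  have hQp : IsPGroup 3 Q := S.2.map _
  have hJp : IsPGroup 3 J := IsPGroup.of_card (p := 3) (n := 3) (by rw [D.jdata.card]; norm_num)
  have hQN : Q ≤ normalizer (J : Set G) := fun g hg =>
    D.weak (Q ⊔ J) (IsPGroup.to_sup_of_normal_left' hQp hJp hS) le_sup_right g fun j hj =>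
      mul_mem (mul_mem (mem_sup_left hg) (mem_sup_right hj)) (inv_mem (mem_sup_left hg))
  have hQR : O ⊓ M ≤ R := D.odd_inf_le hodd
  have hQeq : O ⊓ M = Q := by
    have hle : Q ≤ O ⊓ M := le_inf (map_subtype_le _) (hQN.trans D.normJ_le_M)
    have hp : IsPGroup 3 ((O ⊓ M).subgroupOf O) := by
      refine (IsPGroup.to_le ?_ hQR).of_equiv (subgroupOfEquivOfLe inf_le_left).symm
      exact IsPGroup.of_card (p := 3) (n := 3) (by rw [D.card_R]; norm_num)
    have := S.3 hp fun s hs => mem_subgroupOf.2 (hle ⟨s, hs, rfl⟩)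
    rw [hQ, ← this, map_subgroupOf_eq_of_le inf_le_left]
  have hQne : Q ≠ ⊥ := fun h => SmallSimple.Basic.sylow_ne_bot h3O S
    ((map_eq_bot_iff_of_injective _ O.subtype_injective).1 h)
  have hQR' : Q ≤ R := hQeq ▸ hQR
  have haQ : a ∈ Q := by
    have hkey : ∀ z ∈ Q, z ∈ zpowers a → z ≠ 1 → a ∈ Q := by
      intro z hzQ hz hz1
      rcases (D.pow_zp hz).resolve_left hz1 with e | e
      · exact e ▸ hzQ
      · simpa [e] using inv_mem hzQ
    obtain ⟨q, hq, hq1⟩ : ∃ q ∈ Q, q ≠ 1 := by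
      by_contra h
      push Not at h
      exact hQne (eq_bot_iff_forall _ |>.2 h)
    by_cases hqa : q ∈ zpowers a
    · exact hkey q hq hqa hq1
    obtain ⟨y, hy, hne⟩ : ∃ y ∈ R, q * y ≠ y * q := by
      by_contra h
      push Not at h
      exact hqa (D.center q (hQR' hq) h)
    refine hkey (y * q * y⁻¹ * q⁻¹) ?_ (D.comm y hy q (hQR' hq))
      (fun h => hne (mul_inv_eq_iff_eq_mul.1 (mul_inv_eq_one.1 h)).symm)
    refine mul_mem ?_ (inv_mem hq)
    rw [← hQeq] at hq ⊢
    have hyM := D.cent_le_M (D.le hy)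
    have hm : y * q * y⁻¹ ∈ M := mul_mem (mul_mem hyM hq.2) (inv_mem hyM)
    exact ⟨(inferInstance : O.Normal).conj_mem q hq.1 y, hm⟩
  -- the complement
  have hcompl : Cfsg.HasNormalPComplement 3 O := by
    refine Transfer.Frobenius.hasNormalPComplement_iff_normalizers.2 fun Q1 hQ1 hQ1ne => ?_
    obtain ⟨S1, hS1⟩ := hQ1.exists_le_sylow
    obtain ⟨h, hh⟩ := MulAction.exists_smul_eq O S1 S
    set Q2 := (Q1.map (MulAut.conj h).toMonoidHom).map O.subtype with hQ2
    have hQ2Q : Q2 ≤ Q := by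
      rintro _ ⟨_, ⟨y, hy, rfl⟩, rfl⟩
      refine ⟨_, ?_, rfl⟩
      rw [← hh, Sylow.coe_subgroup_smul]
      exact smul_mem_pointwise_smul y (MulAut.conj h) _ (hS1 hy)
    have hQ2ne : Q2 ≠ ⊥ := by
      rw [hQ2, Ne, map_eq_bot_iff_of_injective _ O.subtype_injective,
        map_eq_bot_iff_of_injective _ (MulAut.conj h).injective]
      exact hQ1ne
    have hN2 : normalizer (Q2 : Set G) ≤ M :=
      D.normalizer_le (hQp.to_le hQ2Q) (hQ2Q.trans (hQN.trans D.normJ_le_M)) hQ2ne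
    have hNp : IsPGroup 3 (normalizer (Q1 : Set O)) := by
      rintro ⟨n, hn⟩
      have h1 : (O.subtype (MulAut.conj h n)) ∈ O ⊓ M := by
        refine ⟨(MulAut.conj h n).2, hN2 ?_⟩
        exact le_normalizer_map O.subtype (mem_map_of_mem _
          (le_normalizer_map (MulAut.conj h).toMonoidHom (mem_map_of_mem _ hn)))
      rw [hQeq] at h1
      obtain ⟨m, hm⟩ := hQp ⟨_, h1⟩
      refine ⟨m, Subtype.ext ?_⟩
      have h2 : (MulAut.conj h n) ^ 3 ^ m = 1 := Subtype.ext (by simpa using congrArg Subtype.val hm)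
      rw [← _root_.map_pow, MulEquiv.map_eq_one_iff] at h2
      simpa using h2
    obtain ⟨P, hP⟩ := (hNp.to_subgroup (⊤ : Subgroup (normalizer (Q1 : Set O)))).exists_le_sylow
    exact ⟨P, ⊥, inferInstance, by rw [top_unique hP]; exact isComplement'_bot_top⟩
  obtain ⟨P, K, hKn, hK⟩ := hcompl
  have hKbot : K = ⊥ := by
    obtain ⟨m, hm⟩ := P.2.exists_card_eq
    have hidx : K.index = 3 ^ m := hK.symm.index_eq_card.trans hm
    have hKc : (Nat.card K).Coprime 3 := by
      refine (Nat.prime_three.coprime_iff_not_dvd.2 fun h => ?_).symm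
      have hP' := P.not_dvd_index
      rw [hK.index_eq_card] at hP'
      exact hP' h
    have h1 : K.map O.subtype = ⊥ := by
      refine D.sig _ (by rwa [card_map_of_injective O.subtype_injective]) fun j hj => ?_
      refine mem_normalizer_fintype fun x hx => ?_
      obtain ⟨k, hk, rfl⟩ := hx
      set z : O := O.normalizerMonoidHom ⟨j, hOJ hj⟩ k with hz
      refine ⟨z, ?_, rfl⟩
      have hord : (orderOf z).Coprime K.index := by
        rw [hz, MulEquiv.orderOf_eq, hidx]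
        exact Nat.Coprime.pow_right m (hKc.coprime_dvd_left (by
          simpa using orderOf_dvd_natCard (⟨k, hk⟩ : K)))
      obtain ⟨i, hi⟩ := exists_pow_eq_self_of_coprime (hord.symm)
      rw [← hi]
      exact pow_mem (K.pow_index_mem z) i
    exact (map_eq_bot_iff_of_injective _ O.subtype_injective).1 h1
  subst hKbot
  have hPtop : (P : Subgroup O) = ⊤ := isComplement'_bot_left.1 hK
  have hOQ : O ≤ Q := by
    intro g hg
    have hp : IsPGroup 3 (⊤ : Subgroup O) := hPtop ▸ P.2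
    exact ⟨⟨g, hg⟩, (S.3 hp le_top).le (mem_top _), rfl⟩
  refine eq_top_iff.2 fun g _ => D.closed_M ?_
  exact (hQN.trans D.normJ_le_M) (hOQ ((inferInstance : O.Normal).conj_mem a (map_subtype_le _ haQ) g))

end Cfsg.Agent.SpThreeCent
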