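import Cfsg.Agent.Lib.SpThreeCent.SmallIndex
import Cfsg.Agent.Lib.SpThreeCent.PartOne.Main
import Cfsg.Agent.Lib.AutPSp.Count

/-!
# The small case: the automorphism group of `PSp₄(3)`
-/

set_option autoImplicit false
set_option linter.style.haveILetI false
set_option linter.unusedSectionVars false
set_option maxRecDepth 100000
set_option synthInstance.maxSize 10000

namespace Cfsg.Agent.SpThreeCent

open Subgroup
open Cfsg.Agent.NineSym
open Cfsg.Agent.PSpAmalgam (SL3)

theorem sign_facts :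
    (∀ k : Fin 4, ∃ i j : Fin 6, wM ⟨false, k, 0⟩ =
      wM ⟨false, 0, i⟩ * wM nCw * (wM ⟨false, 0, i⟩)⁻¹ * (wM ⟨false, 0, j⟩ * wM nCw * (wM ⟨false, 0, j⟩)⁻¹)) ∧
    (∀ w : Wt, (w.e = false → wM w = wM ⟨false, w.k, 0⟩ * wM ⟨false, 0, w.p⟩) ∧
      (w.e = true → wM w = wM nCw * wM (nCw * w) ∧ (nCw * w).e = false)) ∧
    (∀ i : Fin 6, wact (⟨false, 0, i⟩ : Wt) (1, 1, 1) = (1, 1, 1)) ∧
    (∀ u : V3, (∃ w : Wt, wact w (1, 1, 1) = u) ∨ ∃ w : Wt, w.e = true ∧ wact w u = u) ∧
    ∀ v : V3, (∀ w : Wt, w.e = false → wact w v = v) → v = 0 := by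
  decide +kernel

theorem inL_four {p : Mn} : InL false true p ↔ p.w.e = false :=
  ⟨fun h => Bool.eq_false_iff.2 fun e => Bool.noConfusion (h.1 e),
    fun h => ⟨fun e => by rw [h] at e; exact e, fun _ => rfl⟩⟩

universe uG uF

variable {G : Type uG} [Group G] [Finite G] {a : G} {R J : Subgroup G} {φ : Mn → G}

namespace Loc

variable (D : Loc a R J true true φ)
include D

/-- The part of the normalizer in a subgroup of index two avoiding the reflection. -/
theorem index_mem {H : Subgroup G} (hH : H.index = 2) (hr : φ (wM nCw) ∉ H) :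
    centralizer ({a} : Set G) ≤ H ∧ J ≤ H ∧ ∀ p : Mn, φ p ∈ H ↔ p.w.e = false := by
  obtain ⟨hk, hw, hperm, -, -⟩ := sign_facts
  have hsq : ∀ g : G, g * g ∈ H := fun g => mul_self_mem_of_index_two hH g
  have h3 : ∀ x : G, x ^ 3 = 1 → x ∈ H := fun x hx => by
    have e1 : x = x * x * (x * x) := by
      calc x = x ^ 3 * x := by rw [hx, one_mul]
        _ = _ := by simp [pow_succ, mul_assoc]
    rw [e1]
    exact mul_mem (hsq x) (hsq x)
  have hA : centralizer ({a} : Set G) ≤ H := by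
    intro g hg
    obtain ⟨π, hπs, hπ⟩ := D.quot
    obtain ⟨p, q, hpq⟩ := PSpAmalgam.sl_two_squares (π ⟨g, hg⟩)
    obtain ⟨a1, rfl⟩ := hπs p
    obtain ⟨a2, rfl⟩ := hπs q
    have hc : ((⟨g, hg⟩ * (a1 * a1 * (a2 * a2))⁻¹ : centralizer ({a} : Set G)) : G) ∈ R :=
      (hπ _).1 (by rw [map_mul, map_inv, hpq]; simp only [map_mul]; exact mul_inv_cancel _)
    have := mul_mem (h3 _ (D.exp _ hc)) (mul_mem (hsq (a1 : G)) (hsq (a2 : G)))
    simpa [mul_assoc] using this
  have hJ : J ≤ H := fun g hg => h3 g (D.J_cube hg)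
  have hπ : ∀ i : Fin 6, φ (wM ⟨false, 0, i⟩) ∈ H := fun i => hA (mem_centralizer_singleton_iff.2 (by
    rw [← D.a_eq]
    exact (D.fix_iff (inL_all _) _).2 (hperm i)))
  have hconj : ∀ i : Fin 6, φ (wM ⟨false, 0, i⟩ * wM nCw * (wM ⟨false, 0, i⟩)⁻¹) ∉ H := fun i h => hr (by
    rw [D.hmul, D.hmul, D.hinv, H.mul_mem_cancel_right (inv_mem (hπ i)), H.mul_mem_cancel_left (hπ i)] at h
    exact h)
  have hs : ∀ k : Fin 4, φ (wM ⟨false, k, 0⟩) ∈ H := fun k => by
    obtain ⟨i, j, e⟩ := hk k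
    rw [e, D.hmul, Subgroup.mul_mem_iff_of_index_two hH]
    exact iff_of_false (hconj i) (hconj j)
  have hfalse : ∀ w : Wt, w.e = false → φ (wM w) ∈ H := fun w hwe => by
    rw [(hw w).1 hwe, D.hmul]
    exact mul_mem (hs _) (hπ _)
  refine ⟨hA, hJ, fun p => ?_⟩
  obtain ⟨v, w⟩ := p
  show φ ⟨v, w⟩ ∈ H ↔ w.e = false
  rw [mn_split, D.hmul, H.mul_mem_cancel_left (hJ (D.memj v))]
  rcases Bool.eq_false_or_eq_true w.e with e | e
  · obtain ⟨e1, e2⟩ := (hw w).2 e
    rw [e1, D.hmul, H.mul_mem_cancel_right (hfalse _ e2), e]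
    exact iff_of_false hr Bool.noConfusion
  · exact iff_of_true (hfalse w e) e

/-- The coordinates in the subgroup of index two. -/
theorem loc_four {H : Subgroup G} (hH : H.index = 2) (hr : φ (wM nCw) ∉ H) :
    ∃ (a' : H) (φ' : Mn → H), Loc a' (R.subgroupOf H) (J.subgroupOf H) false true φ' := by
  classical
  obtain ⟨hA, hJH, hmem⟩ := D.index_mem hH hr
  obtain ⟨-, -, -, horb, -⟩ := sign_facts
  haveI := Subgroup.normal_of_index_eq_two hH
  have haH : a ∈ H := hA (mem_centralizer_singleton_iff.2 rfl)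
  set a' : H := ⟨a, haH⟩ with ha'
  have hRH : R ≤ H := D.le.trans hA
  let φ' : Mn → H := fun p => if h : φ p ∈ H then ⟨φ p, h⟩ else 1
  have hφ : ∀ p : Mn, p.w.e = false → (φ' p : G) = φ p := fun p hp => by
    simp only [φ', dif_pos ((hmem p).2 hp)]
  have hjv : ∀ v : V3, (φ' (jM v) : G) = φ (jM v) := fun v => hφ _ rfl
  have hcent : centralizer ({a'} : Set H) = (centralizer ({a} : Set G)).subgroupOf H := by
    ext x
    rw [mem_subgroupOf, mem_centralizer_singleton_iff, mem_centralizer_singleton_iff, Subtype.ext_iff]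
    rfl
  have hmC : ∀ x : H, x ∈ centralizer ({a'} : Set H) ↔ (x : G) ∈ centralizer ({a} : Set G) := fun x => by
    rw [hcent, mem_subgroupOf]
  have hzp : ∀ x : H, (x : G) ∈ zpowers a → x ∈ zpowers a' := fun x hx => by
    obtain ⟨k, hk⟩ := mem_zpowers_iff.1 hx
    exact mem_zpowers_iff.2 ⟨k, Subtype.ext (by simpa [ha'] using hk)⟩
  have hzp' : ∀ x : H, x ∈ zpowers a' → (x : G) ∈ zpowers a := fun x hx => by
    obtain ⟨k, rfl⟩ := mem_zpowers_iff.1 hx
    exact mem_zpowers_iff.2 ⟨k, by simp [ha']⟩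
  refine ⟨a', φ', ?_⟩
  refine
    { order := by rw [ha', orderOf_mk]; exact D.order
      card := by rw [hcent, Nat.card_congr (subgroupOfEquivOfLe hA).toEquiv, D.card]
      card_R := by rw [Nat.card_congr (subgroupOfEquivOfLe hRH).toEquiv, D.card_R]
      le := fun x hx => (hmC x).2 (D.le (mem_subgroupOf.1 hx))
      norm := fun x hx => ?h_norm
      mem := mem_subgroupOf.2 D.mem
      exp := fun x hx => Subtype.ext (by simpa using D.exp _ (mem_subgroupOf.1 hx))
      center := fun x hx h => hzp x (D.center _ (mem_subgroupOf.1 hx) fun y hy =>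
        congrArg Subtype.val (h ⟨y, hRH hy⟩ (mem_subgroupOf.2 hy)))
      comm := fun x hx y hy => hzp _ (by simpa using D.comm _ (mem_subgroupOf.1 hx) _ (mem_subgroupOf.1 hy))
      nat := fun g hg h => mem_subgroupOf.2 (D.nat _ ((hmC g).1 hg) fun x hx => by
        simpa using hzp' _ (h ⟨x, hRH hx⟩ (mem_subgroupOf.2 hx)))
      quot := ?h_quot
      hom := fun p q hp hq => Subtype.ext (by
        rw [hφ _ (inL_four.1 (inL_mul hp hq)), Subgroup.coe_mul, hφ _ (inL_four.1 hp), hφ _ (inL_four.1 hq),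
          D.hmul])
      inj := fun p q hp hq e => D.inj _ _ (inL_all _) (inL_all _) (by
        rw [← hφ _ (inL_four.1 hp), ← hφ _ (inL_four.1 hq), e])
      memJ := fun g => ?h_memJ
      mem_norm := fun p hp => ?h_mem_norm
      norm_eq := fun g hg => ?h_norm_eq
      a_eq := Subtype.ext (by rw [hjv]; exact D.a_eq)
      cent_norm := fun g hg hga => ?h_cent_norm
      self := fun g h => mem_subgroupOf.2 (D.self _ fun j hj =>
        congrArg Subtype.val (h ⟨j, hJH hj⟩ (mem_subgroupOf.2 hj)))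
      sig := fun K hK hn => ?h_sig
      fus := fun u v g h => ?h_fus
      weak := fun K hK hJK g hg => ?h_weak
      plane_R := fun v hv => mem_subgroupOf.2 (by rw [hjv]; exact D.plane_R v hv)
      shift_R := mem_subgroupOf.2 (by rw [hφ _ rfl]; exact D.shift_R) }
  case h_norm =>
    refine mem_normalizer_fintype fun y hy => mem_subgroupOf.2 ?_
    simpa using (mem_normalizer_iff.1 (D.norm ((hmC x).1 hx)) _).1 (mem_subgroupOf.1 hy)
  case h_quot =>
    obtain ⟨π, hπs, hπk⟩ := D.quot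
    let ι : ↥(centralizer ({a'} : Set H)) →* ↥(centralizer ({a} : Set G)) :=
      MonoidHom.mk' (fun x => ⟨((x : H) : G), (hmC _).1 x.2⟩) fun _ _ => rfl
    refine ⟨π.comp ι, hπs.comp fun c => ⟨⟨⟨c, hA c.2⟩, (hmC _).2 c.2⟩, rfl⟩, fun g => ?_⟩
    rw [MonoidHom.comp_apply, hπk, mem_subgroupOf]
    rfl
  case h_memJ =>
    rw [mem_subgroupOf, D.memJ]
    exact exists_congr fun v => ⟨fun e => Subtype.ext (by rw [hjv]; exact e), fun e => by rw [← e, hjv]⟩
  case h_mem_norm =>
    refine mem_normalizer_fintype fun y hy => mem_subgroupOf.2 ?_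
    simp only [Subgroup.coe_mul, InvMemClass.coe_inv, hφ _ (inL_four.1 hp)]
    exact (mem_normalizer_iff.1 (D.mem_norm p (inL_all p)) _).1 (mem_subgroupOf.1 hy)
  case h_norm_eq =>
    have hgn : (g : G) ∈ normalizer (J : Set G) := mem_normalizer_fintype fun y hy => by
      simpa using mem_subgroupOf.1 ((mem_normalizer_iff.1 hg ⟨y, hJH hy⟩).1 (mem_subgroupOf.2 hy))
    obtain ⟨p, -, e⟩ := D.norm_eq _ hgn
    have hp : p.w.e = false := (hmem p).1 (e ▸ g.2)
    exact ⟨p, inL_four.2 hp, Subtype.ext (by rw [hφ _ hp, e])⟩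
  case h_cent_norm =>
    have hgn : (g : G) ∈ normalizer (J : Set G) := mem_normalizer_fintype fun y hy => by
      simpa using mem_subgroupOf.1 ((mem_normalizer_iff.1 hg ⟨y, hJH hy⟩).1 (mem_subgroupOf.2 hy))
    obtain ⟨p, hp, e⟩ := D.cent_norm _ hgn (congrArg Subtype.val hga)
    refine ⟨p, hp, Subtype.ext ?_⟩
    rw [hφ _ (Bool.eq_false_iff.2 fun h => Bool.noConfusion (hp.1 h)), e]
  case h_sig =>
    refine (map_eq_bot_iff_of_injective _ H.subtype_injective).1 (D.sig _ ?_ fun j hj => ?_)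
    · rwa [card_map_of_injective H.subtype_injective]
    · exact le_normalizer_map H.subtype ⟨⟨j, hJH hj⟩, hn (mem_subgroupOf.2 hj), rfl⟩
  case h_fus =>
    have h' : (g : G) * φ (jM u) * (g : G)⁻¹ = φ (jM v) := by
      have := congrArg Subtype.val h
      simpa [hjv] using this
    obtain ⟨p, -, hp⟩ := D.fus u v _ h'
    rcases Bool.eq_false_or_eq_true p.w.e with e | e
    swap
    · exact ⟨p, inL_four.2 e, hp⟩
    rcases horb u with ⟨w0, rfl⟩ | ⟨w, hwe, hwu⟩
    · exfalso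
      have hc : φ (wM w0) ^ (-1 : ℤ) * ((φ p)⁻¹ * g) * φ (wM w0) ∈ centralizer ({a} : Set G) := by
        refine mem_centralizer_singleton_iff.2 (mul_inv_eq_iff_eq_mul.1 ?_)
        have e0 : φ (wM w0) * a * (φ (wM w0))⁻¹ = φ (jM (wact w0 (1, 1, 1))) := by
          rw [← D.a_eq]; exact D.act' (inL_all _) _
        have e1 : (φ p)⁻¹ * φ (jM v) * φ p = φ (jM (wact w0 (1, 1, 1))) := by
          rw [← hp, ← D.act' (inL_all p)]; group
        calc _ = (φ (wM w0))⁻¹ * ((φ p)⁻¹ * ((g : G) * (φ (wM w0) * a * (φ (wM w0))⁻¹) * (g : G)⁻¹) * φ p) *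
              φ (wM w0) := by group
          _ = a := by rw [e0, h', e1, ← e0]; group
      have h1 : (φ p)⁻¹ * (g : G) ∈ H := by
        have := (inferInstance : H.Normal).conj_mem _ (hA hc) (φ (wM w0))
        rwa [show φ (wM w0) * (φ (wM w0) ^ (-1 : ℤ) * ((φ p)⁻¹ * g) * φ (wM w0)) * (φ (wM w0))⁻¹ =
          (φ p)⁻¹ * g by group] at this
      rw [H.mul_mem_cancel_right g.2, inv_mem_iff, hmem, e] at h1
      exact Bool.noConfusion h1
    · refine ⟨p * wM w, inL_four.2 ?_, ?_⟩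
      · show (p.w.e ^^ w.e) = false
        rw [e, hwe]; rfl
      · show wact (p.w * w) u = v
        rw [wact_mul, hwu, hp]
  case h_weak =>
    have hgn := D.weak (K.map H.subtype) (hK.map _) (fun j hj => ⟨⟨j, hJH hj⟩, hJK (mem_subgroupOf.2 hj), rfl⟩)
      (g : G) fun j hj => ⟨_, hg ⟨j, hJH hj⟩ (mem_subgroupOf.2 hj), rfl⟩
    exact mem_normalizer_fintype fun y hy => mem_subgroupOf.2 (by
      simpa using (mem_normalizer_iff.1 hgn _).1 (mem_subgroupOf.1 hy))

end Loc

/-- The small case of the monomial automizer. -/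
theorem aut_of_small (D : Loc a R J true true φ)
    (hsmall : centralizer ({φ (jM (0, 0, 1))} : Set G) ≤ normalizer (J : Set G))
    (F : Type uF) [Field F] [Fintype F] (hF : Fintype.card F = 3) :
    Nonempty (G ≃* MulAut (Cfsg.PSp 2 F)) := by
  classical
  obtain ⟨H, hH, hr⟩ := D.exists_index_refl hsmall
  obtain ⟨hA, hJH, hmem⟩ := D.index_mem hH hr
  obtain ⟨a', φ', D'⟩ := D.loc_four hH hr
  obtain ⟨e⟩ := psp_of_four D' F hF
  haveI := Subgroup.normal_of_index_eq_two hH
  let f : G →* MulAut (Cfsg.PSp 2 F) := (MulAut.congr e).toMonoidHom.comp (MulAut.conjNormal (H := H))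
  have hf : Function.Injective f := by
    refine (injective_iff_map_eq_one f).2 fun g hg => ?_
    have hg' : MulAut.conjNormal (H := H) g = 1 := (MulAut.congr e).injective (by rw [map_one]; exact hg)
    have hc : ∀ x ∈ H, g * x = x * g := fun x hx => by
      have := congrArg (fun α : MulAut H => (α ⟨x, hx⟩ : G)) hg'
      simp only [MulAut.conjNormal_apply, MulAut.one_apply] at this
      exact mul_inv_eq_iff_eq_mul.1 this
    obtain ⟨v, rfl⟩ := (D.memJ g).1 (D.self g fun j hj => hc j (hJH hj))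
    rw [sign_facts.2.2.2.2 v fun w hw => D.fix_of_comm (inL_all (wM w)) (hc _ ((hmem _).2 hw)).symm, D.jzero]
  haveI : Finite (MulAut (Cfsg.PSp 2 F)) := by
    haveI : Finite (Cfsg.PSp 2 F) := Finite.of_equiv H e.toEquiv
    exact Finite.of_injective (fun α : MulAut (Cfsg.PSp 2 F) => (α : Cfsg.PSp 2 F → Cfsg.PSp 2 F))
      DFunLike.coe_injective
  haveI : Fact (Nat.Prime 3) := ⟨Nat.prime_three⟩
  have hcard : Nat.card G = Nat.card (MulAut (Cfsg.PSp 2 F)) := by
    rw [AutPSp.Count.card_mulAut 3 1 (by rw [Nat.card_eq_fintype_card, hF, pow_one]) le_rfl,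
      ← Nat.card_congr e.toEquiv, ← card_mul_index H, hH]
    norm_num
    ring
  exact ⟨MulEquiv.ofBijective f ((Nat.bijective_iff_injective_and_card f).2 ⟨hf, hcard⟩)⟩

end Cfsg.Agent.SpThreeCent
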