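import Cfsg.Agent.Lib.SpThreeCent.Pair
import Cfsg.Agent.Lib.SpThreeCent.Small
import Cfsg.Agent.Lib.SpThreeCent.OrbitTwo
import Cfsg.Agent.Lib.SpSix.ModelE7

/-!
# An element of order three conjugate to its inverse
-/

set_option autoImplicit false
set_option linter.style.haveILetI false
set_option linter.unusedSectionVars false
set_option maxRecDepth 100000
set_option synthInstance.maxSize 10000

namespace Cfsg.Agent.SpThreeCent

open Subgroup
open Cfsg.Agent.NineSym
open Cfsg.Agent.ExtraTwoNine.CoordPerm (P6)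

universe uG uF uF₂

theorem real_flag : ∀ (cd : Bool) (w : Wt), Wok false cd w → wact w (1, 1, 1) ≠ -((1, 1, 1) : V3) := by
  decide +kernel

variable {G : Type uG} [Group G] [Finite G] {a : G} {R J : Subgroup G} {φ : Mn → G}

/-- A group onto which the model maps isomorphically is the symplectic group. -/
theorem sp_of_surjective {Θ : SixEnd.S →* G} (hi : Function.Injective Θ) (hs : Function.Surjective Θ)
    (F₂ : Type uF₂) [Field F₂] [Fintype F₂] (hF₂ : Fintype.card F₂ = 2) :
    Nonempty (G ≃* Matrix.symplecticGroup (Fin 3) F₂) := by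
  refine SpSix.exists_equiv_of_rels hF₂ (fun i => Θ (SixEnd.node i))
    (fun i => by rw [← map_mul, SixEnd.node_sq, map_one])
    (fun i j h => (SixEnd.node_comm h).map Θ)
    (fun i j h => by rw [← map_mul, ← map_mul, ← map_mul, ← map_mul, SixEnd.node_braid h]) ?_ ?_
  · rw [eq_top_iff]
    intro g _
    obtain ⟨s, rfl⟩ := hs g
    have h : (Subgroup.closure (Set.range SixEnd.node)).map Θ =
        Subgroup.closure (Set.range fun i => Θ (SixEnd.node i)) := by
      rw [MonoidHom.map_closure, ← Set.range_comp]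
      rfl
    rw [← h, SixEnd.closure_range_node]
    exact ⟨s, mem_top _, rfl⟩
  · rw [← Nat.card_congr (MulEquiv.ofBijective Θ ⟨hi, hs⟩).toEquiv]
    exact SixEnd.card_S

/-- The element is not inverted unless the inversion occurs in the automizer. -/
theorem Loc.ci_true {ci cd : Bool} (D : Loc a R J ci cd φ) (h : ∃ g : G, g * a * g⁻¹ = a⁻¹) : ci = true := by
  cases ci
  · exfalso
    obtain ⟨g, hg⟩ := h
    obtain ⟨p, hp, he⟩ := D.fus (1, 1, 1) (-(1, 1, 1)) g (by rw [D.jneg, D.a_eq, hg])
    exact real_flag cd p.w hp he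
  · rfl

end Cfsg.Agent.SpThreeCent
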