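import Cfsg.Agent.Lib.SpThreeCent.CentSetup
import Cfsg.Agent.Lib.SpThreeCent.FrameCoord

/-!
# The coordinates on the normalizer of the elementary abelian subgroup
-/

set_option autoImplicit false
set_option linter.style.haveILetI false
set_option linter.unusedSectionVars false
set_option maxRecDepth 100000
set_option synthInstance.maxSize 10000

namespace Cfsg.Agent.SpThreeCent

open Subgroup
open Cfsg.Agent.NineSym (Mn Wt V3 InL Wok jM wM wact pact pmul shiftV shiftV_facts)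
open Cfsg.Agent.PSpAmalgam (SL3 negOne)

theorem sl_sigma : ∀ s : SL3, s ^ 3 = 1 → s ≠ 1 → ∀ g : SL3,
    (∃ i : Fin 3, g * s * g⁻¹ = s ^ (i : ℕ)) →
      ∃ i : Fin 3, g = s ^ (i : ℕ) ∨ g = negOne * s ^ (i : ℕ) := by
  decide +kernel

theorem shift_plane : ∀ k, ∀ v : V3, v.1 + v.2.1 + v.2.2 = 0 → shiftV k v = v := by
  decide +kernel

/-- The product of powers with exponents modulo three. -/
def comb {G : Type*} [Group G] (x y z : G) (v : V3) : G := x ^ v.1.val * y ^ v.2.1.val * z ^ v.2.2.val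

theorem pow_val_add {G : Type*} [Group G] {x : G} (hx : x ^ 3 = 1) (p q : ZMod 3) :
    x ^ (p + q).val = x ^ p.val * x ^ q.val := by
  rw [← pow_add, ZMod.val_add]
  conv_rhs => rw [← Nat.mod_add_div (p.val + q.val) 3, pow_add, pow_mul, hx, one_pow, mul_one]

variable {G : Type*} [Group G]

theorem comb_add {x y z : G} (hx : x ^ 3 = 1) (hy : y ^ 3 = 1) (hz : z ^ 3 = 1) (hxy : Commute x y)
    (hxz : Commute x z) (hyz : Commute y z) (u v : V3) : comb x y z (u + v) = comb x y z u * comb x y z v := by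
  simp only [comb, Prod.fst_add, Prod.snd_add, pow_val_add hx, pow_val_add hy, pow_val_add hz]
  have h1 := (hxz.symm.pow_pow u.2.2.val v.1.val)
  have h2 := (hxy.symm.pow_pow u.2.1.val v.1.val)
  have h3 := (hyz.symm.pow_pow u.2.2.val v.2.1.val)
  simp only [mul_assoc]
  rw [← mul_assoc (z ^ u.2.2.val) (x ^ v.1.val), h1.eq, mul_assoc, ← mul_assoc (z ^ u.2.2.val) (y ^ v.2.1.val),
    h3.eq, mul_assoc, ← mul_assoc (y ^ u.2.1.val) (x ^ v.1.val), h2.eq, mul_assoc]

variable {a : G} {R J : Subgroup G}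

/-- Facts on `J` used in the construction. -/
structure JData (a : G) (R J : Subgroup G) : Prop where
  le : J ≤ centralizer ({a} : Set G)
  comm : ∀ x ∈ J, ∀ y ∈ J, x * y = y * x
  exp : ∀ x ∈ J, x ^ 3 = 1
  card : Nat.card J = 27

section

variable [Finite G] (D : CentData a R) (hJ : JData a R J)
include D hJ

/-- The subgroup generated by `R` and `J`. -/
theorem not_le_R : ¬ J ≤ R := by
  intro h
  have he : J = R := eq_of_le_of_card_ge h (by rw [hJ.card, D.card_R])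
  have h1 : R ≤ zpowers a := fun x hx => D.center x hx fun y hy => hJ.comm x (he ▸ hx) y (he ▸ hy)
  have := card_dvd_of_le h1
  rw [D.card_R, Nat.card_zpowers, D.order] at this
  norm_num at this

theorem card_sup : Nat.card (R ⊔ J : Subgroup G) = 81 ∧ R ⊔ J ≤ centralizer ({a} : Set G) := by
  haveI : Fact (Nat.Prime 3) := ⟨Nat.prime_three⟩
  have hle : R ⊔ J ≤ centralizer ({a} : Set G) := sup_le D.le hJ.le
  refine ⟨?_, hle⟩
  have hJN : J ≤ normalizer (R : Set G) := hJ.le.trans D.norm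
  have hp : IsPGroup 3 (R ⊔ J : Subgroup G) := by
    refine IsPGroup.to_sup_of_normal_left' (IsPGroup.of_card (n := 3) (by rw [D.card_R]; norm_num))
      (IsPGroup.of_card (n := 3) (by rw [hJ.card]; norm_num)) hJN
  obtain ⟨n, hn⟩ := hp.exists_card_eq
  have h1 := card_dvd_of_le hle
  rw [D.card, hn] at h1
  have h2 : 27 ∣ 3 ^ n := D.card_R ▸ hn ▸ card_dvd_of_le (le_sup_left : R ≤ R ⊔ J)
  have hn4 : n ≤ 4 := by
    by_contra h
    have := (pow_dvd_pow 3 (by omega : 5 ≤ n)).trans h1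
    norm_num at this
  have hn3 : 3 ≤ n := (Nat.pow_dvd_pow_iff_le_right (by norm_num : 1 < 3)).1 (by norm_num; exact h2)
  rcases (show n = 3 ∨ n = 4 by omega) with rfl | rfl
  · exfalso
    have := eq_of_le_of_card_ge (le_sup_left : R ≤ R ⊔ J) (by rw [hn, D.card_R]; norm_num)
    exact not_le_R D hJ (this ▸ le_sup_right)
  · rw [hn]; norm_num

theorem a_mem_J : a ∈ J := by
  haveI : Fact (Nat.Prime 3) := ⟨Nat.prime_three⟩
  by_contra ha
  set A := J ⊔ zpowers a with hA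
  have hac : ∀ x ∈ A, ∀ y ∈ A, x * y = y * x := by
    haveI hcm : IsMulCommutative A := by
      rw [hA, ← closure_eq J, zpowers_eq_closure, ← Subgroup.closure_union]
      apply isMulCommutative_closure
      rintro x (hx | rfl) y (hy | rfl)
      · exact hJ.comm x hx y hy
      · exact mem_centralizer_singleton_iff.1 (hJ.le hx)
      · exact (mem_centralizer_singleton_iff.1 (hJ.le hy)).symm
      · rfl
    exact fun x hx y hy => congrArg Subtype.val (hcm.is_comm.comm (⟨x, hx⟩ : A) ⟨y, hy⟩)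
  obtain ⟨h81, -⟩ := card_sup D hJ
  have hAle : A ≤ R ⊔ J := sup_le le_sup_right ((zpowers_le.2 D.mem).trans le_sup_left)
  have h1 : Nat.card A ∣ 81 := h81 ▸ card_dvd_of_le hAle
  have h2 : 27 < Nat.card A := by
    rw [← hJ.card]
    refine lt_of_le_of_ne (Nat.le_of_dvd Nat.card_pos (card_dvd_of_le le_sup_left)) fun h => ha ?_
    have := eq_of_le_of_card_ge (le_sup_left : J ≤ A) h.ge
    rw [this]
    exact mem_sup_right (mem_zpowers a)
  have h3 : A = R ⊔ J := eq_of_le_of_card_ge hAle (by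
    obtain ⟨k, hk, e⟩ := (Nat.dvd_prime_pow Nat.prime_three).1 (show Nat.card A ∣ 3 ^ 4 from h1)
    rw [h81, e]
    rw [e] at h2
    have : 3 < k := (Nat.pow_lt_pow_iff_right (by norm_num : 1 < 3)).1 (by norm_num; exact h2)
    obtain rfl : k = 4 := by omega
    norm_num)
  have h4 : R ≤ zpowers a := fun x hx => D.center x hx fun y hy =>
    hac x (h3 ▸ mem_sup_left hx) y (h3 ▸ mem_sup_left hy)
  have := card_dvd_of_le h4
  rw [D.card_R, Nat.card_zpowers, D.order] at this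
  norm_num at this

/-- `J` is the only abelian subgroup of order 27 of `R ⊔ J`. -/
theorem abelian_unique {A : Subgroup G} (hA : A ≤ R ⊔ J) (hc : ∀ x ∈ A, ∀ y ∈ A, x * y = y * x)
    (h27 : Nat.card A = 27) : A = J := by
  by_contra hne
  obtain ⟨h81, hle⟩ := card_sup D hJ
  have hAJ : ¬ A ≤ J := fun h => hne (eq_of_le_of_card_ge h (by rw [h27, hJ.card]))
  have hsup : A ⊔ J = R ⊔ J := by
    refine eq_of_le_of_card_ge (sup_le hA le_sup_right) ?_
    obtain ⟨k, hk, e⟩ := (Nat.dvd_prime_pow Nat.prime_three).1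
      (show Nat.card (A ⊔ J : Subgroup G) ∣ 3 ^ 4 by
        rw [show 3 ^ 4 = 81 by norm_num, ← h81]; exact card_dvd_of_le (sup_le hA le_sup_right))
    have h2 : 27 < Nat.card (A ⊔ J : Subgroup G) := by
      rw [← hJ.card]
      refine lt_of_le_of_ne (Nat.le_of_dvd Nat.card_pos (card_dvd_of_le le_sup_right)) fun h => hAJ ?_
      rw [eq_of_le_of_card_ge (le_sup_right : J ≤ A ⊔ J) h.ge]
      exact le_sup_left
    rw [h81, e]
    rw [e] at h2
    have : 3 < k := (Nat.pow_lt_pow_iff_right (by norm_num : 1 < 3)).1 (by norm_num; exact h2)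
    obtain rfl : k = 4 := by omega
    norm_num
  have hz : A ⊓ J ≤ zpowers a := by
    rintro x ⟨hxA, hxJ⟩
    have hx : R ⊔ J ≤ centralizer ({x} : Set G) := by
      rw [← hsup]
      exact sup_le (fun y hy => mem_centralizer_singleton_iff.2 (hc y hy x hxA))
        (fun y hy => mem_centralizer_singleton_iff.2 (hJ.comm y hy x hxJ))
    have hxc : ∀ y ∈ R, x * y = y * x := fun y hy =>
      (mem_centralizer_singleton_iff.1 (hx (mem_sup_left hy))).symm
    refine D.center x ?_ hxc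
    exact D.nat x (hJ.le hxJ) fun y hy => by rw [hxc y hy]; group; exact one_mem _
  have h3 : Nat.card (A ⊓ J : Subgroup G) ≤ 3 := by
    have := Nat.le_of_dvd Nat.card_pos (card_dvd_of_le hz)
    rwa [Nat.card_zpowers, D.order] at this
  have h4 : Nat.card A * Nat.card J ≤ Nat.card (A ⊓ J : Subgroup G) * Nat.card (R ⊔ J : Subgroup G) := by
    classical
    rw [← Nat.card_prod, ← Nat.card_prod]
    let f : A × J → (R ⊔ J : Subgroup G) := fun p =>
      ⟨(p.1 : G) * p.2, mul_mem (hA p.1.2) (mem_sup_right p.2.2)⟩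
    let σ : Set.range f → A × J := fun y => y.2.choose
    have hσ : ∀ y, f (σ y) = y.1 := fun y => y.2.choose_spec
    refine Nat.card_le_card_of_injective
      (fun p : A × J => ((⟨((σ ⟨f p, ⟨p, rfl⟩⟩).1 : G)⁻¹ * (p.1 : G), A.mul_mem (A.inv_mem (σ _).1.2) p.1.2, ?_⟩ :
        (A ⊓ J : Subgroup G)), f p)) ?_
    · have h := congrArg Subtype.val (hσ ⟨f p, ⟨p, rfl⟩⟩)
      simp only [f] at h
      have : ((σ ⟨f p, ⟨p, rfl⟩⟩).1 : G)⁻¹ * (p.1 : G) = ((σ ⟨f p, ⟨p, rfl⟩⟩).2 : G) * (p.2 : G)⁻¹ := by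
        rw [eq_mul_inv_iff_mul_eq, mul_assoc, ← h, inv_mul_cancel_left]
      rw [this]
      exact J.mul_mem (σ _).2.2 (J.inv_mem p.2.2)
    · rintro p q h
      simp only [Prod.mk.injEq] at h
      have e : (⟨f p, ⟨p, rfl⟩⟩ : Set.range f) = ⟨f q, ⟨q, rfl⟩⟩ := Subtype.ext h.2
      have h0 : ((σ ⟨f p, ⟨p, rfl⟩⟩).1 : G)⁻¹ * (p.1 : G) = ((σ ⟨f q, ⟨q, rfl⟩⟩).1 : G)⁻¹ * (q.1 : G) :=
        congrArg Subtype.val h.1
      rw [show σ ⟨f p, ⟨p, rfl⟩⟩ = σ ⟨f q, ⟨q, rfl⟩⟩ from congrArg σ e] at h0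
      have h1 : (p.1 : G) = q.1 := mul_left_cancel h0
      have h2 := congrArg Subtype.val h.2
      simp only [f, h1] at h2
      exact Prod.ext (Subtype.ext h1) (Subtype.ext (mul_left_cancel h2))
  rw [h27, hJ.card, h81] at h4
  nlinarith

/-- An involution of `C(a)` inverting `R` modulo its centre. -/
theorem exists_invol {π : ↥(centralizer ({a} : Set G)) →* SL3} (hπs : Function.Surjective π)
    (hπk : ∀ g : ↥(centralizer ({a} : Set G)), π g = 1 ↔ (g : G) ∈ R) :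
    ∃ t : ↥(centralizer ({a} : Set G)), π t = negOne ∧ (t : G) * t = 1 ∧
      (∀ x ∈ R, (t : G) * x * t * x ∈ zpowers a) ∧ ∀ j ∈ J, (t : G) * j * t ∈ J := by
  obtain ⟨-, -, hn1, hncen, q, hq, hq4⟩ := sl_neg_facts
  obtain ⟨g0, hg0⟩ := hπs q
  set g := g0 ^ 3 with hg
  set t := g * g with ht
  have htπ : π t = negOne := by rw [ht, map_mul, hg, map_pow, hg0, hq]
  have ht1 : t * t = 1 := by
    have h4 : (g0 : G) ^ 4 ∈ R := by
      rw [← Subgroup.coe_pow, ← hπk, map_pow, hg0, hq4]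
    apply Subtype.ext
    rw [ht, hg, ← pow_add, ← pow_add, Subgroup.coe_pow, show 3 + 3 + (3 + 3) = 4 * 3 by norm_num,
      pow_mul, D.exp _ h4, OneMemClass.coe_one]
  have ht2 : (t : G) * t = 1 := by rw [← Subgroup.coe_mul, ht1]; rfl
  have htinv : (t : G)⁻¹ = t := inv_eq_of_mul_eq_one_right ht2
  have hRc : ∀ (u : ↥(centralizer ({a} : Set G))) {x : G}, x ∈ R → (u : G) * x * (u : G)⁻¹ ∈ R :=
    fun u x hx => (mem_normalizer_iff.1 (D.norm u.2) x).1 hx
  have hzc : ∀ z ∈ zpowers a, ∀ u : ↥(centralizer ({a} : Set G)), (u : G) * z = z * u := by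
    intro z hz u
    obtain ⟨k, rfl⟩ := mem_zpowers_iff.1 hz
    exact (Commute.zpow_right (mem_centralizer_singleton_iff.1 u.2) k).eq
  have hzR : zpowers a ≤ R := zpowers_le.2 D.mem
  have hcube : ∀ z ∈ zpowers a, z * z = 1 → z = 1 := by
    intro z hz h
    have h3 := D.exp z (hzR hz)
    rwa [pow_succ, pow_two, h, one_mul] at h3
  -- the elements fixed modulo the centre
  let F : Subgroup G :=
    { carrier := {x | x ∈ R ∧ (t : G) * x * (t : G)⁻¹ * x⁻¹ ∈ zpowers a}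
      one_mem' := ⟨one_mem _, by simp⟩
      mul_mem' := fun {x y} hx hy => ⟨mul_mem hx.1 hy.1, by
        have e1 : (t : G) * (x * y) * (t : G)⁻¹ * (x * y)⁻¹ =
            (t : G) * x * (t : G)⁻¹ * ((t : G) * y * (t : G)⁻¹ * y⁻¹) * x⁻¹ := by group
        rw [e1, hzc _ hy.2 ⟨_, D.le (hRc t hx.1)⟩]
        rw [mul_assoc]
        exact mul_mem hy.2 hx.2⟩
      inv_mem' := fun {x} hx => ⟨inv_mem hx.1, by
        have e1 : (t : G) * x⁻¹ * (t : G)⁻¹ * (x⁻¹)⁻¹ =
            x⁻¹ * ((t : G) * x * (t : G)⁻¹ * x⁻¹)⁻¹ * (x⁻¹)⁻¹ := by group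
        rw [e1, hzc _ (inv_mem hx.2) ⟨_, D.le (inv_mem hx.1)⟩, mul_inv_cancel_right]
        exact inv_mem hx.2⟩ }
  have hFR : F ≤ R := fun x hx => hx.1
  have haF : zpowers a ≤ F := fun z hz => ⟨hzR hz, by
    rw [hzc z hz t, mul_inv_cancel_right, mul_inv_cancel]; exact one_mem _⟩
  have hFne : F ≠ R := by
    intro h
    have := (hπk t).2 (D.nat t t.2 fun x hx => ((h.ge hx) : x ∈ F).2)
    exact hn1 (htπ ▸ this)
  obtain ⟨k, hk, hFk⟩ := (Nat.dvd_prime_pow Nat.prime_three).1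
    (show Nat.card F ∣ 3 ^ 3 by rw [show 3 ^ 3 = 27 by norm_num, ← D.card_R]; exact card_dvd_of_le hFR)
  have hk3 : k ≤ 2 := by
    by_contra h
    exact hFne (eq_of_le_of_card_ge hFR (by rw [D.card_R, hFk, show k = 3 by omega]; norm_num))
  -- the case of order nine is impossible
  have hFa : F = zpowers a := by
    refine (eq_of_le_of_card_ge haF ?_).symm
    rw [Nat.card_zpowers, D.order, hFk]
    by_contra hbig
    push Not at hbig
    have hk2 : k = 2 := by
      by_contra h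
      have : 3 ^ k ≤ 3 ^ 1 := Nat.pow_le_pow_right (by norm_num) (by omega)
      omega
    subst hk2
    obtain ⟨x, hxR, hxF⟩ := SetLike.not_le_iff_exists.1 fun h => hFne (le_antisymm hFR h)
    have hgF : ∀ y ∈ F, (g : G) * y * (g : G)⁻¹ ∈ F := fun y hy => ⟨hRc g hy.1, by
      have hgt : (g : G) * t = t * g := by rw [ht, Subgroup.coe_mul, mul_assoc]
      have e1 : (t : G) * ((g : G) * y * (g : G)⁻¹) * (t : G)⁻¹ * ((g : G) * y * (g : G)⁻¹)⁻¹ =
          (g : G) * ((t : G) * y * (t : G)⁻¹ * y⁻¹) * (g : G)⁻¹ := by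
        rw [show (t : G) * ((g : G) * y * (g : G)⁻¹) * (t : G)⁻¹ = (t : G) * g * y * ((t : G) * g)⁻¹ by group,
          ← hgt]
        group
      rw [e1, hzc _ hy.2 g, mul_inv_cancel_right]
      exact hy.2⟩
    -- the three cosets
    let f : Fin 3 × F → R := fun p => ⟨x ^ (p.1 : ℕ) * p.2, mul_mem (pow_mem hxR _) (hFR p.2.2)⟩
    have hfi : Function.Injective f := by
      rintro ⟨i, y⟩ ⟨j, z⟩ h
      have h1 : x ^ (i : ℕ) * y = x ^ (j : ℕ) * z := congrArg Subtype.val h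
      have hx3 := D.exp x hxR
      have hone : ∀ m : ℕ, m < 3 → x ^ m ∈ F → m = 0 := by
        intro m hm hmem
        interval_cases m
        · rfl
        · exact absurd (pow_one x ▸ hmem) hxF
        · exfalso; apply hxF
          have : x = (x ^ 2)⁻¹ := eq_inv_of_mul_eq_one_left (by rw [← pow_succ', hx3])
          rw [this]; exact inv_mem hmem
      have hij : i = j := by
        rcases le_total (i : ℕ) j with h' | h'
        · have : x ^ ((j : ℕ) - i) ∈ F := by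
            have e : x ^ ((j : ℕ) - i) = (y : G) * (z : G)⁻¹ := by
              rw [eq_mul_inv_iff_mul_eq, ← mul_right_inj (x ^ (i : ℕ)), ← mul_assoc, ← pow_add,
                Nat.add_sub_cancel' h', h1]
            rw [e]; exact mul_mem y.2 (inv_mem z.2)
          exact Fin.ext (by have := hone _ (by omega) this; omega)
        · have : x ^ ((i : ℕ) - j) ∈ F := by
            have e : x ^ ((i : ℕ) - j) = (z : G) * (y : G)⁻¹ := by
              rw [eq_mul_inv_iff_mul_eq, ← mul_right_inj (x ^ (j : ℕ)), ← mul_assoc, ← pow_add,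
                Nat.add_sub_cancel' h', h1]
            rw [e]; exact mul_mem z.2 (inv_mem y.2)
          exact Fin.ext (by have := hone _ (by omega) this; omega)
      subst hij
      exact Prod.ext rfl (Subtype.ext (mul_left_cancel h1))
    have hfs := ((Nat.bijective_iff_injective_and_card f).2 ⟨hfi, by
      rw [Nat.card_prod, Nat.card_eq_fintype_card, Fintype.card_fin, hFk, D.card_R]; norm_num⟩).2
    obtain ⟨⟨i, y⟩, hy⟩ := hfs ⟨(g : G) * x * (g : G)⁻¹, hRc g hxR⟩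
    have hy' : x ^ (i : ℕ) * y = (g : G) * x * (g : G)⁻¹ := congrArg Subtype.val hy
    have hgg : (t : G) = (g : G) * g := by rw [ht, Subgroup.coe_mul]
    have hnF : ∀ {w y : G}, w ∈ R → y ∈ F → w * y * w⁻¹ ∈ F := fun {w y} hw hy => by
      have h1 := haF (D.comm w hw y hy.1)
      have h2 := mul_mem h1 hy
      rwa [inv_mul_cancel_right] at h2
    suffices (t : G) * x * (t : G)⁻¹ * x⁻¹ ∈ F by
      -- then `t` fixes it modulo the centre
      set z := (t : G) * x * (t : G)⁻¹ * x⁻¹ with hz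
      have h1 : (t : G) * z * (t : G)⁻¹ * z⁻¹ ∈ zpowers a := this.2
      have h2 : (t : G) * z * (t : G)⁻¹ = z⁻¹ := by
        rw [hz, htinv]
        simp only [mul_inv_rev, inv_inv, mul_assoc, htinv]
        rw [← mul_assoc (t : G) t, ht2, one_mul]
      rw [h2] at h1
      apply hxF
      refine ⟨hxR, ?_⟩
      rw [← hz]
      have h3 : (z⁻¹ * z⁻¹)⁻¹ ∈ zpowers a := inv_mem h1
      have h4 : z = ((z⁻¹ * z⁻¹)⁻¹) ^ 2 := by
        have hz3 := D.exp z this.1
        rw [mul_inv_rev, inv_inv, ← pow_two, ← pow_mul, show 2 * 2 = 3 + 1 from rfl, pow_add, hz3, one_mul,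
          pow_one]
      rw [h4]; exact pow_mem h3 2
    fin_cases i
    · exfalso
      apply hxF
      have hg' : (g : G) * x * (g : G)⁻¹ ∈ F := by rw [← hy']; simp
      have hg4 : (g : G)⁻¹ = (t : G) * g := by
        refine inv_eq_of_mul_eq_one_right ?_
        rw [← mul_assoc, hgg, ← ht2, hgg]; group
      have := hgF _ (hgF _ (hgF _ hg'))
      have e : (g : G) * ((g : G) * ((g : G) * ((g : G) * x * (g : G)⁻¹) * (g : G)⁻¹) * (g : G)⁻¹) * (g : G)⁻¹ = x := by
        calc _ = ((g : G) * g) * ((g : G) * g) * x * (((g : G) * g) * ((g : G) * g))⁻¹ := by group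
          _ = x := by rw [← hgg, ht2]; group
      rwa [e] at this
    · have h1 : (g : G) * x * (g : G)⁻¹ * x⁻¹ ∈ F := by
        rw [← hy']; simpa using hnF hxR y.2
      have e : (t : G) * x * (t : G)⁻¹ * x⁻¹ =
          (g : G) * ((g : G) * x * (g : G)⁻¹ * x⁻¹) * (g : G)⁻¹ * ((g : G) * x * (g : G)⁻¹ * x⁻¹) := by
        rw [hgg]; group
      rw [e]
      exact mul_mem (hgF _ h1) h1
    · have h1 : (g : G) * x * (g : G)⁻¹ * x ∈ F := by
        rw [← hy']
        have : x ^ 2 * (y : G) * x = x ^ 2 * (y : G) * (x ^ 2)⁻¹ * (x ^ 3) := by group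
        simp only []
        rw [this, D.exp x hxR, mul_one]
        exact hnF (pow_mem hxR 2) y.2
      have e : (t : G) * x * (t : G)⁻¹ * x⁻¹ =
          (g : G) * ((g : G) * x * (g : G)⁻¹ * x) * (g : G)⁻¹ *
            (x * ((g : G) * x * (g : G)⁻¹ * x) * x⁻¹)⁻¹ := by
        rw [hgg]; group
      rw [e]
      exact mul_mem (hgF _ h1) (inv_mem (hnF hxR h1))
  refine ⟨t, htπ, ht2, fun x hx => ?_, fun j hj => ?_⟩
  · have hw : (t : G) * x * t * x ∈ F := by
      refine ⟨mul_mem (by have := hRc t hx; rwa [htinv] at this) hx, ?_⟩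
      have e : (t : G) * ((t : G) * x * t * x) * (t : G)⁻¹ * ((t : G) * x * t * x)⁻¹ =
          ((t : G) * t) * x * ((t : G) * x * (t : G)⁻¹) * x⁻¹ * ((t : G) * x * t)⁻¹ := by
        rw [htinv]; group
      rw [e, ht2, one_mul, htinv]
      have := D.comm x hx ((t : G) * x * t) (by have := hRc t hx; rwa [htinv] at this)
      simpa [mul_assoc] using this
    rw [hFa] at hw
    exact hw
  · have hP : ∀ p ∈ R ⊔ J, (t : G) * p * t ∈ R ⊔ J := by
      have : R ⊔ J ≤ (R ⊔ J).comap (MulAut.conj (t : G)).toMonoidHom := by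
        refine sup_le (fun x hx => mem_sup_left ?_) (fun j hj => ?_)
        · exact hRc t hx
        · set u : ↥(centralizer ({a} : Set G)) := t * ⟨j, hJ.le hj⟩ * t⁻¹ * ⟨j, hJ.le hj⟩⁻¹ with hu
          have h1 : (u : G) ∈ R := by
            rw [← hπk, hu]
            simp only [map_mul, map_inv, htπ]
            set s := π ⟨j, hJ.le hj⟩
            rw [← mul_inv_eq_iff_eq_mul.1 (hncen s), mul_inv_cancel_right, mul_inv_cancel]
          change (t : G) * j * (t : G)⁻¹ ∈ R ⊔ J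
          have : (t : G) * j * (t : G)⁻¹ = (u : G) * j := by simp [hu]
          rw [this]
          exact mul_mem (mem_sup_left h1) (mem_sup_right hj)
      intro p hp
      have := this hp
      rwa [mem_comap, MulEquiv.coe_toMonoidHom, MulAut.conj_apply, htinv] at this
    have hmap : J.map (MulAut.conj (t : G)).toMonoidHom = J := by
      refine abelian_unique D hJ ?_ ?_ ?_
      · rintro _ ⟨p, hp, rfl⟩
        have := hP p (mem_sup_right hp)
        simpa [htinv] using this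
      · rintro _ ⟨p, hp, rfl⟩ _ ⟨q, hq, rfl⟩
        rw [← map_mul, ← map_mul, hJ.comm p hp q hq]
      · rw [card_map_of_injective (MulAut.conj (t : G)).injective, hJ.card]
    have := hmap.le (mem_map_of_mem _ hj)
    simpa [htinv] using this

/-- `J` is normalized by `R`, and `R ⊔ J` is the product of `J` and the powers of any element of `R` outside it. -/
theorem conj_mem_of_sup {g : G} (hg : g ∈ R ⊔ J) {j : G} (hj : j ∈ J) : g * j * g⁻¹ ∈ J := by
  have hmap : J.map (MulAut.conj g).toMonoidHom = J := by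
    refine abelian_unique D hJ ?_ ?_ ?_
    · rintro _ ⟨p, hp, rfl⟩
      exact mul_mem (mul_mem hg (mem_sup_right hp)) (inv_mem hg)
    · rintro _ ⟨p, hp, rfl⟩ _ ⟨q, hq, rfl⟩
      rw [← map_mul, ← map_mul, hJ.comm p hp q hq]
    · rw [card_map_of_injective (MulAut.conj g).injective, hJ.card]
  exact hmap.le (mem_map_of_mem _ hj)

theorem sup_decomp {y : G} (hy : y ∈ R) (hyJ : y ∉ J) {r : G} (hr : r ∈ R ⊔ J) :
    ∃ j ∈ J, ∃ i : Fin 3, r = j * y ^ (i : ℕ) := by
  obtain ⟨h81, -⟩ := card_sup D hJ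
  have hle : J ⊔ zpowers y ≤ R ⊔ J := sup_le le_sup_right ((zpowers_le.2 hy).trans le_sup_left)
  have htop : J ⊔ zpowers y = R ⊔ J := by
    refine eq_of_le_of_card_ge hle ?_
    obtain ⟨k, hk, e⟩ := (Nat.dvd_prime_pow Nat.prime_three).1
      (show Nat.card (J ⊔ zpowers y : Subgroup G) ∣ 3 ^ 4 by
        rw [show 3 ^ 4 = 81 by norm_num, ← h81]; exact card_dvd_of_le hle)
    have h2 : 27 < Nat.card (J ⊔ zpowers y : Subgroup G) := by
      rw [← hJ.card]
      refine lt_of_le_of_ne (Nat.le_of_dvd Nat.card_pos (card_dvd_of_le le_sup_left)) fun h => hyJ ?_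
      rw [eq_of_le_of_card_ge (le_sup_left : J ≤ J ⊔ zpowers y) h.ge]
      exact mem_sup_right (mem_zpowers y)
    rw [h81, e]
    rw [e] at h2
    have : 3 < k := (Nat.pow_lt_pow_iff_right (by norm_num : 1 < 3)).1 (by norm_num; exact h2)
    obtain rfl : k = 4 := by omega
    norm_num
  have hn : zpowers y ≤ normalizer (J : Set G) := by
    refine zpowers_le.2 (mem_normalizer_iff.2 fun j => ⟨fun hj => conj_mem_of_sup D hJ (mem_sup_left hy) hj,
      fun hj => ?_⟩)
    have := conj_mem_of_sup D hJ (inv_mem (mem_sup_left hy : y ∈ R ⊔ J)) hj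
    simpa [mul_assoc] using this
  have hr' : r ∈ ((J ⊔ zpowers y : Subgroup G) : Set G) := by rw [htop]; exact hr
  rw [coe_mul_of_right_le_normalizer_left J (zpowers y) hn] at hr'
  obtain ⟨j, hj, w, hw, rfl⟩ := hr'
  obtain ⟨k, rfl⟩ := mem_zpowers_iff.1 hw
  refine ⟨j, hj, ⟨(k % 3).toNat, by omega⟩, ?_⟩
  congr 1
  rw [← zpow_natCast, Int.toNat_of_nonneg (by omega)]
  conv_lhs => rw [← Int.mul_ediv_add_emod k 3, zpow_add, zpow_mul, show y ^ (3 : ℤ) = 1 by
    rw [show ((3 : ℤ)) = ((3 : ℕ) : ℤ) from rfl, zpow_natCast]; exact D.exp y hy, one_zpow, one_mul]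

/-- An element of `R` outside `J` and one of `J` outside `R`, adapted to the involution. -/
theorem exists_frame_elts {π : ↥(centralizer ({a} : Set G)) →* SL3} (hπs : Function.Surjective π)
    (hπk : ∀ g : ↥(centralizer ({a} : Set G)), π g = 1 ↔ (g : G) ∈ R) :
    ∃ t : ↥(centralizer ({a} : Set G)), π t = negOne ∧ (t : G) * t = 1 ∧ (∀ j ∈ J, (t : G) * j * t ∈ J) ∧
      ∃ y b : G, y ∈ R ∧ y ∉ J ∧ (t : G) * y * t = y⁻¹ ∧ b ∈ J ∧ b ∉ R ∧ (t : G) * b * t = b ∧
        b * (y * b * y⁻¹) * (y * y * b * (y * y)⁻¹) = a := by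
  obtain ⟨t, htπ, ht2, htR, htJ⟩ := exists_invol D hJ hπs hπk
  refine ⟨t, htπ, ht2, htJ, ?_⟩
  have htinv : (t : G)⁻¹ = t := inv_eq_of_mul_eq_one_right ht2
  have htt : ∀ x : G, (t : G) * ((t : G) * x) = x := fun x => by rw [← mul_assoc, ht2, one_mul]
  obtain ⟨-, -, hn1, hncen, -⟩ := sl_neg_facts
  have haJ := a_mem_J D hJ
  have hzc : ∀ z ∈ zpowers a, ∀ g ∈ centralizer ({a} : Set G), g * z = z * g := by
    intro z hz g hg
    obtain ⟨k, rfl⟩ := mem_zpowers_iff.1 hz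
    exact (Commute.zpow_right (mem_centralizer_singleton_iff.1 hg) k).eq
  obtain ⟨r0, hr0, hr0J⟩ := SetLike.not_le_iff_exists.1 (fun h : R ≤ J => not_le_R D hJ
    (eq_of_le_of_card_ge h (by rw [hJ.card, D.card_R])).ge)
  set y := r0⁻¹ * ((t : G) * r0 * t) with hy
  have hyR : y ∈ R := mul_mem (inv_mem hr0) (by
    have := (mem_normalizer_iff.1 (D.norm t.2) r0).1 hr0
    rwa [htinv] at this)
  have hy3 := D.exp y hyR
  have hyJ : y ∉ J := by
    intro h
    have hw := htR r0 hr0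
    set w := (t : G) * r0 * t * r0 with hwdef
    have e : y = w * r0 := by
      have h1 : (t : G) * r0 * t = w * r0⁻¹ := by rw [hwdef, mul_inv_cancel_right]
      have h3 : r0⁻¹ * r0⁻¹ = r0 := by
        rw [← mul_inv_rev, inv_eq_iff_mul_eq_one, mul_assoc, ← pow_two, ← pow_succ']
        exact D.exp r0 hr0
      rw [hy, h1, ← mul_assoc, hzc w hw _ (inv_mem (D.le hr0)), mul_assoc, h3]
    apply hr0J
    have : r0 = w⁻¹ * y := by rw [e, inv_mul_cancel_left]
    rw [this]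
    exact mul_mem (inv_mem ((zpowers_le.2 haJ) hw)) h
  have hty : (t : G) * y * t = y⁻¹ := by
    simp only [hy, mul_inv_rev, inv_inv, htinv, mul_assoc, ht2, mul_one]
  obtain ⟨j0, hj0, hj0R⟩ := SetLike.not_le_iff_exists.1 (not_le_R D hJ)
  set b0 := j0 * ((t : G) * j0 * t) with hb0
  have hb0J : b0 ∈ J := mul_mem hj0 (htJ j0 hj0)
  have hb0t : (t : G) * b0 * t = b0 := by
    have h1 : (t : G) * b0 * t = (t : G) * j0 * t * j0 := by
      simp only [hb0, mul_assoc, htt, ht2, mul_one]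
    rw [h1, hb0]
    exact (hJ.comm _ hj0 _ (htJ j0 hj0)).symm
  set s := π ⟨j0, hJ.le hj0⟩ with hs
  have hs3 : s ^ 3 = 1 := by
    rw [hs, ← map_pow, hπk, Subgroup.coe_pow, hJ.exp j0 hj0]; exact one_mem _
  have hs1 : s ≠ 1 := fun h => hj0R ((hπk _).1 h)
  have hπb : π ⟨b0, hJ.le hb0J⟩ = s * s := by
    have : (⟨b0, hJ.le hb0J⟩ : ↥(centralizer ({a} : Set G))) = ⟨j0, hJ.le hj0⟩ * (t * ⟨j0, hJ.le hj0⟩ * t) :=
      Subtype.ext rfl
    rw [this, map_mul, map_mul, map_mul, htπ, ← hs]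
    congr 1
    rw [← mul_inv_eq_iff_eq_mul.1 (hncen s), mul_assoc, sl_neg_facts.1, mul_one]
  have hb0R : b0 ∉ R := fun h => by
    have h1 := (hπk _).2 (show ((⟨b0, hJ.le hb0J⟩ : ↥(centralizer ({a} : Set G))) : G) ∈ R from h)
    rw [hπb] at h1
    rw [pow_succ, pow_two, h1, one_mul] at hs3
    exact hs1 hs3
  -- the product of the three conjugates
  let P3 : G → G := fun b => b * (y * b * y⁻¹) * (y * y * b * (y * y)⁻¹)
  have hyc : ∀ {j : G}, j ∈ J → y * j * y⁻¹ ∈ J := fun hj => conj_mem_of_sup D hJ (mem_sup_left hyR) hj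
  have hyyc : ∀ {j : G}, j ∈ J → y * y * j * (y * y)⁻¹ ∈ J := fun hj =>
    conj_mem_of_sup D hJ (mul_mem (mem_sup_left hyR) (mem_sup_left hyR)) hj
  have hP3J : ∀ {b : G}, b ∈ J → P3 b ∈ J := fun hb => mul_mem (mul_mem hb (hyc hb)) (hyyc hb)
  have hP3mul : ∀ {b c : G}, b ∈ J → c ∈ J → P3 (b * c) = P3 b * P3 c := fun {b c} hb hc => by
    have e1 : y * (b * c) * y⁻¹ = (y * b * y⁻¹) * (y * c * y⁻¹) := by group
    have e2 : y * y * (b * c) * (y * y)⁻¹ = (y * y * b * (y * y)⁻¹) * (y * y * c * (y * y)⁻¹) := by group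
    simp only [P3, e1, e2]
    have c1 : Commute c (y * b * y⁻¹) := hJ.comm c hc _ (hyc hb)
    have c2 : Commute (c * (y * c * y⁻¹)) (y * y * b * (y * y)⁻¹) :=
      hJ.comm _ (mul_mem hc (hyc hc)) _ (hyyc hb)
    calc b * c * (y * b * y⁻¹ * (y * c * y⁻¹)) * (y * y * b * (y * y)⁻¹ * (y * y * c * (y * y)⁻¹))
        = b * (c * (y * b * y⁻¹)) * (y * c * y⁻¹) * (y * y * b * (y * y)⁻¹) * (y * y * c * (y * y)⁻¹) := by group
      _ = b * (y * b * y⁻¹) * ((c * (y * c * y⁻¹)) * (y * y * b * (y * y)⁻¹)) * (y * y * c * (y * y)⁻¹) := by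
        rw [c1.eq]; group
      _ = _ := by rw [c2.eq]; group
  have hcen : ∀ {x : G}, x ∈ J → y * x * y⁻¹ = x → x ∈ R → x ∈ zpowers a := by
    intro x hx hxy hxR
    refine D.center x hxR fun r hr => ?_
    obtain ⟨j, hj, i, rfl⟩ := sup_decomp D hJ hyR hyJ (mem_sup_left hr)
    exact ((show Commute x j from hJ.comm x hx j hj).mul_right
      (Commute.pow_right (show Commute x y from (mul_inv_eq_iff_eq_mul.1 hxy).symm) _)).eq
  have hP3a : ∀ {b : G}, b ∈ J → P3 b ∈ zpowers a := by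
    intro b hb
    refine hcen (hP3J hb) ?_ ?_
    · have hyy : y * y * y = 1 := by rw [← pow_two, ← pow_succ, hy3]
      have e : y * P3 b * y⁻¹ = (y * b * y⁻¹) * (y * y * b * (y * y)⁻¹) * b := by
        calc y * P3 b * y⁻¹ = (y * b * y⁻¹) * (y * y * b * (y * y)⁻¹) * (y * y * y * b * (y * y * y)⁻¹) := by
              simp only [P3]; group
          _ = _ := by rw [hyy]; group
      rw [e, hJ.comm _ (mul_mem (hyc hb) (hyyc hb)) b hb, ← mul_assoc]
    · have hπy : π ⟨y, D.le hyR⟩ = 1 := (hπk _).2 hyR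
      have h1 : (⟨P3 b, hJ.le (hP3J hb)⟩ : ↥(centralizer ({a} : Set G))) =
          ⟨b, hJ.le hb⟩ * (⟨y, D.le hyR⟩ * ⟨b, hJ.le hb⟩ * ⟨y, D.le hyR⟩⁻¹) *
            (⟨y, D.le hyR⟩ * ⟨y, D.le hyR⟩ * ⟨b, hJ.le hb⟩ * (⟨y, D.le hyR⟩ * ⟨y, D.le hyR⟩)⁻¹) :=
        Subtype.ext rfl
      refine (hπk ⟨P3 b, hJ.le (hP3J hb)⟩).1 ?_
      rw [h1]
      simp only [map_mul, map_inv, hπy, one_mul, inv_one, mul_one]
      rw [← pow_two, ← pow_succ, ← map_pow, hπk, Subgroup.coe_pow, hJ.exp b hb]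
      exact one_mem _
  have hP3ne : P3 b0 ≠ 1 := by
    intro h
    apply hb0R
    set w := y * b0 * y⁻¹ * b0⁻¹ with hw
    have hwJ : w ∈ J := mul_mem (hyc hb0J) (inv_mem hb0J)
    have hwR : w ∈ R := by
      rw [hw, show y * b0 * y⁻¹ * b0⁻¹ = y * (b0 * y⁻¹ * b0⁻¹) by group]
      exact mul_mem hyR ((mem_normalizer_iff.1 (D.norm (hJ.le hb0J)) _).1 (inv_mem hyR))
    have hwy : y * w * y⁻¹ = w := by
      set z := y * w * y⁻¹ with hz
      have hzJ : z ∈ J := hyc hwJ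
      have e1 : y * b0 * y⁻¹ = w * b0 := by rw [hw, inv_mul_cancel_right]
      have e2 : y * y * b0 * (y * y)⁻¹ = z * w * b0 := by
        calc y * y * b0 * (y * y)⁻¹ = (y * (y * b0 * y⁻¹ * b0⁻¹) * y⁻¹) * (y * b0 * y⁻¹) := by group
          _ = z * (w * b0) := by rw [← hw, ← hz, e1]
          _ = _ := by group
      have h' : b0 * (w * b0) * (z * w * b0) = 1 := by rw [← e2, ← e1]; exact h
      have e3 : b0 * (w * b0) * (z * w * b0) = z * (w * w) * (b0 ^ 3) := by
        have c1 : Commute b0 w := hJ.comm _ hb0J _ hwJ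
        have c2 : Commute (b0 * b0) z := hJ.comm _ (mul_mem hb0J hb0J) _ hzJ
        have c3 : Commute w z := hJ.comm _ hwJ _ hzJ
        calc b0 * (w * b0) * (z * w * b0) = w * ((b0 * b0) * z) * w * b0 := by
              rw [← mul_assoc b0 w, c1.eq]; group
          _ = (w * z) * ((b0 * b0) * w) * b0 := by rw [c2.eq]; group
          _ = (z * w) * (w * (b0 * b0)) * b0 := by rw [c3.eq, (c1.mul_left c1).eq]
          _ = _ := by rw [pow_succ, pow_two]; group
      rw [e3, hJ.exp b0 hb0J, mul_one, mul_eq_one_iff_eq_inv] at h'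
      rw [h', eq_comm, eq_inv_iff_mul_eq_one, ← pow_two, ← pow_succ']
      exact hJ.exp w hwJ
    have hwa := hcen hwJ hwy hwR
    refine D.nat b0 (hJ.le hb0J) fun r hr => ?_
    obtain ⟨j, hj, i, rfl⟩ := sup_decomp D hJ hyR hyJ (mem_sup_left hr)
    have hwc : ∀ g ∈ centralizer ({a} : Set G), g * w⁻¹ = w⁻¹ * g := hzc _ (inv_mem hwa)
    have e1 : b0 * y * b0⁻¹ = w⁻¹ * y := by
      rw [hw]; group
    have e2 : b0 * y ^ (i : ℕ) * b0⁻¹ = (w⁻¹) ^ (i : ℕ) * y ^ (i : ℕ) := by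
      rw [← conj_pow, e1, (show Commute w⁻¹ y from (hwc y (D.le hyR)).symm).mul_pow]
    have c1 : Commute b0 j := hJ.comm _ hb0J _ hj
    have e3 : b0 * (j * y ^ (i : ℕ)) * b0⁻¹ * (j * y ^ (i : ℕ))⁻¹ =
        j * ((w⁻¹) ^ (i : ℕ)) * j⁻¹ := by
      rw [← mul_assoc b0 j, c1.eq, show j * b0 * y ^ (i : ℕ) * b0⁻¹ = j * (b0 * y ^ (i : ℕ) * b0⁻¹) by group, e2]
      group
    rw [e3, hzc _ (pow_mem (inv_mem hwa) _) _ (hJ.le hj), mul_inv_cancel_right]
    exact pow_mem (inv_mem hwa) _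
  obtain ⟨k, hk⟩ := mem_zpowers_iff.1 (hP3a hb0J)
  have ha3 : a ^ (3 : ℤ) = 1 := by
    rw [show ((3 : ℤ)) = ((3 : ℕ) : ℤ) from rfl, zpow_natCast, ← D.order]; exact pow_orderOf_eq_one a
  have hka : P3 b0 = a ^ (k % 3) := by
    rw [← hk]
    conv_lhs => rw [← Int.mul_ediv_add_emod k 3, zpow_add, zpow_mul, ha3, one_zpow, one_mul]
  rcases (show k % 3 = 0 ∨ k % 3 = 1 ∨ k % 3 = 2 by omega) with e | e | e <;> rw [e] at hka
  · exact absurd (hka.trans (zpow_zero a)) hP3ne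
  · exact ⟨y, b0, hyR, hyJ, hty, hb0J, hb0R, hb0t, hka.trans (zpow_one a)⟩
  · refine ⟨y, b0 * b0, hyR, hyJ, hty, mul_mem hb0J hb0J, fun h => hb0R ?_, ?_, ?_⟩
    · have e' : b0 = (b0 * b0) * (b0 * b0) := by
        rw [show b0 * b0 * (b0 * b0) = b0 ^ 3 * b0 by simp [pow_succ, mul_assoc], hJ.exp b0 hb0J, one_mul]
      rw [e']; exact mul_mem h h
    · calc (t : G) * (b0 * b0) * t = ((t : G) * b0 * t) * ((t : G) * b0 * t) := by
            simp only [mul_assoc, htt]
        _ = _ := by rw [hb0t]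
    · show P3 (b0 * b0) = a
      rw [hP3mul hb0J hb0J, hka, ← zpow_add, show ((2 : ℤ) + 2) = 3 + 1 from rfl, zpow_add, ha3, one_mul,
        zpow_one]

end

open Cfsg.Agent.NineSym in
/-- The base of the normalizer. -/
theorem exists_base [Finite G] (D : CentData a R) (hJ : JData a R J)
    (hsig : ∀ K : Subgroup G, (Nat.card K).Coprime 3 → J ≤ normalizer (K : Set G) → K = ⊥) :
    ∃ θ : V3 → ↥(normalizer (J : Set G)), ∃ sp : Fin 6 → ↥(normalizer (J : Set G)),
      Base (J.subgroupOf (normalizer (J : Set G))) θ sp ∧ ((θ (1, 1, 1) : ↥(normalizer (J : Set G))) : G) = a ∧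
        (∀ v : V3, v.1 + v.2.1 + v.2.2 = 0 → ((θ v : ↥(normalizer (J : Set G))) : G) ∈ R) ∧
          ((sp 1 : ↥(normalizer (J : Set G))) : G) ∈ R := by
  obtain ⟨π, hπs, hπk⟩ := D.quot
  obtain ⟨t, htπ, ht2, htJ, y, b, hyR, hyJ, hty, hbJ, hbR, hbt, hP3⟩ := exists_frame_elts D hJ hπs hπk
  have htinv : (t : G)⁻¹ = t := inv_eq_of_mul_eq_one_right ht2
  have hy3 := D.exp y hyR
  have hyy : y * y * y = 1 := by rw [← pow_two, ← pow_succ, hy3]
  set e1 := y * b * y⁻¹ with he1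
  set e2 := y * y * b * (y * y)⁻¹ with he2
  have he1J : e1 ∈ J := conj_mem_of_sup D hJ (mem_sup_left hyR) hbJ
  have he2J : e2 ∈ J := conj_mem_of_sup D hJ (mul_mem (mem_sup_left hyR) (mem_sup_left hyR)) hbJ
  set θ0 : V3 → G := comb b e1 e2 with hθ0
  have hθJ : ∀ v, θ0 v ∈ J := fun v => mul_mem (mul_mem (pow_mem hbJ _) (pow_mem he1J _)) (pow_mem he2J _)
  have hadd : ∀ u v, θ0 (u + v) = θ0 u * θ0 v := comb_add (hJ.exp b hbJ) (hJ.exp e1 he1J) (hJ.exp e2 he2J)
    (hJ.comm _ hbJ _ he1J) (hJ.comm _ hbJ _ he2J) (hJ.comm _ he1J _ he2J)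
  have hθa : θ0 (1, 1, 1) = a := by simpa [hθ0, comb, ZMod.val_one] using hP3
  have hyθ : ∀ v, y * θ0 v * y⁻¹ = θ0 (pact 1 v) := by
    intro v
    have c1 : y * e1 * y⁻¹ = e2 := by rw [he1, he2]; group
    have c2 : y * e2 * y⁻¹ = b := by
      calc y * e2 * y⁻¹ = (y * y * y) * b * (y * y * y)⁻¹ := by rw [he2]; group
        _ = b := by rw [hyy]; group
    have : y * θ0 v * y⁻¹ = e1 ^ v.1.val * e2 ^ v.2.1.val * b ^ v.2.2.val := by
      simp only [hθ0, comb]
      calc _ = (y * b ^ v.1.val * y⁻¹) * (y * e1 ^ v.2.1.val * y⁻¹) * (y * e2 ^ v.2.2.val * y⁻¹) := by group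
        _ = _ := by rw [← conj_pow, ← conj_pow, ← conj_pow, ← he1, c1, c2]
    rw [this]
    show _ = b ^ v.2.2.val * e1 ^ v.1.val * e2 ^ v.2.1.val
    rw [hJ.comm _ (mul_mem (pow_mem he1J _) (pow_mem he2J _)) _ (pow_mem hbJ _), ← mul_assoc]
  have htθ : ∀ v, (t : G) * θ0 v * (t : G)⁻¹ = θ0 (pact 5 v) := by
    intro v
    have c0 : (t : G) * b * (t : G)⁻¹ = b := by rw [htinv]; exact hbt
    have cy : (t : G) * y * (t : G)⁻¹ = y⁻¹ := by rw [htinv]; exact hty
    have hy2 : y * y = y⁻¹ := eq_inv_of_mul_eq_one_left hyy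
    have c1 : (t : G) * e1 * (t : G)⁻¹ = e2 := by
      calc (t : G) * e1 * (t : G)⁻¹ = ((t : G) * y * (t : G)⁻¹) * ((t : G) * b * (t : G)⁻¹) *
            ((t : G) * y * (t : G)⁻¹)⁻¹ := by rw [he1]; group
        _ = _ := by rw [c0, cy, he2, hy2]
    have c2 : (t : G) * e2 * (t : G)⁻¹ = e1 := by
      calc (t : G) * e2 * (t : G)⁻¹ = (t : G) * ((t : G) * e1 * (t : G)⁻¹) * (t : G)⁻¹ := by rw [c1]
        _ = ((t : G) * t) * e1 * ((t : G) * t)⁻¹ := by group
        _ = e1 := by rw [ht2]; group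
    have : (t : G) * θ0 v * (t : G)⁻¹ = b ^ v.1.val * e2 ^ v.2.1.val * e1 ^ v.2.2.val := by
      simp only [hθ0, comb]
      calc _ = ((t : G) * b ^ v.1.val * (t : G)⁻¹) * ((t : G) * e1 ^ v.2.1.val * (t : G)⁻¹) *
            ((t : G) * e2 ^ v.2.2.val * (t : G)⁻¹) := by group
        _ = _ := by rw [← conj_pow, ← conj_pow, ← conj_pow, c0, c1, c2]
    rw [this]
    show _ = b ^ v.1.val * e1 ^ v.2.2.val * e2 ^ v.2.1.val
    rw [mul_assoc, hJ.comm _ (pow_mem he2J _) _ (pow_mem he1J _), ← mul_assoc]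
  -- values in the quotient
  have hπy : π ⟨y, D.le hyR⟩ = 1 := (hπk _).2 hyR
  set σ := π ⟨b, hJ.le hbJ⟩ with hσ
  have hσ3 : σ ^ 3 = 1 := by
    rw [hσ, ← map_pow, hπk, Subgroup.coe_pow, hJ.exp b hbJ]; exact one_mem _
  have hσ1 : σ ≠ 1 := fun h => hbR ((hπk _).1 h)
  have hπθ : ∀ v, π ⟨θ0 v, hJ.le (hθJ v)⟩ = σ ^ (v.1.val + v.2.1.val + v.2.2.val) := by
    intro v
    have : (⟨θ0 v, hJ.le (hθJ v)⟩ : ↥(centralizer ({a} : Set G))) = ⟨b, hJ.le hbJ⟩ ^ v.1.val *
        (⟨y, D.le hyR⟩ * ⟨b, hJ.le hbJ⟩ * ⟨y, D.le hyR⟩⁻¹) ^ v.2.1.val *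
        (⟨y, D.le hyR⟩ * ⟨y, D.le hyR⟩ * ⟨b, hJ.le hbJ⟩ * (⟨y, D.le hyR⟩ * ⟨y, D.le hyR⟩)⁻¹) ^ v.2.2.val :=
      Subtype.ext (by simp [hθ0, comb, he1, he2])
    rw [this]
    simp only [map_mul, map_pow, map_inv, hπy, one_mul, inv_one, mul_one, ← hσ, pow_add]
  have hpl : ∀ v : V3, θ0 v ∈ R ↔ v.1 + v.2.1 + v.2.2 = 0 := by
    intro v
    have h1 : θ0 v ∈ R ↔ π ⟨θ0 v, hJ.le (hθJ v)⟩ = 1 :=
      (hπk ⟨θ0 v, hJ.le (hθJ v)⟩).symm
    rw [h1, hπθ, ← orderOf_dvd_iff_pow_eq_one,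
      orderOf_eq_prime hσ3 hσ1, ← ZMod.natCast_eq_zero_iff]
    push_cast
    simp
  have hθzero : θ0 0 = 1 := by
    have h := hadd 0 0
    rw [add_zero] at h
    exact mul_eq_left.1 h.symm
  have hnsmul : ∀ (n : ℕ) v, θ0 (n • v) = θ0 v ^ n := by
    intro n v
    induction n with
    | zero => rw [zero_nsmul, hθzero, pow_zero]
    | succ n ih => rw [succ_nsmul, hadd, ih, pow_succ]
  have hker : ∀ v, θ0 v = 1 → v = 0 := by
    intro v hv
    have hsum := (hpl v).1 (by rw [hv]; exact one_mem _)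
    obtain ⟨k, l, rfl⟩ : ∃ k l : Fin 3, v = (k : ℕ) • ((0, 1, 2) : V3) + (l : ℕ) • (1, 1, 1) :=
      (by decide +kernel : ∀ v : V3, v.1 + v.2.1 + v.2.2 = 0 →
        ∃ k l : Fin 3, v = (k : ℕ) • ((0, 1, 2) : V3) + (l : ℕ) • (1, 1, 1)) v hsum
    rw [hadd, hnsmul, hnsmul, hθa] at hv
    set u := θ0 (0, 1, 2) with hu
    have hu3 : u ^ 3 = 1 := hJ.exp u (hθJ _)
    have hua : u ∉ zpowers a := by
      intro h
      have hyu : y * u * y⁻¹ = u := by
        obtain ⟨m, hm⟩ := mem_zpowers_iff.1 h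
        have : Commute y u := hm ▸ (Commute.zpow_right (mem_centralizer_singleton_iff.1 (D.le hyR)) m)
        rw [this.eq, mul_inv_cancel_right]
      rw [hu, hyθ, show pact 1 ((0, 1, 2) : V3) = (0, 1, 2) + ((2 : ℕ) • (1, 1, 1)) by decide +kernel, hadd,
        hnsmul, hθa, mul_eq_left] at hyu
      have ho := orderOf_dvd_of_pow_eq_one hyu
      rw [D.order] at ho
      norm_num at ho
    have hk : (k : ℕ) = 0 := by
      by_contra hk
      apply hua
      have h1 : u ^ (k : ℕ) ∈ zpowers a := by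
        rw [eq_inv_of_mul_eq_one_left hv]; exact inv_mem (npow_mem_zpowers a _)
      rcases (show (k : ℕ) = 1 ∨ (k : ℕ) = 2 by omega) with e | e <;> rw [e] at h1
      · simpa using h1
      · have : u = (u ^ 2) ^ 2 := by rw [← pow_mul, show 2 * 2 = 3 + 1 from rfl, pow_add, hu3, one_mul, pow_one]
        rw [this]; exact pow_mem h1 2
    rw [hk, pow_zero, one_mul] at hv
    have hl : (l : ℕ) = 0 := by
      have ho := orderOf_dvd_of_pow_eq_one hv
      rw [D.order] at ho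
      omega
    rw [hk, hl]
    rfl
  have hinj : Function.Injective θ0 := by
    intro u v h
    have : θ0 (u - v) = 1 := by
      have h1 := hadd (u - v) v
      rw [sub_add_cancel, h] at h1
      exact mul_eq_right.1 h1.symm
    exact sub_eq_zero.1 (hker _ this)
  have hsurj : ∀ j ∈ J, ∃ v, θ0 v = j := by
    intro j hj
    have hb := (Nat.bijective_iff_injective_and_card (fun v => (⟨θ0 v, hθJ v⟩ : J))).2
      ⟨fun u v h => hinj (congrArg Subtype.val h), by rw [hJ.card]; simp⟩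
    obtain ⟨v, hv⟩ := hb.2 ⟨j, hj⟩
    exact ⟨v, congrArg Subtype.val hv⟩
  -- the normalizer
  have hmemN : ∀ {g : G}, (∀ j ∈ J, g * j * g⁻¹ ∈ J) → g ∈ normalizer (J : Set G) := fun {g} h => by
    refine mem_normalizer_iff_map_conj_eq.2 (eq_of_le_of_card_ge ?_ (by
      rw [card_map_of_injective (MulAut.conj g).injective]))
    rintro _ ⟨j, hj, rfl⟩
    exact h j hj
  have hyN : y ∈ normalizer (J : Set G) :=
    hmemN fun j hj => conj_mem_of_sup D hJ (mem_sup_left hyR) hj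
  have htN : (t : G) ∈ normalizer (J : Set G) := hmemN fun j hj => by rw [htinv]; exact htJ j hj
  set θ : V3 → ↥(normalizer (J : Set G)) := fun v => ⟨θ0 v, le_normalizer (hθJ v)⟩ with hθ
  set Y : ↥(normalizer (J : Set G)) := ⟨y, hyN⟩ with hY
  set T : ↥(normalizer (J : Set G)) := ⟨(t : G), htN⟩ with hT
  let sp : Fin 6 → ↥(normalizer (J : Set G)) := ![1, Y, Y * Y, Y * T, Y * Y * T, T]
  have hY3 : Y * (Y * Y) = 1 := Subtype.ext (by
    show y * (y * y) = 1
    rw [← mul_assoc]; exact hyy)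
  have hY3' : ∀ x, Y * (Y * (Y * x)) = x := fun x => by
    rw [← mul_assoc, ← mul_assoc, mul_assoc Y Y Y, hY3, one_mul]
  have hT2 : T * T = 1 := Subtype.ext ht2
  have hT2' : ∀ x, T * (T * x) = x := fun x => by rw [← mul_assoc, hT2, one_mul]
  have hTY : T * Y = Y * (Y * T) := Subtype.ext (by
    show (t : G) * y = y * (y * t)
    rw [← mul_assoc, show y * y = y⁻¹ from eq_inv_of_mul_eq_one_left hyy, ← hty, mul_assoc _ (t : G) (t : G),
      ht2, mul_one])
  have hTY' : ∀ x, T * (Y * x) = Y * (Y * (T * x)) := fun x => by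
    rw [← mul_assoc, hTY, mul_assoc, mul_assoc]
  have hsmul : ∀ p q, sp (pmul p q) = sp p * sp q := by
    intro p q
    fin_cases p <;> fin_cases q <;>
      simp [sp, pmul, mul_assoc, hY3, hY3', hT2, hT2', hTY, hTY']
  have hact1 : ∀ v, sp 1 * θ v * (sp 1)⁻¹ = θ (pact 1 v) := fun v => Subtype.ext (hyθ v)
  have hact5 : ∀ v, sp 5 * θ v * (sp 5)⁻¹ = θ (pact 5 v) := fun v => Subtype.ext (htθ v)
  have hact : ∀ p v, sp p * θ v * (sp p)⁻¹ = θ (pact p v) := by
    have hcomp : ∀ {p q}, (∀ v, sp p * θ v * (sp p)⁻¹ = θ (pact p v)) →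
        (∀ v, sp q * θ v * (sp q)⁻¹ = θ (pact q v)) →
        ∀ v, sp (pmul p q) * θ v * (sp (pmul p q))⁻¹ = θ (pact (pmul p q) v) := by
      intro p q hp hq v
      rw [hsmul, (by decide +kernel : ∀ p q, ∀ v : V3, pact (pmul p q) v = pact p (pact q v)) p q v, ← hp, ← hq]
      group
    have h2 := hcomp hact1 hact1
    intro p
    fin_cases p
    · intro v
      show (1 : ↥(normalizer (J : Set G))) * θ v * 1⁻¹ = θ v
      simp
    · exact hact1
    · exact h2
    · exact hcomp hact1 hact5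
    · exact hcomp h2 hact5
    · exact hact5
  have hsinj : ∀ v p, sp p = θ v → p = 0 := by
    intro v p h
    by_contra hp
    have hmem : ((sp p : ↥(normalizer (J : Set G))) : G) ∈ J := h ▸ hθJ v
    have hinvol : ∀ {x : G}, x * x = 1 → x ∈ J → x = 1 := fun {x} h2 hx => by
      have h3 := hJ.exp x hx
      rwa [pow_succ, pow_two, h2, one_mul] at h3
    have htne : (t : G) ≠ 1 := fun h1 => sl_neg_facts.2.2.1 (by
      rw [← htπ, show t = 1 from Subtype.ext h1, map_one])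
    have hTne : ∀ (x : ↥(normalizer (J : Set G))), x * T * (x * T) = 1 → ((x * T : ↥(normalizer (J : Set G))) : G) ∈ J →
        ∀ hxC : (x : G) ∈ centralizer ({a} : Set G), π ⟨(x : G), hxC⟩ = 1 → False := by
      intro x hx2 hxJ hxC hπx
      have h1 := hinvol (by rw [← Subgroup.coe_mul, hx2]; rfl) hxJ
      have h2 : (⟨(x : G), hxC⟩ : ↥(centralizer ({a} : Set G))) * t = 1 := Subtype.ext h1
      have h3 := congrArg π h2
      rw [map_mul, hπx, htπ, one_mul, map_one] at h3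
      exact sl_neg_facts.2.2.1 h3
    fin_cases p
    · exact hp rfl
    · exact hyJ hmem
    · apply hyJ
      have : y = (y * y) * (y * y) := by
        rw [← mul_assoc, hyy, one_mul]
      rw [this]
      exact mul_mem hmem hmem
    · exact hTne Y (by simp [mul_assoc, hY3, hY3', hT2, hT2', hTY, hTY']) hmem (D.le hyR) hπy
    · refine hTne (Y * Y) (by simp [mul_assoc, hY3, hY3', hT2, hT2', hTY, hTY']) hmem
        (mul_mem (D.le hyR) (D.le hyR)) ?_
      exact (hπk _).2 (mul_mem hyR hyR)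
    · exact htne (hinvol ht2 hmem)
  refine ⟨θ, sp, ⟨fun u v => Subtype.ext (hadd u v), fun u v h => hinj (congrArg Subtype.val h),
    fun g => ?_, hsmul, hsinj, hact, fun g hg => ?_, fun K hK hle => ?_⟩, hθa, fun v hv => (hpl v).2 hv, hyR⟩
  · rw [mem_subgroupOf]
    exact ⟨fun h => (hsurj _ h).imp fun v e => Subtype.ext e, fun ⟨v, e⟩ => e ▸ hθJ v⟩
  · -- the centralizer in the normalizer
    have hga : (g : G) * a = a * g := by rw [← hθa]; exact congrArg Subtype.val hg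
    set gC : ↥(centralizer ({a} : Set G)) := ⟨(g : G), mem_centralizer_singleton_iff.2 hga⟩ with hgC
    obtain ⟨v0, hv0⟩ := hsurj _ ((mem_normalizer_iff.1 g.2 b).1 hbJ)
    have hconj : π gC * σ * (π gC)⁻¹ = σ ^ (v0.1.val + v0.2.1.val + v0.2.2.val) := by
      rw [← hπθ, hσ, ← map_inv, ← map_mul, ← map_mul]
      exact congrArg π (Subtype.ext hv0.symm)
    obtain ⟨i, hi⟩ := sl_sigma σ hσ3 hσ1 (π gC) ⟨⟨(v0.1.val + v0.2.1.val + v0.2.2.val) % 3, Nat.mod_lt _ (by norm_num)⟩, by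
      rw [hconj]
      show _ = σ ^ ((v0.1.val + v0.2.1.val + v0.2.2.val) % 3)
      exact pow_eq_pow_mod _ hσ3⟩
    let S : Set ↥(normalizer (J : Set G)) := {x | ∃ v p, x = θ v * sp p}
    have hSmul : ∀ {x z}, x ∈ S → z ∈ S → x * z ∈ S := by
      rintro x z ⟨u, p, rfl⟩ ⟨v, q, rfl⟩
      refine ⟨u + pact p v, pmul p q, ?_⟩
      rw [hsmul, show θ (u + pact p v) = θ u * θ (pact p v) from Subtype.ext (hadd _ _), ← hact p v]
      group
    have hb1 : θ ((i : ℕ) • ((1, 0, 0) : V3)) ∈ S := ⟨_, 0, by show _ = θ _ * (1 : ↥(normalizer (J : Set G))); rw [mul_one]⟩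
    have hT' : T ∈ S := ⟨0, 5, by
      rw [show θ 0 = 1 from Subtype.ext hθzero, one_mul]; rfl⟩
    have hbv : θ0 ((1, 0, 0) : V3) = b := by simp [hθ0, comb, ZMod.val_one]
    have hπb : π ⟨θ0 ((i : ℕ) • ((1, 0, 0) : V3)), hJ.le (hθJ _)⟩ = σ ^ (i : ℕ) := by
      rw [hσ, ← map_pow]
      exact congrArg π (Subtype.ext (by rw [Subgroup.coe_pow]; exact (hnsmul _ _).trans (by rw [hbv])))
    have hRS : ∀ {r : G} (hr : r ∈ R), ∀ x : ↥(normalizer (J : Set G)), (x : G) = r → x ∈ S := by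
      intro r hr x hx
      obtain ⟨j, hj, k, rfl⟩ := sup_decomp D hJ hyR hyJ (mem_sup_left hr)
      obtain ⟨v, rfl⟩ := hsurj j hj
      fin_cases k
      · exact ⟨v, 0, Subtype.ext (by simpa [sp, hθ] using hx)⟩
      · exact ⟨v, 1, Subtype.ext (by simpa [sp, hθ, hY] using hx)⟩
      · exact ⟨v, 2, Subtype.ext (by simpa [sp, hθ, hY, pow_two] using hx)⟩
    set B : ↥(normalizer (J : Set G)) := θ ((i : ℕ) • ((1, 0, 0) : V3)) with hB
    rcases hi with hi | hi
    · have hr : ((g * B⁻¹ : ↥(normalizer (J : Set G))) : G) ∈ R := by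
        refine (hπk ⟨_, mul_mem gC.2 (inv_mem (hJ.le (hθJ _)))⟩).1 ?_
        rw [show (⟨_, mul_mem gC.2 (inv_mem (hJ.le (hθJ ((i : ℕ) • ((1, 0, 0) : V3)))))⟩ :
          ↥(centralizer ({a} : Set G))) = gC * ⟨_, hJ.le (hθJ _)⟩⁻¹ from rfl, map_mul, map_inv, hπb, hi,
          mul_inv_cancel]
      have := hSmul (hRS hr _ rfl) hb1
      rwa [inv_mul_cancel_right] at this
    · have hr : ((g * (T * B)⁻¹ : ↥(normalizer (J : Set G))) : G) ∈ R := by
        refine (hπk ⟨_, mul_mem gC.2 (inv_mem (mul_mem t.2 (hJ.le (hθJ _))))⟩).1 ?_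
        rw [show (⟨_, mul_mem gC.2 (inv_mem (mul_mem t.2 (hJ.le (hθJ ((i : ℕ) • ((1, 0, 0) : V3))))))⟩ :
          ↥(centralizer ({a} : Set G))) = gC * (t * ⟨_, hJ.le (hθJ _)⟩)⁻¹ from rfl, map_mul, map_inv, map_mul,
          hπb, htπ, hi, mul_inv_cancel]
      have := hSmul (hRS hr _ rfl) (hSmul hT' hb1)
      rwa [inv_mul_cancel_right] at this
  · have h := hsig (K.map (normalizer (J : Set G)).subtype)
      (by rwa [card_map_of_injective (Subgroup.subtype_injective _)]) fun j hj => ?_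
    · exact (map_eq_bot_iff_of_injective _ (Subgroup.subtype_injective _)).1 h
    · exact le_normalizer_map _ (mem_map_of_mem _ (hle (show (⟨j, le_normalizer hj⟩ :
        ↥(normalizer (J : Set G))) ∈ J.subgroupOf _ from hj)))

open Cfsg.Agent.NineSym in
/-- Coordinates from the data on the centralizer. -/
theorem exists_loc_of_centData [Finite G] {a : G} {R J : Subgroup G} (D : CentData a R) (hJ : JData a R J)
    (hsig : ∀ K : Subgroup G, (Nat.card K).Coprime 3 → J ≤ normalizer (K : Set G) → K = ⊥) :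
    ∃ ci cd φ, Loc a R J ci cd φ := by
  haveI : Fact (Nat.Prime 3) := ⟨Nat.prime_three⟩
  obtain ⟨θ, sp, B, hθa, hθR, hspR⟩ := exists_base D hJ hsig
  obtain ⟨ci, cd, φN, k, F, hjM, hsp⟩ := frame_coord B
  set φ : Mn → G := fun p => (φN p : G) with hφ
  have hJval : ∀ g, g ∈ J ↔ ∃ v, φ (jM v) = g := by
    intro g
    constructor
    · intro hg
      obtain ⟨v, hv⟩ := (F.memJ ⟨g, le_normalizer hg⟩).1 hg
      exact ⟨v, congrArg Subtype.val hv⟩
    · rintro ⟨v, rfl⟩
      exact (F.memJ (φN (jM v))).2 ⟨v, rfl⟩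
  have haφ : φ (jM (1, 1, 1)) = a := by
    show ((φN (jM (1, 1, 1)) : ↥(normalizer (J : Set G))) : G) = a
    rw [hjM, show shiftV k (1, 1, 1) = (1, 1, 1) from shiftV_facts.2.2.2.1 k, hθa]
  have hself : ∀ g, (∀ j ∈ J, g * j = j * g) → g ∈ J := by
    intro g hg
    have hgN : g ∈ normalizer (J : Set G) := centralizer_le_normalizer _
      (mem_centralizer_iff.2 fun j hj => (hg j hj).symm)
    exact B.cJ (g := ⟨g, hgN⟩) fun j hj => Subtype.ext (hg _ hj)
  -- a Sylow subgroup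
  obtain ⟨h81, hPle⟩ := card_sup D hJ
  have hNle : normalizer ((R ⊔ J : Subgroup G) : Set G) ≤ normalizer (J : Set G) := by
    intro g hg
    refine mem_normalizer_iff_map_conj_eq.2 (abelian_unique D hJ ?_ ?_ ?_)
    · rintro _ ⟨p, hp, rfl⟩
      exact (mem_normalizer_iff.1 hg p).1 (mem_sup_right hp)
    · rintro _ ⟨p, hp, rfl⟩ _ ⟨q, hq, rfl⟩
      rw [← map_mul, ← map_mul, hJ.comm p hp q hq]
    · rw [card_map_of_injective (MulAut.conj g).injective, hJ.card]
  have hPN : R ⊔ J ≤ normalizer (J : Set G) := le_trans le_normalizer hNle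
  have hNsyl : ¬ 3 ^ 5 ∣ Nat.card (normalizer (J : Set G)) := by
    intro h
    obtain ⟨Q, hQ⟩ := B.sylow_top.exists_sylow
    have h1 := Q.pow_dvd_card_of_pow_dvd_card (n := 5) (by rw [card_top]; exact h)
    have h2 : Nat.card (Q : Subgroup (⊤ : Subgroup ↥(normalizer (J : Set G)))) = Nat.card B.sylP := by
      rw [← card_map_of_injective (Subgroup.subtype_injective _), hQ, map_subgroupOf_eq_of_le le_top]
    rw [h2] at h1
    have h3 : Nat.card B.sylP ≤ 81 := by
      have hle : Nat.card B.sylP ≤ Nat.card (V3 × Fin 3) := by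
        refine Nat.card_le_card_of_surjective
          (fun q : V3 × Fin 3 => (⟨θ q.1 * sp (Fin.castLE (by norm_num) q.2), B.mem_sylP.2
            ⟨q.1, _, by rcases q with ⟨v, i⟩; fin_cases i <;> simp, rfl⟩⟩ : B.sylP)) ?_
        rintro ⟨_, v, p, hp, rfl⟩
        rcases hp with rfl | rfl | rfl
        · exact ⟨(v, 0), rfl⟩
        · exact ⟨(v, 1), rfl⟩
        · exact ⟨(v, 2), rfl⟩
      refine hle.trans ?_
      simp
    have h4 := Nat.le_of_dvd Nat.card_pos h1
    norm_num at h4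
    omega
  let S : Sylow 3 G :=
    { toSubgroup := R ⊔ J
      isPGroup' := IsPGroup.of_card (n := 4) (by rw [h81]; norm_num)
      is_maximal' := fun {T} hT hle => by
        by_contra hne
        have hlt : (R ⊔ J : Subgroup G) < T := lt_of_le_of_ne hle (Ne.symm hne)
        haveI : Group.IsNilpotent T := hT.isNilpotent
        have hlt' : (R ⊔ J).subgroupOf T < normalizer (((R ⊔ J).subgroupOf T : Subgroup T) : Set T) := by
          refine normalizerCondition_of_isNilpotent _ ?_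
          rw [lt_top_iff_ne_top, Ne, subgroupOf_eq_top]
          exact hlt.not_ge
        obtain ⟨z, hz, hzP⟩ := SetLike.exists_of_lt hlt'
        have hzN : (z : G) ∈ normalizer ((R ⊔ J : Subgroup G) : Set G) := by
          refine mem_normalizer_iff.2 fun p => ⟨fun hp => ?_, fun hp => ?_⟩
          · exact (mem_normalizer_iff.1 hz ⟨p, hle hp⟩).1 hp
          · have hpT : p ∈ T := by
              have := mul_mem (mul_mem (inv_mem z.2) (hle hp)) z.2
              simpa [mul_assoc] using this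
            exact (mem_normalizer_iff.1 hz ⟨p, hpT⟩).2 hp
        set U := (R ⊔ J) ⊔ zpowers (z : G) with hU
        have hUT : U ≤ T := sup_le hle (zpowers_le.2 z.2)
        have hUN : U ≤ normalizer (J : Set G) := sup_le hPN (zpowers_le.2 (hNle hzN))
        obtain ⟨n, hn⟩ := (hT.to_le hUT).exists_card_eq
        have hgt : 81 < Nat.card U := by
          rw [← h81]
          refine lt_of_le_of_ne (Nat.le_of_dvd Nat.card_pos (card_dvd_of_le le_sup_left)) fun h => hzP ?_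
          show (z : G) ∈ R ⊔ J
          rw [eq_of_le_of_card_ge (le_sup_left : R ⊔ J ≤ U) h.ge]
          exact mem_sup_right (mem_zpowers _)
        apply hNsyl
        have h5 : 5 ≤ n := by
          rw [hn] at hgt
          exact (Nat.pow_lt_pow_iff_right (by norm_num : 1 < 3)).1 (by norm_num; exact hgt)
        exact (pow_dvd_pow 3 h5).trans (hn ▸ card_dvd_of_le hUN) }
  have hweak : ∀ K : Subgroup G, IsPGroup 3 K → J ≤ K → ∀ g : G, (∀ j ∈ J, g * j * g⁻¹ ∈ K) →
      g ∈ normalizer (J : Set G) := by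
    intro K hK hJK g hg
    obtain ⟨T, hT⟩ := hK.exists_le_sylow
    obtain ⟨c, hc⟩ := MulAction.exists_smul_eq G T S
    have hmove : ∀ k ∈ K, c * k * c⁻¹ ∈ R ⊔ J := fun k hk => by
      change c * k * c⁻¹ ∈ (S : Subgroup G)
      rw [← hc, Sylow.coe_subgroup_smul]
      exact smul_mem_pointwise_smul k (MulAut.conj c) _ (hT hk)
    have hkey : ∀ d : G, (∀ j ∈ J, d * j * d⁻¹ ∈ R ⊔ J) → d ∈ normalizer (J : Set G) := by
      intro d hd
      refine mem_normalizer_iff_map_conj_eq.2 (abelian_unique D hJ ?_ ?_ ?_)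
      · rintro _ ⟨p, hp, rfl⟩; exact hd p hp
      · rintro _ ⟨p, hp, rfl⟩ _ ⟨q, hq, rfl⟩
        rw [← map_mul, ← map_mul, hJ.comm p hp q hq]
      · rw [card_map_of_injective (MulAut.conj d).injective, hJ.card]
    have h1 : c ∈ normalizer (J : Set G) := hkey c fun j hj => hmove j (hJK hj)
    have h2 : c * g ∈ normalizer (J : Set G) := hkey _ fun j hj => by
      rw [show c * g * j * (c * g)⁻¹ = c * (g * j * g⁻¹) * c⁻¹ by group]
      exact hmove _ (hg j hj)
    have := mul_mem (inv_mem h1) h2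
    rwa [inv_mul_cancel_left] at this
  have hnorm : ∀ g ∈ normalizer (J : Set G), ∃ p, InL ci cd p ∧ φ p = g := by
    intro g hg
    obtain ⟨p, hp, hpe⟩ := F.norm ⟨g, hg⟩ (mem_normalizer_iff.2 fun j => mem_normalizer_iff.1 hg (j : G))
    exact ⟨p, hp, congrArg Subtype.val hpe⟩
  refine ⟨ci, cd, φ,
    { toCentData := D
      hom := fun p q hp hq => congrArg Subtype.val (F.hom p q hp hq)
      inj := fun p q hp hq h => F.inj p q hp hq (Subtype.ext h)
      memJ := hJval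
      mem_norm := fun p _ => (φN p).2
      norm_eq := hnorm
      a_eq := haφ
      cent_norm := fun g hg hga => ?_
      self := hself
      sig := hsig
      fus := ?_
      weak := hweak
      plane_R := fun v hv => ?_
      shift_R := ?_ }⟩
  · obtain ⟨p, hp, hpe⟩ := F.cent ⟨g, hg⟩ (Subtype.ext (by
      show g * φ (jM (1, 1, 1)) = φ (jM (1, 1, 1)) * g
      rw [haφ]; exact hga))
    exact ⟨p, hp, congrArg Subtype.val hpe⟩
  · intro u v g h
    set Cv := centralizer ({φ (jM v)} : Set G) with hCv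
    have hJcomm' : ∀ w w', φ (jM w) * φ (jM w') = φ (jM w') * φ (jM w) := fun w w' =>
      hJ.comm _ ((hJval _).2 ⟨w, rfl⟩) _ ((hJval _).2 ⟨w', rfl⟩)
    have hJC' : J ≤ Cv := fun j hj => by
      obtain ⟨w, rfl⟩ := (hJval j).1 hj
      exact mem_centralizer_singleton_iff.2 (hJcomm' _ _)
    have hJ'C : J.map (MulAut.conj g).toMonoidHom ≤ Cv := by
      rintro _ ⟨j, hj, rfl⟩
      obtain ⟨w, rfl⟩ := (hJval j).1 hj
      refine mem_centralizer_singleton_iff.2 ?_
      rw [← h]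
      show g * φ (jM w) * g⁻¹ * (g * φ (jM u) * g⁻¹) = g * φ (jM u) * g⁻¹ * (g * φ (jM w) * g⁻¹)
      rw [show g * φ (jM w) * g⁻¹ * (g * φ (jM u) * g⁻¹) = g * (φ (jM w) * φ (jM u)) * g⁻¹ by group, hJcomm']
      group
    have hJp : IsPGroup 3 J := IsPGroup.of_card (n := 3) (by rw [hJ.card]; norm_num)
    obtain ⟨T1, hT1⟩ := (hJp.of_equiv (subgroupOfEquivOfLe hJC').symm).exists_le_sylow
    obtain ⟨T2, hT2⟩ := ((hJp.map (MulAut.conj g).toMonoidHom).of_equiv
      (subgroupOfEquivOfLe hJ'C).symm).exists_le_sylow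
    obtain ⟨c, hc⟩ := MulAction.exists_smul_eq Cv T2 T1
    have hn : (c : G) * g ∈ normalizer (J : Set G) := by
      refine hweak ((T1 : Subgroup Cv).map Cv.subtype) (T1.2.map _)
        (fun j hj => ⟨⟨j, hJC' hj⟩, hT1 hj, rfl⟩) _ fun j hj => ?_
      have hm : g * j * g⁻¹ ∈ J.map (MulAut.conj g).toMonoidHom := ⟨j, hj, rfl⟩
      refine ⟨c * ⟨g * j * g⁻¹, hJ'C hm⟩ * c⁻¹, ?_, by simp [mul_assoc]⟩
      rw [← hc, Sylow.coe_subgroup_smul]
      exact smul_mem_pointwise_smul _ (MulAut.conj c) _ (hT2 hm)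
    obtain ⟨p, hp, hpe⟩ := hnorm _ hn
    refine ⟨p, hp, ?_⟩
    have hu : InL ci cd (jM u) := ⟨fun h => Bool.noConfusion h, fun h => absurd rfl h⟩
    have hw : InL ci cd (jM (wact p.w u)) := ⟨fun h => Bool.noConfusion h, fun h => absurd rfl h⟩
    have e1 : p * jM u = jM (wact p.w u) * p := by
      obtain ⟨pv, pw⟩ := p
      show Mn.mk (pv + wact pw u) (pw * 1) = Mn.mk (wact pw u + wact 1 pv) (1 * pw)
      rw [wact_one, add_comm, (by decide +kernel : ∀ w : Wt, w * 1 = w ∧ 1 * w = w) pw |>.1,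
        ((by decide +kernel : ∀ w : Wt, w * 1 = w ∧ 1 * w = w) pw).2]
    have e2 : φ p * φ (jM u) * (φ p)⁻¹ = φ (jM (wact p.w u)) := by
      rw [mul_inv_eq_iff_eq_mul]
      show ((φN p : G) * (φN (jM u) : G)) = (φN (jM (wact p.w u)) : G) * (φN p : G)
      rw [← Subgroup.coe_mul, ← Subgroup.coe_mul, ← F.hom p _ hp hu, ← F.hom _ p hw hp, e1]
    have hcv : (c : G) * φ (jM v) = φ (jM v) * (c : G) := mem_centralizer_singleton_iff.1 c.2
    rw [hpe, show (c : G) * g * φ (jM u) * ((c : G) * g)⁻¹ = c * (g * φ (jM u) * g⁻¹) * (c : G)⁻¹ by group, h,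
      hcv, mul_inv_cancel_right] at e2
    have := F.inj _ _ hw ⟨fun h => Bool.noConfusion h, fun h => absurd rfl h⟩
      (Subtype.ext e2.symm : φN (jM (wact p.w u)) = φN (jM v))
    exact congrArg Mn.v this
  · show ((φN (jM v) : ↥(normalizer (J : Set G))) : G) ∈ R
    rw [hjM]
    refine hθR _ ?_
    rw [shift_plane k v hv]
    exact hv
  · show ((φN (wM ⟨false, 0, 1⟩) : ↥(normalizer (J : Set G))) : G) ∈ R
    rw [hsp]
    exact hspR

open Cfsg.Agent.NineSym in
theorem exists_loc [Finite G] (a : G) (ha : orderOf a = 3) (C : Subgroup G)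
    (hC : C = centralizer ({a} : Set G)) (hR : Cfsg.IsExtraspecial 3 (Cfsg.pCore 3 C))
    (hRcard : Nat.card (Cfsg.pCore 3 C) = 27) (hRexp : ∀ r ∈ Cfsg.pCore 3 C, r ^ 3 = 1)
    (e : C ⧸ Cfsg.pCore 3 C ≃* SL3) (J : Subgroup G) (hJC : J ≤ C) (hJcomm : IsMulCommutative J)
    (hJexp : ∀ j ∈ J, j ^ 3 = 1) (hJcard : Nat.card J = 27)
    (hJsig : ∀ K : Subgroup G, (Nat.card K).Coprime 3 →
      (∀ j ∈ J, K.map (MulAut.conj j).toMonoidHom = K) → K = ⊥) :
    ∃ R ci cd φ, Loc a R J ci cd φ := by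
  haveI : Fact (Nat.Prime 3) := ⟨Nat.prime_three⟩
  have D := exists_centData a ha C hC hR hRcard hRexp e J hJC hJsig
  set R := (Cfsg.pCore 3 C).map C.subtype with hRdef
  have hJ : JData a R J := ⟨hC ▸ hJC, fun x hx y hy =>
    congrArg Subtype.val (hJcomm.is_comm.comm (⟨x, hx⟩ : J) ⟨y, hy⟩), hJexp, hJcard⟩
  have hsig : ∀ K : Subgroup G, (Nat.card K).Coprime 3 → J ≤ normalizer (K : Set G) → K = ⊥ :=
    fun K hK hn => hJsig K hK fun j hj => mem_normalizer_iff_map_conj_eq.1 (hn hj)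
  obtain ⟨ci, cd, φ, L⟩ := exists_loc_of_centData D hJ hsig
  exact ⟨R, ci, cd, φ, L⟩

end Cfsg.Agent.SpThreeCent
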