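import Cfsg.Agent.Lib.SpThreeCent.Cross
import Cfsg.Agent.Lib.SpThreeCent.SixEnd.Bridge
import Cfsg.Agent.Lib.NineSym.HomTables

/-!
# The embedding of the model of `Sp₆(2)`

The seven involutions `(67), (45), (36), (34), (03), (01), (12)` satisfy the relations of type `E₇`;
the image `M` of the resulting map contains `N(J)` and the centralizer of every non-trivial element
of `J`.
-/

set_option autoImplicit false
set_option linter.style.haveILetI false
set_option linter.unusedSectionVars false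
set_option maxRecDepth 100000
set_option synthInstance.maxSize 10000

namespace Cfsg.Agent.SpThreeCent

open Subgroup
open Cfsg.Agent.NineSym
open Cfsg.Agent.PSpAmalgam (SL3 negOne)
open Cfsg.Agent.ExtraTwoNine.CoordPerm (P6)
open Cfsg.Agent.Sp6Mult (cm)
open SymSix (cb cc ct cw)
open SixEnd (tv bil tvFun tv_mem node nodeVec)

/-- A transvection of the model. -/
def Tv (x : Fin 64) : SixEnd.S := ⟨tv x, tv_mem x⟩

theorem Tv_node (i : Fin 7) : Tv (nodeVec i) = node i := rfl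

theorem Tv_comm {x y : Fin 64} (h : bil x y = false) : Commute (Tv x) (Tv y) := by
  refine Subtype.ext ?_
  have h1 := SixEnd.tv_conj (tv_mem x) y
  rw [show tv x y = y from if_neg (by rw [h]; decide)] at h1
  exact mul_inv_eq_iff_eq_mul.1 h1

theorem Tv_sq (x : Fin 64) : Tv x * Tv x = 1 := Subtype.ext (Equiv.ext (SixEnd.tvFun_invol x))

theorem hom_six :
    cb = Equiv.swap 0 1 * Equiv.swap 1 2 ∧ cc = (Equiv.swap 3 4 : P6) * Equiv.swap 4 5 ∧
    ((Equiv.swap 0 1 : P6) * Equiv.swap 0 1 = 1 ∧ (Equiv.swap 1 2 : P6) * Equiv.swap 1 2 = 1 ∧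
      (Equiv.swap 3 4 : P6) * Equiv.swap 3 4 = 1 ∧ (Equiv.swap 4 5 : P6) * Equiv.swap 4 5 = 1 ∧
      t03 * t03 = 1) ∧
    sw6 2 = Equiv.swap 0 1 * Equiv.swap 1 2 * Equiv.swap 0 1 * t03 *
      (Equiv.swap 0 1 * Equiv.swap 1 2 * Equiv.swap 0 1) ∧
    (sw6 0 = Equiv.swap 0 1 ∧ sw6 1 = Equiv.swap 1 2 ∧ sw6 3 = Equiv.swap 3 4 ∧ sw6 4 = Equiv.swap 4 5) ∧
    (cw = t03 * (cb * cc * t03 * (cb * cc)⁻¹) * (cb * cc * (cb * cc * t03 * (cb * cc)⁻¹) * (cb * cc)⁻¹)) ∧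
    (∀ s : P6, s * t03 = t03 * s → t03 * s * t03 = s) ∧
    (Equiv.swap 3 4 * t03 ≠ (t03 * Equiv.swap 3 4 : P6)) := by
  decide +kernel

theorem hom_model :
    (∃ q, word6 q = Equiv.swap 0 1 ∧ ∃ u, wM sigW * mC u true * (wM sigW)⁻¹ = wordM q) ∧
    (∃ q, word6 q = Equiv.swap 3 4 ∧ ∃ u, u ≠ 0 ∧ wM sigW * wordM q * (wM sigW)⁻¹ = mC u true) ∧
    (∃ q q', word6 q = Equiv.swap 0 1 ∧ word6 q' = Equiv.swap 3 4 ∧
      wM sigW * wordM q * (wM sigW)⁻¹ = wordM q') ∧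
    (∀ u e, mC u e * mC u e = 1 → mC u e = 1 ∨ e = true) ∧
    (∀ u u' : ZMod 3, mC u true * mC u' true = mC u' true * mC u true → u = u') ∧
    (∀ u : ZMod 3, ∃ q, (wM sigW)⁻¹ * mC u true * wM sigW = wordM q ∧
      (word6 q * t03 = t03 * word6 q → u = 0)) ∧
    mC 0 true = wM nCw ∧
    (∀ u : ZMod 3, u ≠ 0 → ∃ k : Fin 3, (mC u true * wM nCw) ^ k.val = jM (0, 0, 1)) ∧
    (wM ⟨false, 0, 5⟩ = wM sigW * wM rhoW * (wM sigW)⁻¹) ∧
    (jM (0, 1, 1) = wM sigW * jM (1, 1, 0) * (wM sigW)⁻¹) ∧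
    (∀ p : Mn, wact p.w (1, 0, 0) = (1, 0, 0) → wact p.w (0, 1, 0) = (0, 1, 0) →
      p * wM nAw = wM nAw * p → p * wM nBw = wM nBw * p → ∃ u e, p = mC u e) ∧
    jM (1, 1, 0) * jM (0, 0, 1) = jM (1, 1, 1) ∧
    jM (0, 1, 0) * jM (1, 0, 0) = jM (1, 1, 0) ∧
    ∀ v : V3, v ≠ 0 → ∃ w : Wt, wact w (1, 1, 0) = v ∨ wact w (1, 1, 1) = v ∨ wact w (0, 0, 1) = v := by
  decide +kernel

theorem mover_facts : ∀ z : Fin 64,
    (tvFun 3 (tvFun 12 (tvFun 1 (tvFun 8 (tvFun 34 (tvFun 16 (tvFun 32 (tvFun 20 z))))))) =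
      tvFun 1 (tvFun 8 (tvFun 34 (tvFun 16 (tvFun 32 (tvFun 20 (tvFun 3 (tvFun 12 z)))))))) := by
  decide +kernel

theorem mover_moves : ∃ z : Fin 64,
    tvFun 3 (tvFun 12 (tvFun 1 (tvFun 8 (tvFun 12 (tvFun 3 (tvFun 1 (tvFun 8 z))))))) ≠
      tvFun 1 (tvFun 8 (tvFun 3 (tvFun 12 (tvFun 1 (tvFun 8 (tvFun 12 (tvFun 3 z))))))) := by
  decide +kernel

theorem sl_cent : ∀ x : SL3, x ^ 3 = 1 → x ≠ 1 → ∀ y : SL3, x * y = y * x →
    ∃ i : Fin 3, y = x ^ i.val ∨ y = negOne * x ^ i.val := by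
  decide +kernel

/-- The nodes. -/
def nodeG {G : Type*} [Group G] (φ : Mn → G) (f : P6 →* G) : Fin 7 → G :=
  ![φ (wM sigW) * f (Equiv.swap 3 4) * (φ (wM sigW))⁻¹, f (Equiv.swap 4 5),
    φ (wM sigW) * f t03 * (φ (wM sigW))⁻¹, f (Equiv.swap 3 4), f t03, f (Equiv.swap 0 1), f (Equiv.swap 1 2)]

variable {G : Type*} [Group G] [Finite G] {a : G} {R J : Subgroup G} {φ : Mn → G}

namespace Loc

variable (D : Loc a R J true true φ)
include D

variable {K : Subgroup G} (S6 : SixData J φ K) {f : P6 →* G} (F : SixMap φ K f)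
include S6 F

theorem mC_comm (u : ZMod 3) (e : Bool) (π : P6) : φ (mC u e) * f π = f π * φ (mC u e) := by
  rw [mC, D.hmul]
  have hc : Commute (φ (jM (0, 0, u))) (f π) := by
    rw [(by decide +kernel : ∀ u : ZMod 3, jM (0, 0, u) = jM (0, 0, 1) ^ u.val) u, (D.map_pow (inL_all _) _).2]
    exact (show Commute _ _ from F.c π).pow_left _
  refine (hc.mul_left ?_).eq
  cases e
  · rw [show (if false then wM nCw else (1 : Mn)) = 1 from rfl, D.one]; exact Commute.one_left _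
  · exact F.nC π

omit S6 in
theorem five_mem {M : Subgroup G} (h0 : f (Equiv.swap 0 1) ∈ M) (h1 : f (Equiv.swap 1 2) ∈ M)
    (h2 : f t03 ∈ M) (h3 : f (Equiv.swap 3 4) ∈ M) (h4 : f (Equiv.swap 4 5) ∈ M) (π : P6) : f π ∈ M := by
  obtain ⟨-, -, -, e2, ⟨e0, e1, e3, e4⟩, -⟩ := hom_six
  refine perm6_induction (p := fun π => f π ∈ M) (by rw [map_one]; exact one_mem _) (fun i => ?_)
    (fun x y hx hy => by rw [map_mul]; exact mul_mem hx hy) π
  fin_cases i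
  · show f (sw6 0) ∈ M; rw [e0]; exact h0
  · show f (sw6 1) ∈ M; rw [e1]; exact h1
  · show f (sw6 2) ∈ M
    rw [e2]
    simp only [map_mul]
    exact mul_mem (mul_mem (mul_mem (mul_mem h0 h1) h0) h2) (mul_mem (mul_mem h0 h1) h0)
  · show f (sw6 3) ∈ M; rw [e3]; exact h3
  · show f (sw6 4) ∈ M; rw [e4]; exact h4

/-- The centralizer of the copy of `Sym 6`. -/
theorem cent_K {z : G} (h : ∀ π, z * f π = f π * z) : ∃ u e, z = φ (mC u e) := by
  obtain ⟨-, -, -, -, -, -, -, -, -, -, hK, -, h110, -⟩ := hom_model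
  obtain ⟨-, -, ⟨hA1, hA2⟩, -, ⟨qB, hB1, hB2⟩, -⟩ := cross_six
  have hb : φ (jM (1, 0, 0)) ∈ K ∧ φ (jM (0, 1, 0)) ∈ K := ⟨(S6.mem_plane _).2 rfl, (S6.mem_plane _).2 rfl⟩
  obtain ⟨π1, e1⟩ := (F.range _).1 hb.1
  obtain ⟨π2, e2⟩ := (F.range _).1 hb.2
  have hu : z * φ (jM (1, 1, 0)) = φ (jM (1, 1, 0)) * z := by
    rw [← h110, D.hmul, ← e1, ← e2, ← map_mul, h]
  obtain ⟨p, hp, rfl⟩ := D.norm_eq z (D.cent_two 1 (wact_one _) hu)
  have hc : ∀ q : Fin 3 × Fin 3 × Fin 4 × Fin 2, p * wordM q = wordM q * p := fun q =>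
    D.inj _ _ (inL_all _) (inL_all _) (by rw [D.hmul, D.hmul, ← F.agree, h])
  have hA : p * wM nAw = wM nAw * p := by rw [← hA2]; exact hc _
  have hB : p * wM nBw = wM nBw * p := by rw [← hB2]; exact hc _
  obtain ⟨u, e, rfl⟩ := hK p (D.fix_of_comm hp (by rw [← e1, h])) (D.fix_of_comm hp (by rw [← e2, h])) hA hB
  exact ⟨u, e, rfl⟩

/-- The embedding. -/
theorem exists_emb : ∃ Θ : SixEnd.S →* G, Function.Injective Θ ∧ ∀ i, Θ (node i) = nodeG φ f i := by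
  obtain ⟨⟨q01, hq01, u01, hu01⟩, ⟨q34, hq34, u34, hu34', hu34⟩, ⟨q, q', hq, hq', hqq⟩, hsq, -, -, hn0, -⟩ :=
    hom_model
  obtain ⟨-, -, ⟨s01, s12, s34, s45, s03⟩, -, -, -, -, hne34⟩ := hom_six
  set σ := φ (wM sigW) with hσ
  set f34 := f (Equiv.swap 3 4) with hf34
  set f45 := f (Equiv.swap 4 5) with hf45
  set f01 := f (Equiv.swap 0 1) with hf01
  set f12 := f (Equiv.swap 1 2) with hf12
  set d := f t03 with hd
  have ha1 : σ * f34 * σ⁻¹ = φ (mC u34 true) := by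
    rw [hσ, hf34, ← hq34, F.agree, D.hconjM, hu34]
  have h34s : σ * f01 * σ⁻¹ = f34 := by
    rw [hσ, hf34, hf01, ← hq, ← hq', F.agree, F.agree, D.hconjM, hqq]
  have h45s : σ * f12 * σ⁻¹ = f45 := by
    rw [hσ, hf12, hf45, D.f12 S6 F, D.f45 S6 F, D.hconjM, cross_model.2.1.2.1]
  have h12s : σ * φ (wM nCw) * σ⁻¹ = f12 := by
    rw [hσ, hf12, D.f12 S6 F, D.hconjM, cross_model.2.1.1]
  have h01s : σ * φ (mC u01 true) * σ⁻¹ = f01 := by
    rw [hσ, hf01, ← hq01, F.agree, D.hconjM, hu01]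
  have hcs : ∀ x y : G, Commute x y → Commute (σ * x * σ⁻¹) (σ * y * σ⁻¹) := fun x y h =>
    h.map (MulAut.conj σ).toMonoidHom
  have hbs : ∀ x y : G, x * y * x = y * x * y →
      σ * x * σ⁻¹ * (σ * y * σ⁻¹) * (σ * x * σ⁻¹) = σ * y * σ⁻¹ * (σ * x * σ⁻¹) * (σ * y * σ⁻¹) := fun x y h => by
    have := congrArg (MulAut.conj σ) h
    simpa only [map_mul, MulAut.conj_apply] using this
  have hKc : ∀ x y : P6, x * y = y * x → Commute (f x) (f y) := fun x y h => (show Commute x y from h).map f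
  have hKb : ∀ x y : P6, x * y * x = y * x * y → f x * f y * f x = f y * f x * f y := fun x y h => by
    simpa only [map_mul] using congrArg f h
  have hnsq : φ (mC u34 true) * φ (mC u34 true) = 1 := by
    rw [← D.hmul, (by decide +kernel : ∀ u, mC u true * mC u true = 1) u34, D.one]
  -- the commutations
  have c01 : Commute (σ * f34 * σ⁻¹) f45 := by rw [ha1]; exact D.mC_comm S6 F _ _ _
  have c03 : Commute (σ * f34 * σ⁻¹) f34 := by rw [ha1]; exact D.mC_comm S6 F _ _ _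
  have c04 : Commute (σ * f34 * σ⁻¹) d := by rw [ha1]; exact D.mC_comm S6 F _ _ _
  have c05 : Commute (σ * f34 * σ⁻¹) f01 := by rw [ha1]; exact D.mC_comm S6 F _ _ _
  have c06 : Commute (σ * f34 * σ⁻¹) f12 := by rw [ha1]; exact D.mC_comm S6 F _ _ _
  have c12 : Commute f45 (σ * d * σ⁻¹) := by
    rw [← h45s]; exact hcs _ _ (hKc _ _ (by decide +kernel))
  have c14 : Commute f45 d := hKc _ _ (by decide +kernel)
  have c15 : Commute f45 f01 := hKc _ _ (by decide +kernel)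
  have c16 : Commute f45 f12 := hKc _ _ (by decide +kernel)
  have c24 : Commute (σ * d * σ⁻¹) d := (D.cross_comm S6 F).symm
  have c25 : Commute (σ * d * σ⁻¹) f01 := by
    rw [← h01s]; exact hcs _ _ (D.mC_comm S6 F _ _ _).symm
  have c26 : Commute (σ * d * σ⁻¹) f12 := by
    rw [← h12s]; exact hcs _ _ (F.nC _).symm
  have c35 : Commute f34 f01 := hKc _ _ (by decide +kernel)
  have c36 : Commute f34 f12 := hKc _ _ (by decide +kernel)
  have c46 : Commute d f12 := hKc _ _ (by decide +kernel)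
  have b02 := hbs _ _ (hKb (Equiv.swap 3 4) t03 (by decide +kernel))
  have b13 := hKb (Equiv.swap 4 5) (Equiv.swap 3 4) (by decide +kernel)
  have b23 : σ * d * σ⁻¹ * f34 * (σ * d * σ⁻¹) = f34 * (σ * d * σ⁻¹) * f34 := by
    rw [← h34s]; exact hbs _ _ (hKb _ _ (by decide +kernel))
  have b34 := hKb (Equiv.swap 3 4) t03 (by decide +kernel)
  have b45 := hKb t03 (Equiv.swap 0 1) (by decide +kernel)
  have b56 := hKb (Equiv.swap 0 1) (Equiv.swap 1 2) (by decide +kernel)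
  refine SixEnd.exists_model_hom (nodeG φ f) (fun i => ?_) (fun i j h => ?_) (fun i j h => ?_) ?_ ?_
  · have hK : ∀ x : P6, x * x = 1 → f x * f x = 1 := fun x h => by rw [← map_mul, h, map_one]
    fin_cases i
    · show σ * f34 * σ⁻¹ * (σ * f34 * σ⁻¹) = 1
      rw [ha1, hnsq]
    · exact hK _ s45
    · show σ * d * σ⁻¹ * (σ * d * σ⁻¹) = 1
      rw [show σ * d * σ⁻¹ * (σ * d * σ⁻¹) = σ * (d * d) * σ⁻¹ by group, hK _ s03, mul_one, mul_inv_cancel]
    · exact hK _ s34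
    · exact hK _ s03
    · exact hK _ s01
    · exact hK _ s12
  · fin_cases i <;> fin_cases j <;> first
      | exact absurd h (by decide)
      | exact Commute.refl _
      | exact c01
      | exact c01.symm
      | exact c03
      | exact c03.symm
      | exact c04
      | exact c04.symm
      | exact c05
      | exact c05.symm
      | exact c06
      | exact c06.symm
      | exact c12
      | exact c12.symm
      | exact c14
      | exact c14.symm
      | exact c15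
      | exact c15.symm
      | exact c16
      | exact c16.symm
      | exact c24
      | exact c24.symm
      | exact c25
      | exact c25.symm
      | exact c26
      | exact c26.symm
      | exact c35
      | exact c35.symm
      | exact c36
      | exact c36.symm
      | exact c46
      | exact c46.symm
  · fin_cases i <;> fin_cases j <;> first
      | exact absurd h (by decide)
      | exact b02
      | exact b02.symm
      | exact b13
      | exact b13.symm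
      | exact b23
      | exact b23.symm
      | exact b34
      | exact b34.symm
      | exact b45
      | exact b45.symm
      | exact b56
      | exact b56.symm
  · intro h
    have h' := h.map (MulAut.conj σ⁻¹).toMonoidHom
    simp only [nodeG, MulEquiv.coe_toMonoidHom, MulAut.conj_apply, Matrix.cons_val_zero, Matrix.cons_val] at h'
    rw [show σ⁻¹ * (σ * f34 * σ⁻¹) * σ⁻¹⁻¹ = f34 by group, show σ⁻¹ * (σ * d * σ⁻¹) * σ⁻¹⁻¹ = d by group] at h'
    exact hne34 (F.inj (by rw [map_mul, map_mul]; exact h'.eq))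
  · intro z _ hzz hz
    have hzK : ∀ π, z * f π = f π * z := fun π => by
      let C : Subgroup G := centralizer ({z} : Set G)
      have hm : ∀ i, nodeG φ f i ∈ C := fun i => mem_centralizer_singleton_iff.2 (hz i).symm.eq
      exact (mem_centralizer_singleton_iff.1 (D.five_mem F (M := C) (hm 5) (hm 6) (hm 4) (hm 3) (hm 1) π)).symm
    obtain ⟨u, e, rfl⟩ := D.cent_K S6 F hzK
    rcases hsq u e (D.inj _ _ (inL_all _) (inL_all _) (by rw [D.hmul, hzz, D.one])) with h1 | rfl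
    · rw [h1, D.one]
    exfalso
    have h0 : Commute (φ (mC u true)) (σ * f34 * σ⁻¹) := hz 0
    rw [ha1] at h0
    have hu : u = u34 := hom_model.2.2.2.2.1 u u34 (D.inj _ _ (inL_all _) (inL_all _) (by
      rw [D.hmul, D.hmul]; exact h0.eq))
    subst hu
    have h2 : Commute (φ (mC u true)) (σ * d * σ⁻¹) := hz 2
    rw [← ha1] at h2
    have h' := h2.map (MulAut.conj σ⁻¹).toMonoidHom
    simp only [MulEquiv.coe_toMonoidHom, MulAut.conj_apply] at h'
    rw [show σ⁻¹ * (σ * f34 * σ⁻¹) * σ⁻¹⁻¹ = f34 by group, show σ⁻¹ * (σ * d * σ⁻¹) * σ⁻¹⁻¹ = d by group] at h'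
    exact hne34 (F.inj (by rw [map_mul, map_mul]; exact h'.eq))

section Image

variable (Θ : SixEnd.S →* G) (hΘi : Function.Injective Θ) (hΘ : ∀ i, Θ (node i) = nodeG φ f i)
include hΘi hΘ

theorem emb_values : Θ (Tv 8) = f (Equiv.swap 1 2) ∧ Θ (Tv 16) = f (Equiv.swap 4 5) ∧ Θ (Tv 24) = f t03 ∧
    Θ (Tv 34) = f (Equiv.swap 3 4) ∧ Θ (Tv 1) = f (Equiv.swap 0 1) ∧
    Θ (Tv 32) = φ (wM sigW) * f (Equiv.swap 3 4) * (φ (wM sigW))⁻¹ ∧
    Θ (Tv 4) = φ (wM sigW) * f t03 * (φ (wM sigW))⁻¹ :=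
  ⟨hΘ 6, hΘ 1, hΘ 4, hΘ 3, hΘ 5, hΘ 0, hΘ 2⟩

theorem emb_twenty : Θ (Tv 20) = φ (wM nCw) := by
  obtain ⟨-, -, -, hsq, -, hgam, hn0, -⟩ := hom_model
  obtain ⟨h8, h16, h24, h34, h1, -, h4⟩ := D.emb_values S6 F Θ hΘi hΘ
  have hc : ∀ x, bil 20 x = false → Θ (Tv x) ∈ centralizer ({Θ (Tv 20)} : Set G) := fun x hx =>
    mem_centralizer_singleton_iff.2 ((Tv_comm hx).map Θ).symm.eq
  have hzK : ∀ π, Θ (Tv 20) * f π = f π * Θ (Tv 20) := fun π =>
    (mem_centralizer_singleton_iff.1 (D.five_mem F (M := centralizer ({Θ (Tv 20)} : Set G))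
      (h1 ▸ hc 1 (by decide +kernel)) (h8 ▸ hc 8 (by decide +kernel)) (h24 ▸ hc 24 (by decide +kernel))
      (h34 ▸ hc 34 (by decide +kernel)) (h16 ▸ hc 16 (by decide +kernel)) π)).symm
  obtain ⟨u, e, he⟩ := D.cent_K S6 F hzK
  have hne : Tv 20 ≠ 1 := fun h => by
    have h' := congrArg (fun s : SixEnd.S => (s : Equiv.Perm (Fin 64)) 32) h
    revert h'
    decide +kernel
  rcases hsq u e (D.inj _ _ (inL_all _) (inL_all _) (by
    rw [D.hmul, ← he, ← map_mul, Tv_sq, map_one, D.one])) with h | rfl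
  · exact absurd (hΘi (by rw [he, h, D.one, map_one])) hne
  have hγ : Commute (φ (mC u true)) (φ (wM sigW) * f t03 * (φ (wM sigW))⁻¹) := by
    rw [← he, ← h4]; exact (Tv_comm (by decide +kernel)).map Θ
  obtain ⟨q, hq, hqu⟩ := hgam u
  have hu : u = 0 := hqu (F.inj (by
    have h' := hγ.map (MulAut.conj (φ (wM sigW))⁻¹).toMonoidHom
    simp only [MulEquiv.coe_toMonoidHom, MulAut.conj_apply, inv_inv] at h'
    rw [show (φ (wM sigW))⁻¹ * (φ (wM sigW) * f t03 * (φ (wM sigW))⁻¹) * φ (wM sigW) = f t03 by group,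
      ← D.hinv, ← D.hmul, ← D.hmul, hq, ← F.agree] at h'
    rw [map_mul, map_mul]; exact h'.eq))
  rw [he, hu, hn0]

theorem emb_K (π : P6) : f π ∈ Θ.range := by
  obtain ⟨h8, h16, h24, h34, h1, -, -⟩ := D.emb_values S6 F Θ hΘi hΘ
  exact D.five_mem F (M := Θ.range) ⟨_, h1⟩ ⟨_, h8⟩ ⟨_, h24⟩ ⟨_, h34⟩ ⟨_, h16⟩ π

theorem emb_e3 : φ (jM (0, 0, 1)) ∈ Θ.range := by
  obtain ⟨-, ⟨q34, hq34, u34, hu34', hu34⟩, -, -, -, -, -, hpow, -⟩ := hom_model
  obtain ⟨k, hk⟩ := hpow u34 hu34'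
  rw [← hk, (D.map_pow (inL_all _) _).2, D.hmul, ← D.emb_twenty S6 F Θ hΘi hΘ, ← hu34, ← D.hconjM,
    ← F.agree, hq34, ← (D.emb_values S6 F Θ hΘi hΘ).2.2.2.2.2.1]
  exact pow_mem (mul_mem (show _ ∈ Θ.range from ⟨_, rfl⟩) (show _ ∈ Θ.range from ⟨_, rfl⟩)) _

theorem emb_norm : normalizer (J : Set G) ≤ Θ.range := by
  obtain ⟨-, -, -, -, -, -, -, -, hrho', h011, -, h111, h110, -⟩ := hom_model
  obtain ⟨-, -, -, -, -, hcw, -, -⟩ := hom_six
  obtain ⟨-, -, -, ⟨qw, hqw, hqw'⟩, -⟩ := cross_six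
  obtain ⟨-, -, hsig, -, -⟩ := gen_facts
  set M := Θ.range with hM
  have hKM := D.emb_K S6 F Θ hΘi hΘ
  have he : φ (jM (0, 0, 1)) ∈ M := D.emb_e3 S6 F Θ hΘi hΘ
  have hplane : ∀ v : V3, v.2.2 = 0 → φ (jM v) ∈ M := fun v hv => by
    obtain ⟨π, hπ⟩ := (F.range _).1 ((S6.mem_plane v).2 hv)
    exact hπ ▸ hKM π
  have hj : ∀ v : V3, φ (jM v) ∈ M := fun v => by
    rw [jM_gen, D.hmul, D.hmul, (D.map_pow (inL_all _) _).2, (D.map_pow (inL_all _) _).2,
      (D.map_pow (inL_all _) _).2]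
    exact mul_mem (mul_mem (pow_mem (hplane _ rfl) _) (pow_mem (hplane _ rfl) _)) (pow_mem he _)
  have hA : φ (wM nAw) ∈ M := D.f12 S6 F ▸ hKM _
  have hρ : φ (wM rhoW) ∈ M := D.f_cw S6 F ▸ hKM _
  have hC : φ (wM nCw) ∈ M := D.emb_twenty S6 F Θ hΘi hΘ ▸ ⟨_, rfl⟩
  have hρ' : φ (wM ⟨false, 0, 5⟩) ∈ M := by
    set σ := φ (wM sigW) with hσ
    have hgam : σ * f t03 * σ⁻¹ ∈ M := (D.emb_values S6 F Θ hΘi hΘ).2.2.2.2.2.2 ▸ ⟨_, rfl⟩
    have hc : σ * f (cb * cc) * σ⁻¹ ∈ M := by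
      rw [← D.e110 S6 F, hσ, D.hconjM, ← h011]; exact hj _
    rw [hrho', ← D.hconjM, ← hσ, ← D.f_cw S6 F, hcw]
    have hco : ∀ x y : G, σ * (x * y) * σ⁻¹ = σ * x * σ⁻¹ * (σ * y * σ⁻¹) := fun x y => by group
    have hci : ∀ x : G, σ * x⁻¹ * σ⁻¹ = (σ * x * σ⁻¹)⁻¹ := fun x => by group
    simp only [map_mul, map_inv, hco, hci]
    have hc' : σ * f cb * σ⁻¹ * (σ * f cc * σ⁻¹) ∈ M := by
      rwa [map_mul, hco] at hc
    exact mul_mem (mul_mem hgam (mul_mem (mul_mem hc' hgam) (inv_mem hc')))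
      (mul_mem (mul_mem hc' (mul_mem (mul_mem hc' hgam) (inv_mem hc'))) (inv_mem hc'))
  have hσM : φ (wM ⟨false, 0, 1⟩) ∈ M := by
    rcases hsig with h | h <;> rw [h, D.hmul]
    exacts [mul_mem hρ hρ', mul_mem hρ' hρ]
  intro g hg
  obtain ⟨p, -, rfl⟩ := D.norm_eq g hg
  rw [show p = jM p.v * wM p.w from (by decide +kernel : ∀ v w, (⟨v, w⟩ : Mn) = jM v * wM w) p.v p.w, D.hmul]
  refine mul_mem (hj _) ?_
  obtain ⟨x, y, z, k, hw⟩ := wM_gen p.w
  rw [hw]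
  simp only [D.hmul, (D.map_pow (inL_all _) _).2]
  exact mul_mem (mul_mem (mul_mem (pow_mem (mul_mem hA hρ) _) (pow_mem hA _)) (pow_mem hC _)) (pow_mem hσM _)

theorem emb_cent_e3 : centralizer ({φ (jM (0, 0, 1))} : Set G) ≤ Θ.range := fun g hg => by
  obtain ⟨π, i, rfl⟩ := D.cent_e3 S6 F (mem_centralizer_singleton_iff.1 hg)
  exact mul_mem (D.emb_K S6 F Θ hΘi hΘ π) (pow_mem (D.emb_e3 S6 F Θ hΘi hΘ) _)

theorem emb_cent_a : centralizer ({a} : Set G) ≤ Θ.range := by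
  classical
  obtain ⟨-, -, -, -, -, -, -, -, -, -, -, h111, -, -⟩ := hom_model
  obtain ⟨hcb, hcc, -, -, -, -, -, -⟩ := hom_six
  obtain ⟨-, -, ⟨hra, -, -, hr2, hr1, -, -⟩, -⟩ := cross_model
  obtain ⟨h8, h16, -, h34, h1, h32, -⟩ := D.emb_values S6 F Θ hΘi hΘ
  have h20 := D.emb_twenty S6 F Θ hΘi hΘ
  set M := Θ.range with hM
  set σ := φ (wM sigW) with hσ
  have hN := D.emb_norm S6 F Θ hΘi hΘ
  -- the elements of the model
  have hfcc : f cc = φ (jM (0, 1, 0)) := by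
    obtain ⟨-, ⟨q, hq, hq'⟩, -⟩ := gen_facts
    rw [← hq, F.agree, hq']
  have he3 : φ (jM (0, 0, 1)) = Θ (Tv 32) * Θ (Tv 20) := by
    have h : σ * f cc * σ⁻¹ = φ (jM (0, 0, 1)) := by
      rw [hfcc, hσ, D.hconjM, cross_model.2.1.2.2.2.1]
    rw [← h, hcc, map_mul, h32, h20, ← cross_model.2.1.2.2.1, ← D.hconjM, ← D.f45 S6 F, ← hσ]
    group
  let A : SixEnd.S := Tv 1 * Tv 8 * (Tv 34 * Tv 16) * (Tv 32 * Tv 20)
  let s : SixEnd.S := Tv 3 * Tv 12
  let E : SixEnd.S := Tv 1 * Tv 8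
  have hA : Θ A = a := by
    rw [← D.a_eq, ← h111, D.hmul, D.e110 S6 F, he3, hcb, hcc]
    simp only [A, map_mul, h1, h8, h34, h16]
  have hsA : s * A = A * s := Subtype.ext (Equiv.ext fun z => mover_facts z)
  have hsa : Θ s * a = a * Θ s := by rw [← hA, ← map_mul, hsA, map_mul]
  have hEJ : Θ E ∈ J := by
    obtain ⟨-, -, ha, -⟩ := six_nine.2.2.2.2.2.2.2
    obtain ⟨q, hq, hq'⟩ : ∃ q, word6 q = cb ∧ wordM q = jM (1, 0, 0) := six_nine.2.2.2.2.2.2.2.1
    rw [show Θ E = φ (jM (1, 0, 0)) by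
      rw [← hq', ← F.agree, hq, hcb, map_mul f, ← h1, ← h8, ← map_mul]]
    exact D.memj _
  have hsN : Θ s ∉ normalizer (J : Set G) := fun h => by
    have hc : Θ (s * E * s⁻¹) ∈ J := by
      rw [map_mul, map_mul, map_inv]; exact (mem_normalizer_iff.1 h _).1 hEJ
    have h2 : s * E * s⁻¹ * E = E * (s * E * s⁻¹) := hΘi (by
      rw [map_mul Θ (s * E * s⁻¹) E, map_mul Θ E (s * E * s⁻¹)]
      exact D.J_comm hc hEJ)
    obtain ⟨z, hz⟩ := mover_moves
    exact hz (DFunLike.congr_fun (congrArg Subtype.val h2) z)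
  obtain ⟨π, hπs, hπk⟩ := D.quot
  set ρ := φ (wM rhoW) with hρ
  have hρa : ρ ∈ centralizer ({a} : Set G) := mem_centralizer_singleton_iff.2 (by
    rw [hρ, ← D.a_eq, ← D.hmul, ← D.hmul, hra])
  have he_a : φ (jM (0, 0, 1)) ∈ centralizer ({a} : Set G) := mem_centralizer_singleton_iff.2 (by
    rw [← D.a_eq]; exact D.jcomm _ _)
  have hsc : Θ s ∈ centralizer ({a} : Set G) := mem_centralizer_singleton_iff.2 hsa
  let rC : ↥(centralizer ({a} : Set G)) := ⟨ρ, hρa⟩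
  let eC : ↥(centralizer ({a} : Set G)) := ⟨_, he_a⟩
  let sC : ↥(centralizer ({a} : Set G)) := ⟨Θ s, hsc⟩
  have hRN : R ≤ normalizer (J : Set G) := fun r hr => by
    obtain ⟨v, i, -, rfl⟩ := D.R_elems hr
    exact D.mem_norm _ (inL_all _)
  have hneg : π rC = negOne := by
    refine (sl_invol _ ?_).resolve_left fun h => ?_
    · rw [← _root_.map_mul, show rC * rC = 1 from Subtype.ext (by
        show ρ * ρ = 1
        rw [hρ, ← D.hmul, hr2, D.one]), _root_.map_one]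
    · obtain ⟨v, i, -, e⟩ := D.R_elems ((hπk rC).1 h)
      exact (by decide +kernel : ∀ (v : V3) (i : Fin 3), wM rhoW ≠ jM v * wM sigW ^ i.val) v i
        (D.inj _ _ (inL_all _) (inL_all _) e)
  have hx3 : π eC ^ 3 = 1 := by
    rw [← _root_.map_pow, show eC ^ 3 = 1 from Subtype.ext (D.jcube _), _root_.map_one]
  have hx1 : π eC ≠ 1 := fun h => by
    obtain ⟨v, i, hv, e⟩ := D.R_elems ((hπk eC).1 h)
    exact (by decide +kernel : ∀ (v : V3) (i : Fin 3), v.1 + v.2.1 + v.2.2 = 0 →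
      jM (0, 0, 1) ≠ jM v * wM sigW ^ i.val) v i hv (D.inj _ _ (inL_all _) (inL_all _) e)
  have hlift : ∀ x : ↥(centralizer ({a} : Set G)), π sC = π x → (x : G) ∈ normalizer (J : Set G) →
      False := fun x h hx => hsN (by
    have hr : ((sC * x⁻¹ : ↥(centralizer ({a} : Set G))) : G) ∈ R := (hπk _).1 (by
      rw [_root_.map_mul, _root_.map_inv, h, mul_inv_cancel])
    have := mul_mem (hRN hr) hx
    simpa [sC] using this)
  have hxy : π eC * π sC ≠ π sC * π eC := fun h => by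
    obtain ⟨i, hi | hi⟩ := sl_cent _ hx3 hx1 _ h
    · exact hlift (eC ^ i.val) (by rw [_root_.map_pow, hi])
        (by rw [Subgroup.coe_pow]; exact pow_mem (le_normalizer (D.memj _)) _)
    · refine hlift (rC * eC ^ i.val) (by rw [_root_.map_mul, _root_.map_pow, hneg, hi]) ?_
      rw [Subgroup.coe_mul, Subgroup.coe_pow]
      exact mul_mem (D.mem_norm _ (inL_all _)) (pow_mem (le_normalizer (D.memj _)) _)
  set L' := (M.subgroupOf (centralizer ({a} : Set G))).map π with hL'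
  have hin : ∀ c : ↥(centralizer ({a} : Set G)), (c : G) ∈ M → π c ∈ L' := fun c hc => ⟨c, hc, rfl⟩
  have heM := hin eC (D.emb_e3 S6 F Θ hΘi hΘ)
  have hsM := hin sC ⟨s, rfl⟩
  have htop : L' = ⊤ := by
    have hmem : ∀ q : Bool × Fin 3 × Fin 3, (if q.1 then negOne else 1) * π eC ^ q.2.1.val *
        (π sC * π eC * (π sC)⁻¹) ^ q.2.2.val ∈ L' := fun q => by
      refine mul_mem (mul_mem ?_ (pow_mem heM _)) (pow_mem (mul_mem (mul_mem hsM heM) (inv_mem hsM)) _)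
      split_ifs
      · rw [← hneg]; exact hin rC (hN (D.mem_norm _ (inL_all _)))
      · exact one_mem _
    have h18 := sl_gen _ hx3 hx1 _ hxy
    have hle : 18 ≤ Nat.card L' := by
      rw [← h18, Nat.card_eq_fintype_card]
      refine Finset.card_le_card_of_injOn (t := Finset.univ.map ⟨Subtype.val, Subtype.val_injective⟩) id
        (fun z hz => ?_) (fun _ _ _ _ h => h) |>.trans (le_of_eq (Finset.card_map _))
      obtain ⟨q, -, rfl⟩ := Finset.mem_image.1 hz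
      exact Finset.mem_coe.2 (Finset.mem_map.2 ⟨⟨_, hmem q⟩, Finset.mem_univ _, rfl⟩)
    have h24 : Nat.card SL3 = 24 := by rw [Nat.card_eq_fintype_card]; decide +kernel
    refine eq_top_of_card_eq _ ?_
    have hd24 := card_subgroup_dvd_card L'
    rw [h24] at hd24 ⊢
    obtain ⟨m, hm⟩ := hd24
    rcases (show m = 0 ∨ m = 1 ∨ 2 ≤ m by omega) with rfl | rfl | hm2
    · simp at hm
    · omega
    · have := Nat.mul_le_mul hle hm2
      omega
  intro g hg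
  obtain ⟨c, hc, hgc⟩ : π ⟨g, hg⟩ ∈ L' := by rw [htop]; exact mem_top _
  have hr : (c : G)⁻¹ * g ∈ R := (hπk (c⁻¹ * ⟨g, hg⟩)).1 (by
    rw [_root_.map_mul, _root_.map_inv, hgc, inv_mul_cancel])
  have := mul_mem (show (c : G) ∈ M from hc) (hN (hRN hr))
  rwa [mul_inv_cancel_left] at this

/-- The centralizer of every non-trivial element of `J` lies in the image. -/
theorem emb_cent_J {v : V3} (hv : v ≠ 0) {g : G} (hg : g * φ (jM v) = φ (jM v) * g) : g ∈ Θ.range := by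
  obtain ⟨w, hw⟩ := hom_model.2.2.2.2.2.2.2.2.2.2.2.2.2 v hv
  have key : ∀ u : V3, wact w u = v → (∀ x : G, x * φ (jM u) = φ (jM u) * x → x ∈ Θ.range) → g ∈ Θ.range := by
    intro u hu h
    have hc : φ (wM w) * φ (jM u) * (φ (wM w))⁻¹ = φ (jM v) := by rw [D.act' (inL_all _)]; exact congrArg _ (congrArg jM hu)
    have h1 := h ((φ (wM w))⁻¹ * g * φ (wM w)) (by
      rw [← hc] at hg
      calc (φ (wM w))⁻¹ * g * φ (wM w) * φ (jM u)
          = (φ (wM w))⁻¹ * (g * (φ (wM w) * φ (jM u) * (φ (wM w))⁻¹)) * φ (wM w) := by group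
        _ = (φ (wM w))⁻¹ * (φ (wM w) * φ (jM u) * (φ (wM w))⁻¹ * g) * φ (wM w) := by rw [hg]
        _ = _ := by group)
    have hwM : φ (wM w) ∈ Θ.range := D.emb_norm S6 F Θ hΘi hΘ (D.mem_norm _ (inL_all _))
    have := mul_mem (mul_mem hwM h1) (inv_mem hwM)
    rwa [show φ (wM w) * ((φ (wM w))⁻¹ * g * φ (wM w)) * (φ (wM w))⁻¹ = g by group] at this
  rcases hw with h | h | h
  · exact key _ h fun x hx => D.emb_norm S6 F Θ hΘi hΘ (D.cent_two 1 (wact_one _) hx)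
  · exact key _ h fun x hx => D.emb_cent_a S6 F Θ hΘi hΘ (mem_centralizer_singleton_iff.2 (by rwa [D.a_eq] at hx))
  · exact key _ h fun x hx => D.emb_cent_e3 S6 F Θ hΘi hΘ (mem_centralizer_singleton_iff.2 hx)

/-- An element conjugating a non-trivial element of `J` into `J` is in the image. -/
theorem emb_fus {u v : V3} (hu : u ≠ 0) {g : G} (hg : g * φ (jM u) * g⁻¹ = φ (jM v)) : g ∈ Θ.range := by
  obtain ⟨p, hp, hpu⟩ := D.fus u v g hg
  have h := D.emb_cent_J S6 F Θ hΘi hΘ hu (g := (φ p)⁻¹ * g) (by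
    have hp' : φ p * φ (jM u) * (φ p)⁻¹ = φ (jM v) := by rw [D.act' hp, hpu]
    calc (φ p)⁻¹ * g * φ (jM u) = (φ p)⁻¹ * (g * φ (jM u) * g⁻¹) * g := by group
      _ = (φ p)⁻¹ * (φ p * φ (jM u) * (φ p)⁻¹) * g := by rw [hg, hp']
      _ = _ := by group)
  have := mul_mem (D.emb_norm S6 F Θ hΘi hΘ (D.mem_norm p hp)) h
  rwa [mul_inv_cancel_left] at this

end Image

end Loc

end Cfsg.Agent.SpThreeCent
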