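import Cfsg.Agent.Lib.SpThreeCent.Defs
import Cfsg.Agent.Lib.CharP.Sylow
import Cfsg.Agent.Lib.PSpAmalgam.Double

/-!
# The data of the centralizer of the element of order three
-/

set_option autoImplicit false
set_option linter.style.haveILetI false
set_option maxRecDepth 100000

namespace Cfsg.Agent.SpThreeCent

open Subgroup
open Cfsg.Agent.PSpAmalgam (SL3 negOne)
open scoped commutatorElement

theorem sl_neg_power : ∀ s : SL3, s ≠ 1 →
    ∃ c : SL3, ∃ k : Fin 7, s ^ (k : ℕ) = negOne ∨ (c * s * c⁻¹ * s⁻¹) ^ (k : ℕ) = negOne := by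
  decide +kernel

theorem sl_neg_facts : negOne * negOne = 1 ∧ negOne ^ 3 = negOne ∧ negOne ≠ 1 ∧
    (∀ c : SL3, c * negOne * c⁻¹ = negOne) ∧ ∃ q : SL3, q ^ 3 * q ^ 3 = negOne ∧ q ^ 4 = 1 := by
  decide +kernel

variable {G : Type*} [Group G] [Finite G]

theorem exists_centData (a : G) (ha : orderOf a = 3) (C : Subgroup G)
    (hC : C = centralizer ({a} : Set G)) (hR : Cfsg.IsExtraspecial 3 (Cfsg.pCore 3 C))
    (hRcard : Nat.card (Cfsg.pCore 3 C) = 27) (hRexp : ∀ r ∈ Cfsg.pCore 3 C, r ^ 3 = 1)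
    (e : C ⧸ Cfsg.pCore 3 C ≃* SL3) (J : Subgroup G) (hJC : J ≤ C)
    (hJsig : ∀ K : Subgroup G, (Nat.card K).Coprime 3 →
      (∀ j ∈ J, K.map (MulAut.conj j).toMonoidHom = K) → K = ⊥) :
    CentData a ((Cfsg.pCore 3 C).map C.subtype) := by
  haveI : Fact (Nat.Prime 3) := ⟨Nat.prime_three⟩
  subst hC
  set C := centralizer ({a} : Set G) with hC
  set Q := Cfsg.pCore 3 C with hQ
  set π : C →* SL3 := e.toMonoidHom.comp (QuotientGroup.mk' Q) with hπ
  have hπs : Function.Surjective π := e.surjective.comp (QuotientGroup.mk'_surjective Q)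
  have hπk : ∀ g : C, π g = 1 ↔ g ∈ Q := fun g => by
    rw [hπ, MonoidHom.comp_apply, MulEquiv.coe_toMonoidHom, MulEquiv.map_eq_one_iff,
      QuotientGroup.mk'_apply, QuotientGroup.eq_one_iff]
  have hmemR : ∀ g : C, (g : G) ∈ Q.map C.subtype ↔ g ∈ Q := fun g =>
    mem_map_iff_mem C.subtype_injective
  set aC : C := ⟨a, mem_centralizer_singleton_iff.2 rfl⟩ with haC
  have haco : orderOf aC = 3 := by rw [← Subgroup.orderOf_coe]; exact ha
  have hacen : ∀ g : C, g * aC = aC * g := fun g => Subtype.ext (mem_centralizer_singleton_iff.1 g.2)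
  have haQ : aC ∈ Q := by
    haveI : (zpowers aC).Normal := ⟨fun n hn g => by
      obtain ⟨k, rfl⟩ := mem_zpowers_iff.1 hn
      rw [← conj_zpow, hacen, mul_inv_cancel_right]
      exact zpow_mem (mem_zpowers aC) k⟩
    exact Cfsg.Agent.CharP.le_pCore (p := 3) inferInstance
      (IsPGroup.of_card (n := 1) (by rw [Nat.card_zpowers, haco, pow_one])) (mem_zpowers aC)
  set aQ : Q := ⟨aC, haQ⟩ with haQdef
  have hcenQ : center Q = zpowers aQ := by
    refine (eq_of_le_of_card_ge (zpowers_le.2 (show aQ ∈ center Q from mem_center_iff.2 fun x => Subtype.ext (hacen x))) ?_).symm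
    rw [hR.2, Nat.card_zpowers, ← Subgroup.orderOf_coe, haco]
  have hval : ∀ z : Q, z ∈ center Q → ((z : C) : G) ∈ zpowers a := by
    intro z hz
    rw [hcenQ] at hz
    obtain ⟨k, rfl⟩ := mem_zpowers_iff.1 hz
    exact mem_zpowers_iff.2 ⟨k, by simp [haQdef, haC]⟩
  have hzC : ∀ z ∈ zpowers a, ∀ g ∈ C, g * z = z * g := by
    intro z hz g hg
    obtain ⟨k, rfl⟩ := mem_zpowers_iff.1 hz
    exact (Commute.zpow_right (mem_centralizer_singleton_iff.1 hg) k).eq
  have hzcube : ∀ z ∈ zpowers a, z ^ 3 = 1 := by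
    intro z hz
    obtain ⟨k, rfl⟩ := mem_zpowers_iff.1 hz
    rw [← zpow_natCast, zpow_comm, zpow_natCast, ← ha, pow_orderOf_eq_one, one_zpow]
  refine
    { order := ha
      card := ?_
      card_R := ?_
      le := map_subtype_le Q
      norm := fun g hg => ?_
      mem := (hmemR aC).2 haQ
      exp := ?_
      center := ?_
      comm := ?_
      nat := ?_
      quot := ⟨π, hπs, fun g => (hπk g).trans (hmemR g).symm⟩ }
  · rw [Q.card_eq_card_quotient_mul_card_subgroup, Nat.card_congr e.toEquiv, hRcard, PSpAmalgam.card_sl3]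
  · rw [card_map_of_injective C.subtype_injective, hRcard]
  · exact le_normalizer_map C.subtype (mem_map_of_mem _ (show (⟨g, hg⟩ : C) ∈ normalizer (Q : Set C) by
      rw [normalizer_eq_top_iff.2 inferInstance]; exact mem_top _))
  · rintro _ ⟨x, hx, rfl⟩
    rw [coe_subtype, ← Subgroup.coe_pow, hRexp x hx]; rfl
  · rintro _ ⟨x, hx, rfl⟩ hc
    exact hval ⟨x, hx⟩ (mem_center_iff.2 fun y =>
      Subtype.ext (Subtype.ext (hc _ ⟨y, y.2, rfl⟩).symm))
  · rintro _ ⟨x, hx, rfl⟩ _ ⟨y, hy, rfl⟩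
    refine hval ⁅(⟨x, hx⟩ : Q), ⟨y, hy⟩⁆ ?_
    rw [← hR.1.2.2]
    exact commutator_mem_commutator (mem_top _) (mem_top _)
  · intro g hg hact
    by_contra hgR
    let K0 : Subgroup C :=
      { carrier := {u | ∀ x ∈ Q.map C.subtype, (u : G) * x * (u : G)⁻¹ * x⁻¹ ∈ zpowers a}
        one_mem' := fun x _ => by simp
        mul_mem' := fun {u v} hu hv x hx => by
          have h1 := hv x hx
          have h2 := hzC _ h1 u u.2
          have e1 : (u : G) * v * x * ((u : G) * v)⁻¹ * x⁻¹ =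
              (u : G) * ((v : G) * x * (v : G)⁻¹ * x⁻¹) * (u : G)⁻¹ * ((u : G) * x * (u : G)⁻¹ * x⁻¹) := by
            group
          rw [Subgroup.coe_mul, e1, h2, mul_inv_cancel_right]
          exact mul_mem h1 (hu x hx)
        inv_mem' := fun {u} hu x hx => by
          have h1 := hu x hx
          have h2 := hzC _ (inv_mem h1) _ (inv_mem u.2)
          have e1 : (u : G)⁻¹ * x * ((u : G)⁻¹)⁻¹ * x⁻¹ =
              (u : G)⁻¹ * ((u : G) * x * (u : G)⁻¹ * x⁻¹)⁻¹ * ((u : G)⁻¹)⁻¹ := by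
            group
          rw [InvMemClass.coe_inv, e1, h2, mul_inv_cancel_right]
          exact inv_mem h1 }
    have hK0n : ∀ c : C, ∀ u ∈ K0, c * u * c⁻¹ ∈ K0 := by
      intro c u hu x hx
      have hx' : (c : G)⁻¹ * x * c ∈ Q.map C.subtype := by
        obtain ⟨x0, hx0, rfl⟩ := hx
        have := (inferInstance : Q.Normal).conj_mem x0 hx0 c⁻¹
        exact ⟨_, this, by simp⟩
      have h1 := hu _ hx'
      have e1 : ((c * u * c⁻¹ : C) : G) * x * ((c * u * c⁻¹ : C) : G)⁻¹ * x⁻¹ =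
          (c : G) * ((u : G) * ((c : G)⁻¹ * x * c) * (u : G)⁻¹ * ((c : G)⁻¹ * x * c)⁻¹) * (c : G)⁻¹ := by
        simp only [Subgroup.coe_mul, InvMemClass.coe_inv]; group
      rw [e1, hzC _ h1 c c.2, mul_inv_cancel_right]
      exact h1
    set gC : C := ⟨g, hg⟩ with hgC
    have hgK : gC ∈ K0 := hact
    obtain ⟨s, k, hk⟩ := sl_neg_power (π gC) (fun h => hgR ((hmemR gC).2 ((hπk gC).1 h)))
    obtain ⟨c, rfl⟩ := hπs s
    obtain ⟨v, hv, hvπ⟩ : ∃ v ∈ K0, π v = negOne := by
      rcases hk with h | h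
      · exact ⟨_, pow_mem hgK (k : ℕ), by rw [map_pow]; exact h⟩
      · exact ⟨(c * gC * c⁻¹ * gC⁻¹) ^ (k : ℕ), pow_mem (mul_mem (hK0n c _ hgK) (inv_mem hgK)) _,
          by simp only [map_pow, map_mul, map_inv]; exact h⟩
    obtain ⟨hn2, hn3, hn1, hncen, -⟩ := sl_neg_facts
    set t := v ^ 3 with ht
    have htπ : π t = negOne := by rw [ht, map_pow, hvπ, hn3]
    have ht2 : t * t = 1 := by
      have h1 : v * v ∈ Q := (hπk _).1 (by rw [map_mul, hvπ, hn2])
      rw [ht, ← pow_add, show 3 + 3 = 2 * 3 by norm_num, pow_mul, pow_two]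
      exact hRexp _ h1
    have ht2G : (t : G) * t = 1 := by rw [← Subgroup.coe_mul, ht2]; rfl
    have htR : ∀ x ∈ Q.map C.subtype, (t : G) * x = x * t := by
      intro x hx
      set z := (t : G) * x * (t : G)⁻¹ * x⁻¹ with hz
      have hzm : z ∈ zpowers a := (pow_mem hv 3 : t ∈ K0) x hx
      have e1 : (t : G) * x * (t : G)⁻¹ = z * x := by rw [hz, inv_mul_cancel_right]
      have e2 : z * z * x = x := by
        calc z * z * x = z * ((t : G) * x * (t : G)⁻¹) := by rw [e1, mul_assoc]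
          _ = (t : G) * (z * x) * (t : G)⁻¹ := by
            rw [show (t : G) * (z * x) * (t : G)⁻¹ = (t : G) * z * x * (t : G)⁻¹ by group, hzC z hzm t t.2]
            group
          _ = ((t : G) * t) * x * ((t : G) * t)⁻¹ := by rw [← e1]; group
          _ = x := by rw [ht2G]; group
      have hz2 : z * z = 1 := mul_eq_right.1 e2
      have hz1 : z = 1 := by
        have h3 := hzcube z hzm
        rwa [pow_succ, pow_two, hz2, one_mul] at h3
      rwa [hz1, one_mul, mul_inv_eq_iff_eq_mul] at e1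
    have htcen : ∀ c : C, (c : G) * t = t * c := by
      intro c
      set r := t⁻¹ * (c * t * c⁻¹) with hr
      have hrQ : r ∈ Q := (hπk r).1 (by
        rw [hr]; simp only [map_mul, map_inv, htπ, hncen, inv_mul_cancel])
      have hrz : (r : G) ∈ zpowers a := by
        refine hval ⟨r, hrQ⟩ (mem_center_iff.2 fun y => Subtype.ext (Subtype.ext ?_))
        change ((y : C) : G) * (r : G) = (r : G) * ((y : C) : G)
        have hy : ((y : C) : G) ∈ Q.map C.subtype := ⟨_, y.2, rfl⟩
        have hy' : (c : G)⁻¹ * ((y : C) : G) * c ∈ Q.map C.subtype :=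
          ⟨c⁻¹ * (y : C) * c, by simpa using (inferInstance : Q.Normal).conj_mem _ y.2 c⁻¹, by simp⟩
        have h1 : Commute (t : G)⁻¹ ((y : C) : G) := (show Commute (t : G) _ from htR _ hy).inv_left
        have h2 : Commute ((c : G) * t * (c : G)⁻¹) ((y : C) : G) := by
          have h := congrArg (fun w => (c : G) * w * (c : G)⁻¹) (htR _ hy')
          simp only [mul_assoc, mul_inv_cancel_left] at h
          simp only [Commute, SemiconjBy, mul_assoc]
          simpa [mul_assoc] using h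
        simp only [hr, Subgroup.coe_mul, InvMemClass.coe_inv]
        exact ((h1.mul_left h2).eq).symm
      have e1 : (c : G) * t * (c : G)⁻¹ = t * r := by simp [hr, mul_assoc]
      have hrt : (t : G) * r = r * t := hzC _ hrz t t.2
      have hr2 : (r : G) * r = 1 := by
        have : ((c : G) * t * (c : G)⁻¹) * ((c : G) * t * (c : G)⁻¹) = 1 := by
          rw [show ((c : G) * t * (c : G)⁻¹) * ((c : G) * t * (c : G)⁻¹) =
            (c : G) * ((t : G) * t) * (c : G)⁻¹ by group, ht2G]; group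
        rw [e1, mul_assoc, ← mul_assoc (r : G), ← hrt, mul_assoc, ← mul_assoc, ht2G, one_mul] at this
        exact this
      have hr1 : (r : G) = 1 := by
        have h3 := hzcube _ hrz
        rwa [pow_succ, pow_two, hr2, one_mul] at h3
      rwa [hr1, mul_one, mul_inv_eq_iff_eq_mul] at e1
    have htne : (t : G) ≠ 1 := fun h => hn1 (by
      rw [← htπ, show t = 1 from Subtype.ext h, map_one])
    refine htne (mem_bot.1 ((hJsig (zpowers (t : G)) ?_ ?_).le (mem_zpowers _)))
    · rw [Nat.card_zpowers]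
      exact (by norm_num : Nat.Coprime 2 3).coprime_dvd_left
        (orderOf_dvd_of_pow_eq_one (by rw [pow_two, ht2G]))
    · intro j hj
      rw [MonoidHom.map_zpowers]
      congr 1
      change j * (t : G) * j⁻¹ = t
      rw [htcen ⟨j, hJC hj⟩, mul_inv_cancel_right]

end Cfsg.Agent.SpThreeCent
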