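import Cfsg.Agent.Lib.SpThreeCent.Mon

/-!
# The involutions of the normalizer: Sylow `3`-subgroups of their centralizers, and non-conjugacy

`nCw` is a reflection with axis of weight one, `rhoW` one with axis of weight two, `zW` is the product
of two commuting reflections and `invW` is the inversion.
-/

set_option autoImplicit false
set_option linter.style.haveILetI false
set_option linter.unusedSectionVars false
set_option maxRecDepth 100000
set_option synthInstance.maxSize 10000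

namespace Cfsg.Agent.SpThreeCent

open Subgroup
open Cfsg.Agent.NineSym
open Cfsg.Agent.ExtraTwoNine.CoordPerm (P6)

/-- The product of two reflections. -/
def zW : Wt := ⟨false, 3, 0⟩
/-- The inversion. -/
def invW : Wt := ⟨true, 0, 0⟩
/-- The product of a reflection and the exchange of the two other blocks. -/
def zpW : Wt := nCw * rhoW
/-- The cyclic permutation of the blocks. -/
def sigW : Wt := ⟨false, 0, 1⟩

theorem refl_plane :
    (Indep ((1, 0, 0) : V3) (0, 1, 0) ∧ wact nCw (1, 0, 0) = (1, 0, 0) ∧ wact nCw (0, 1, 0) = (0, 1, 0)) ∧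
    (Indep ((1, 1, 0) : V3) (0, 0, 1) ∧ wact rhoW (1, 1, 0) = (1, 1, 0) ∧ wact rhoW (0, 0, 1) = (0, 0, 1)) := by
  decide +kernel

theorem line_facts :
    (wact zW (0, 0, 1) = (0, 0, 1) ∧ ∀ x : V3, wact zW x = x → x = 0 ∨ x = (0, 0, 1) ∨ x = -(0, 0, 1)) ∧
    (wact zpW (1, 1, 0) = (1, 1, 0) ∧ ∀ x : V3, wact zpW x = x → x = 0 ∨ x = (1, 1, 0) ∨ x = -(1, 1, 0)) := by
  decide +kernel

theorem comm_three : ∀ u : Wt, (u = nCw ∨ u = rhoW ∨ u = zW ∨ u = zpW) → ∀ w : Wt,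
    w * u = u * w → w ^ 3 = 1 → w = 1 := by
  decide +kernel

theorem not_conj_facts :
    (∀ w : Wt, w * nCw ≠ rhoW * w) ∧ (∀ w : Wt, w * nCw ≠ zW * w) ∧ (∀ w : Wt, w * nCw ≠ zpW * w) ∧
    (∀ w : Wt, w * rhoW ≠ zW * w) ∧ (∀ w : Wt, w * rhoW ≠ zpW * w) ∧
    ∀ w : Wt, wact zpW (wact w (0, 0, 1)) ≠ wact w (0, 0, 1) := by
  decide +kernel

theorem sig_facts :
    (∀ x : Mn, (x.w = sigW ∨ x.w = sigW * sigW) → x.v.1 + x.v.2.1 + x.v.2.2 = 0 →
      ∃ p : Mn, InL false false p ∧ p * x * p⁻¹ = wM sigW) ∧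
    (∀ p : Mn, InL false false p → p * jM (1, 1, 1) = jM (1, 1, 1) * p) ∧
    wM sigW * wM sigW * wM sigW = 1 ∧ wM sigW ≠ 1 ∧ wM sigW * wM invW = wM invW * wM sigW ∧
    wM invW * jM (1, 1, 1) * wM invW = (jM (1, 1, 1))⁻¹ ∧ wM invW * wM invW = 1 := by
  decide +kernel

theorem stab_two : ∀ w : Wt, wact w (1, 2, 0) = (1, 2, 0) → w ^ 3 = 1 → w = 1 := by decide +kernel

theorem inverting_two : ∀ w : Wt, wact w (1, 1, 1) = -(1, 1, 1) → wact w (1, 2, 0) = (1, 2, 0) →
    ∀ v : V3, wact w v = v → v = 0 ∨ v = (1, 2, 0) ∨ v = -(1, 2, 0) := by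
  decide +kernel

theorem weight_facts : (∀ w : Wt, wact w (1, 0, 0) ≠ (1, 1, 1)) ∧ (∀ w : Wt, wact w (1, 2, 0) ≠ (1, 1, 1)) ∧
    ∀ w : Wt, wact w (0, 0, 1) ≠ (1, 2, 0) ∧ wact w (0, 0, 1) ≠ -(1, 2, 0) := by
  decide +kernel

theorem six_z : word6 (0, 0, 2, 0) = Equiv.swap 1 2 * Equiv.swap 4 5 ∧ wordM (0, 0, 2, 0) = wM zW ∧
    ∀ π : P6, π * (Equiv.swap 1 2 * Equiv.swap 4 5) = Equiv.swap 1 2 * Equiv.swap 4 5 * π → π ^ 8 = 1 := by
  decide +kernel

variable {G : Type*} [Group G] [Finite G] {a : G} {R J : Subgroup G} {φ : Mn → G}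

namespace Loc

variable (D : Loc a R J true true φ)
include D

theorem hmul (p q : Mn) : φ (p * q) = φ p * φ q := D.hom p q (inL_all p) (inL_all q)

theorem hinv (p : Mn) : φ p⁻¹ = (φ p)⁻¹ := D.inv' (inL_all p)

/-- The centralizer of `a` moves an element of the plane onto the cyclic permutation of the blocks. -/
theorem exists_sig_conj : ∃ c ∈ centralizer ({a} : Set G),
    c * φ (jM (1, 2, 0)) * c⁻¹ = φ (wM sigW) := by
  classical
  obtain ⟨htab, hcent, -⟩ := sig_facts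
  have hsR : φ (wM sigW) ∈ R := D.shift_R
  have hex : ∃ c ∈ centralizer ({a} : Set G), c * φ (jM (1, 2, 0)) * c⁻¹ ∉ J := by
    by_contra hno
    push Not at hno
    -- every element of `C(a)` is determined modulo `R` by two classes modulo `⟨a⟩`
    have hpl : φ (jM (1, 2, 0)) ∈ R := D.plane_R _ (by decide +kernel)
    have hR : ∀ g ∈ centralizer ({a} : Set G), ∀ x ∈ R, g * x * g⁻¹ ∈ R := fun g hg x hx =>
      (mem_normalizer_iff.1 (D.norm hg) x).1 hx
    have hcoset : ∀ x ∈ R, ∃ (v : V3) (i : Fin 3), v.1 + v.2.1 + v.2.2 = 0 ∧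
        x = φ (jM v) * φ (wM sigW) ^ i.val := by
      have hinj : Function.Injective (fun q : {v : V3 // v.1 + v.2.1 + v.2.2 = 0} × Fin 3 =>
          (⟨φ (jM q.1.1) * φ (wM sigW) ^ q.2.val, mul_mem (D.plane_R _ q.1.2)
            (pow_mem hsR _)⟩ : R)) := by
        intro p q e
        have e' := congrArg Subtype.val e
        simp only [← (D.map_pow (inL_all (wM sigW)) _).2, ← D.hmul] at e'
        have h := D.inj _ _ (inL_all _) (inL_all _) e'
        have key : ∀ v v' : V3, ∀ i i' : Fin 3, jM v * wM sigW ^ i.val = jM v' * wM sigW ^ i'.val →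
            v = v' ∧ i = i' := by decide +kernel
        obtain ⟨h1, h2⟩ := key _ _ _ _ h
        exact Prod.ext (Subtype.ext h1) h2
      have hbij := (Nat.bijective_iff_injective_and_card _).2 ⟨hinj, by
        rw [D.card_R, Nat.card_eq_fintype_card]; decide +kernel⟩
      intro x hx
      obtain ⟨⟨⟨v, hv⟩, i⟩, e⟩ := hbij.2 ⟨x, hx⟩
      exact ⟨v, i, hv, (congrArg Subtype.val e).symm⟩
    have hpc : ∀ g ∈ centralizer ({a} : Set G),
        ∃ s : ZMod 3, g * φ (jM (1, 2, 0)) * g⁻¹ * (φ (jM (s * 1, s * 2, 0)))⁻¹ ∈ zpowers a := by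
      intro g hg
      obtain ⟨v, hv⟩ := (D.memJ _).1 (hno g hg)
      have hsum : v.1 + v.2.1 + v.2.2 = 0 := by
        obtain ⟨v', i, hv', e⟩ := hcoset _ (hR g hg _ hpl)
        rw [← hv, ← (D.map_pow (inL_all _) _).2, ← D.hmul] at e
        have h := D.inj _ _ (inL_all _) (inL_all _) e
        have key : ∀ v v' : V3, ∀ i : Fin 3, jM v = jM v' * wM sigW ^ i.val → v = v' := by decide +kernel
        rw [key _ _ _ h]; exact hv'
      obtain ⟨s, k, hk⟩ : ∃ s k : ZMod 3, v = (s * 1, s * 2, 0) + (k * 1, k * 1, k * 1) :=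
        (by decide +kernel : ∀ v : V3, v.1 + v.2.1 + v.2.2 = 0 →
          ∃ s k : ZMod 3, v = (s * 1, s * 2, 0) + (k * 1, k * 1, k * 1)) v hsum
      refine ⟨s, ?_⟩
      rw [← hv, hk, D.jadd, D.jcomm, mul_inv_cancel_right]
      refine mem_zpowers_iff.2 ⟨(k.val : ℤ), ?_⟩
      rw [zpow_natCast, ← D.a_eq, ← (D.map_pow (inL_all _) _).2]
      exact congrArg φ ((by decide +kernel : ∀ k : ZMod 3,
        jM (1, 1, 1) ^ k.val = jM (k * 1, k * 1, k * 1)) k)
    have hsc : ∀ g ∈ centralizer ({a} : Set G), ∃ (s t : ZMod 3),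
        g * φ (wM sigW) * g⁻¹ * (φ (jM (s * 1, s * 2, 0)) * φ (wM sigW) ^ t.val)⁻¹ ∈ zpowers a := by
      intro g hg
      obtain ⟨v, i, hv, e⟩ := hcoset _ (hR g hg _ hsR)
      obtain ⟨s, k, hk⟩ : ∃ s k : ZMod 3, v = (k * 1, k * 1, k * 1) + (s * 1, s * 2, 0) :=
        (by decide +kernel : ∀ v : V3, v.1 + v.2.1 + v.2.2 = 0 →
          ∃ s k : ZMod 3, v = (k * 1, k * 1, k * 1) + (s * 1, s * 2, 0)) v hv
      refine ⟨s, (i.val : ZMod 3), ?_⟩
      rw [e, show ((i.val : ZMod 3)).val = i.val from ZMod.val_cast_of_lt i.isLt, hk, D.jadd,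
        mul_assoc (φ (jM (k * 1, k * 1, k * 1))), mul_inv_cancel_right]
      refine mem_zpowers_iff.2 ⟨(k.val : ℤ), ?_⟩
      rw [zpow_natCast, ← D.a_eq, ← (D.map_pow (inL_all _) _).2]
      exact congrArg φ ((by decide +kernel : ∀ k : ZMod 3,
        jM (1, 1, 1) ^ k.val = jM (k * 1, k * 1, k * 1)) k)
    choose s1 hs1 using hpc
    choose s2 t2 hs2 using hsc
    let F : centralizer ({a} : Set G) → (ZMod 3 × ZMod 3) × ZMod 3 := fun g =>
      ((s1 g g.2, s2 g g.2), t2 g g.2)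
    have hfib : ∀ q, Nat.card {g : centralizer ({a} : Set G) // F g = q} ≤ 27 := by
      intro q
      rcases isEmpty_or_nonempty {g : centralizer ({a} : Set G) // F g = q} with h | ⟨⟨g0, hg0⟩⟩
      · simp
      rw [← D.card_R]
      have key : ∀ g, F g = q → (g0 : G)⁻¹ * g ∈ R := by
        intro g hg
        have ha0 : ∀ z ∈ zpowers a, (g0 : G) * z = z * g0 := fun z hz => by
          obtain ⟨k, rfl⟩ := hz
          exact (Commute.zpow_right (mem_centralizer_singleton_iff.1 g0.2) k).eq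
        have hm : ∀ x, (g0 : G) * x * (g0 : G)⁻¹ * ((g : G) * x * (g : G)⁻¹)⁻¹ ∈ zpowers a →
            ((g0 : G)⁻¹ * g) * x * ((g0 : G)⁻¹ * g)⁻¹ * x⁻¹ ∈ zpowers a := fun x hx => by
          have h1 : (g : G) * x * (g : G)⁻¹ * ((g0 : G) * x * (g0 : G)⁻¹)⁻¹ ∈ zpowers a := by
            have := inv_mem hx
            rwa [mul_inv_rev, inv_inv] at this
          have e2 : ((g0 : G)⁻¹ * g) * x * ((g0 : G)⁻¹ * g)⁻¹ * x⁻¹ =
              (g0 : G)⁻¹ * ((g : G) * x * (g : G)⁻¹ * ((g0 : G) * x * (g0 : G)⁻¹)⁻¹) * g0 := by group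
          rw [e2, mul_assoc, ← ha0 _ h1, inv_mul_cancel_left]
          exact h1
        have hq : F g0 = F g := hg0.trans hg.symm
        simp only [F, Prod.ext_iff] at hq
        obtain ⟨⟨q1, q2⟩, q3⟩ := hq
        have hplane := hm _ (show _ ∈ zpowers a by
          have h1 := hs1 g0 g0.2
          have h2 := hs1 g g.2
          rw [q1] at h1
          have := mul_mem h1 (inv_mem h2)
          rwa [mul_inv_rev, inv_inv, ← mul_assoc, inv_mul_cancel_right] at this)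
        have hshift := hm _ (show _ ∈ zpowers a by
          have h1 := hs2 g0 g0.2
          have h2 := hs2 g g.2
          rw [q2, q3] at h1
          have := mul_mem h1 (inv_mem h2)
          rwa [mul_inv_rev (_ * _ * _), inv_inv, ← mul_assoc, inv_mul_cancel_right] at this)
        have hc := mul_mem (inv_mem g0.2) g.2
        refine D.nat _ hc fun x hx => ?_
        -- the elements commuting modulo `⟨a⟩` form a subgroup
        set c := (g0 : G)⁻¹ * g
        have hcz : ∀ z ∈ zpowers a, c * z = z * c := fun z hz => by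
          obtain ⟨k, rfl⟩ := hz
          exact (Commute.zpow_right (mem_centralizer_singleton_iff.1 hc) k).eq
        obtain ⟨v, i, hv, rfl⟩ := hcoset x hx
        have hmulc : ∀ x y : G, y ∈ centralizer ({a} : Set G) → x ∈ centralizer ({a} : Set G) →
            c * x * c⁻¹ * x⁻¹ ∈ zpowers a → c * y * c⁻¹ * y⁻¹ ∈ zpowers a →
            c * (x * y) * c⁻¹ * (x * y)⁻¹ ∈ zpowers a := fun x y _ hxc h1 h2 => by
          have hxz : x * (c * y * c⁻¹ * y⁻¹) = (c * y * c⁻¹ * y⁻¹) * x := by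
            obtain ⟨k, hk⟩ := h2
            simp only at hk
            rw [← hk]
            exact (Commute.zpow_right (mem_centralizer_singleton_iff.1 hxc) k).eq
          rw [show c * (x * y) * c⁻¹ * (x * y)⁻¹ = c * x * c⁻¹ * ((c * y * c⁻¹ * y⁻¹) * x⁻¹) by group,
            show (c * y * c⁻¹ * y⁻¹) * x⁻¹ = x⁻¹ * (c * y * c⁻¹ * y⁻¹) by
              rw [eq_inv_mul_iff_mul_eq, ← mul_assoc, hxz, mul_inv_cancel_right],
            ← mul_assoc]
          exact mul_mem h1 h2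
        have hone : c * 1 * c⁻¹ * (1 : G)⁻¹ ∈ zpowers a := by simp
        have hpw : ∀ x : G, x ∈ centralizer ({a} : Set G) → c * x * c⁻¹ * x⁻¹ ∈ zpowers a →
            ∀ n : ℕ, c * x ^ n * c⁻¹ * (x ^ n)⁻¹ ∈ zpowers a := fun x hxc h n => by
          induction n with
          | zero => simpa using hone
          | succ n ih => rw [pow_succ]; exact hmulc _ _ hxc (pow_mem hxc n) ih h
        have hv' : ∀ v : V3, v.1 + v.2.1 + v.2.2 = 0 → c * φ (jM v) * c⁻¹ * (φ (jM v))⁻¹ ∈ zpowers a := by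
          intro v hv
          obtain ⟨s, k, rfl⟩ : ∃ s k : Fin 3, v = s.val • ((1, 2, 0) : V3) + k.val • ((1, 1, 1) : V3) :=
            (by decide +kernel : ∀ v : V3, v.1 + v.2.1 + v.2.2 = 0 →
              ∃ s k : Fin 3, v = s.val • ((1, 2, 0) : V3) + k.val • ((1, 1, 1) : V3)) v hv
          have hn : ∀ (n : ℕ) (x : V3), φ (jM (n • x)) = φ (jM x) ^ n := fun n x => by
            induction n with
            | zero => rw [zero_smul, pow_zero, D.jzero]
            | succ n ih => rw [succ_nsmul, D.jadd, ih, pow_succ]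
          rw [D.jadd, hn, hn, D.a_eq]
          have hb : φ (jM (1, 2, 0)) ∈ centralizer ({a} : Set G) := D.le hpl
          refine hmulc _ _ (pow_mem (mem_centralizer_singleton_iff.2 rfl) _) (pow_mem hb _)
            (hpw _ hb hplane _) ?_
          have := hcz _ (pow_mem (mem_zpowers a) k.val)
          rw [this, mul_inv_cancel_right, mul_inv_cancel]
          exact one_mem _
        exact hmulc _ _ (pow_mem (D.le hsR) _) (D.le (D.plane_R v hv)) (hv' v hv)
          (hpw _ (D.le hsR) hshift _)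
      refine Nat.card_le_card_of_injective
        (fun g => (⟨(g0 : G)⁻¹ * (g.1 : G), key g.1 g.2⟩ : R)) fun g g' e => ?_
      exact Subtype.ext (Subtype.ext (mul_left_cancel (congrArg Subtype.val e)))
    have := Nat.card_le_card_of_injective
      (fun g => (⟨F g, ⟨g, rfl⟩⟩ : Σ q, {g : centralizer ({a} : Set G) // F g = q}))
      (fun g g' e => by
        have := congrArg (fun p : Σ q, {g : centralizer ({a} : Set G) // F g = q} => (p.2 : centralizer ({a} : Set G))) e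
        simpa using this)
    rw [D.card, Nat.card_sigma] at this
    have h27 := Finset.sum_le_sum (s := Finset.univ) fun q _ => hfib q
    rw [Finset.sum_const, Finset.card_univ] at h27
    have h3 : ∀ g : centralizer ({a} : Set G), (s1 g.1 g.2) ≠ 0 := by
      rintro ⟨g, hg⟩ h0
      have h := hs1 g hg
      simp only [h0, zero_mul] at h
      rw [show ((0 : ZMod 3), (0 : ZMod 3), (0 : ZMod 3)) = (0 : V3) from rfl, D.jzero, inv_one, mul_one] at h
      obtain ⟨k, hk⟩ := h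
      simp only at hk
      have : φ (jM (1, 2, 0)) ∈ zpowers a := ⟨k, by
        show a ^ k = _
        have hgk : g * a ^ k = a ^ k * g := (Commute.zpow_right (mem_centralizer_singleton_iff.1 hg) k).eq
        rw [show φ (jM (1, 2, 0)) = g⁻¹ * a ^ k * g by rw [hk]; group, mul_assoc, ← hgk, inv_mul_cancel_left]⟩
      obtain ⟨n, hn⟩ : ∃ n : Fin 3, a ^ n.val = φ (jM (1, 2, 0)) := by
        obtain ⟨m, hm⟩ := this
        refine ⟨⟨(m % 3).toNat, by omega⟩, ?_⟩
        rw [← hm, ← zpow_natCast, Int.toNat_of_nonneg (by omega)]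
        exact (zpow_eq_zpow_emod m (n := 3) (by
          have h3 : a ^ 3 = 1 := D.order ▸ pow_orderOf_eq_one a
          exact_mod_cast h3)).symm
      rw [← D.a_eq, ← (D.map_pow (inL_all _) _).2] at hn
      exact (by decide +kernel : ∀ n : Fin 3, jM (1, 1, 1) ^ n.val ≠ jM (1, 2, 0)) n
        (D.inj _ _ (inL_all _) (inL_all _) hn)
    have hF : Nat.card (centralizer ({a} : Set G)) ≤ 18 * 27 := by
      have hsum : ∑ q, Nat.card {g : centralizer ({a} : Set G) // F g = q} ≤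
          ∑ q : (ZMod 3 × ZMod 3) × ZMod 3, (if q.1.1 = 0 then 0 else 27) := by
        refine Finset.sum_le_sum fun q _ => ?_
        split_ifs with hq
        · rw [Nat.le_zero, Nat.card_eq_zero]
          exact Or.inl ⟨fun g => h3 g.1 (by
            have e : s1 g.1.1 g.1.2 = q.1.1 := congrArg (fun q => q.1.1) g.2
            rw [e, hq])⟩
        · exact hfib q
      rw [D.card]
      refine this.trans (hsum.trans ?_)
      decide +kernel
    rw [D.card] at hF
    norm_num at hF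
  obtain ⟨c, hc, hcJ⟩ := hex
  have hR' : c * φ (jM (1, 2, 0)) * c⁻¹ ∈ R :=
    (mem_normalizer_iff.1 (D.norm hc) _).1 (D.plane_R _ (by decide +kernel))
  have hmemR : ∀ x ∈ R, ∃ (v : V3) (w : Wt), v.1 + v.2.1 + v.2.2 = 0 ∧
      (w = 1 ∨ w = sigW ∨ w = sigW * sigW) ∧ φ ⟨v, w⟩ = x := by
    have hinj : Function.Injective (fun q : {v : V3 // v.1 + v.2.1 + v.2.2 = 0} × Fin 3 =>
        (⟨φ (jM q.1.1) * φ (wM sigW) ^ q.2.val, mul_mem (D.plane_R _ q.1.2)
          (pow_mem hsR _)⟩ : R)) := by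
      intro p q e
      have e' := congrArg Subtype.val e
      simp only [← (D.map_pow (inL_all (wM sigW)) _).2, ← D.hmul] at e'
      have h := D.inj _ _ (inL_all _) (inL_all _) e'
      have key : ∀ v v' : V3, ∀ i i' : Fin 3, jM v * wM sigW ^ i.val = jM v' * wM sigW ^ i'.val →
          v = v' ∧ i = i' := by decide +kernel
      obtain ⟨h1, h2⟩ := key _ _ _ _ h
      exact Prod.ext (Subtype.ext h1) h2
    have hbij := (Nat.bijective_iff_injective_and_card _).2 ⟨hinj, by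
      rw [D.card_R, Nat.card_eq_fintype_card]; decide +kernel⟩
    intro x hx
    obtain ⟨⟨⟨v, hv⟩, i⟩, e⟩ := hbij.2 ⟨x, hx⟩
    obtain ⟨w, hw, e'⟩ : ∃ w, (w = 1 ∨ w = sigW ∨ w = sigW * sigW) ∧ jM v * wM sigW ^ i.val = ⟨v, w⟩ :=
      (by decide +kernel : ∀ v : V3, ∀ i : Fin 3,
        ∃ w, (w = 1 ∨ w = sigW ∨ w = sigW * sigW) ∧ jM v * wM sigW ^ i.val = ⟨v, w⟩) v i
    refine ⟨v, w, hv, hw, ?_⟩
    rw [← e', D.hmul, (D.map_pow (inL_all _) _).2]
    exact congrArg Subtype.val e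
  obtain ⟨v, w, hv, hw, e⟩ := hmemR _ hR'
  have hw' : w = sigW ∨ w = sigW * sigW := hw.resolve_left fun h => hcJ (by
    subst h; rw [← e]; exact D.memj v)
  obtain ⟨p, hp, hpx⟩ := htab ⟨v, w⟩ hw' hv
  refine ⟨φ p * c, mul_mem (mem_centralizer_singleton_iff.2 (by
    rw [← D.a_eq, ← D.hmul, ← D.hmul, hcent p hp])) hc, ?_⟩
  rw [show φ p * c * φ (jM (1, 2, 0)) * (φ p * c)⁻¹ = φ p * (c * φ (jM (1, 2, 0)) * c⁻¹) * (φ p)⁻¹ by group,
    ← e, ← D.conj' (inL_all _) (inL_all _), hpx]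

theorem cent_sig_inv {g : G} (h1 : g * φ (wM sigW) = φ (wM sigW) * g)
    (h2 : g * φ (wM invW) = φ (wM invW) * g) (hk : ∃ k : ℕ, g ^ 3 ^ k = 1) :
    g ∈ zpowers (φ (wM sigW)) := by
  obtain ⟨-, -, -, -, hsj, hja, hj2⟩ := sig_facts
  obtain ⟨c, hc, hcs⟩ := D.exists_sig_conj
  have hw : ∃ w : Wt, wact w (1, 1, 0) = (1, 2, 0) := by decide +kernel
  obtain ⟨w0, hw0⟩ := hw
  have hconj : ∀ x y : G, c⁻¹ * x * c * (c⁻¹ * y * c) = c⁻¹ * (x * y) * c := fun x y => by group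
  have hb : φ (jM (1, 2, 0)) = c⁻¹ * φ (wM sigW) * c := by rw [← hcs]; group
  -- the images in the normalizer
  have hgN : c⁻¹ * g * c ∈ normalizer (J : Set G) := D.cent_two w0 hw0 (by rw [hb, hconj, hconj, h1])
  have hjN : c⁻¹ * φ (wM invW) * c ∈ normalizer (J : Set G) := D.cent_two w0 hw0 (by
    rw [hb, hconj, hconj, ← D.hmul, ← D.hmul, hsj])
  obtain ⟨p, hp, hpe⟩ := D.norm_eq _ hgN
  obtain ⟨q, hq, hqe⟩ := D.norm_eq _ hjN
  have hgb : φ p * φ (jM (1, 2, 0)) = φ (jM (1, 2, 0)) * φ p := by rw [hpe, hb, hconj, hconj, h1]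
  obtain ⟨k, hk⟩ := hk
  have hpw : p.w = 1 := by
    refine stab_two p.w (D.fix_of_comm hp hgb) (D.w_cube hp (k := k) ?_)
    rw [hpe, show c⁻¹ * g * c = c⁻¹ * g * c⁻¹⁻¹ by rw [inv_inv], conj_pow, hk, mul_one, mul_inv_cancel]
  obtain ⟨v, hv⟩ := (D.memJ _).1 (D.mem_of_w hpw)
  have hca : c * a = a * c := mem_centralizer_singleton_iff.1 hc
  have hca' : c⁻¹ * a * c = a := by rw [mul_assoc, ← hca, inv_mul_cancel_left]
  have hqa : wact q.w (1, 1, 1) = -(1, 1, 1) := by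
    refine D.jinj ?_
    have hj' : φ (wM invW) * a * (φ (wM invW))⁻¹ = a⁻¹ := by
      rw [inv_eq_of_mul_eq_one_left (show φ (wM invW) * φ (wM invW) = 1 by rw [← D.hmul, hj2, D.one]),
        ← D.a_eq, ← D.hmul, ← D.hmul, hja, D.hinv]
    rw [← D.act' hq, D.jneg, D.a_eq, hqe, show c⁻¹ * φ (wM invW) * c * a * (c⁻¹ * φ (wM invW) * c)⁻¹ =
      c⁻¹ * (φ (wM invW) * (c * a * c⁻¹) * (φ (wM invW))⁻¹) * c by group,
      show c * a * c⁻¹ = a by rw [hca, mul_inv_cancel_right], hj']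
    conv_rhs => rw [← hca']
    group
  have hqb : wact q.w (1, 2, 0) = (1, 2, 0) := D.fix_of_comm hq (by
    rw [hqe, hb, hconj, hconj, ← D.hmul, ← D.hmul, hsj])
  have hqv : wact q.w v = v := D.fix_of_comm hq (by rw [hv, hqe, hpe, hconj, hconj, h2])
  have hg : g = c * φ (jM v) * c⁻¹ := by rw [hv, hpe]; group
  rcases inverting_two q.w hqa hqb v hqv with e | e | e <;> rw [hg, e]
  · rw [D.jzero, mul_one, mul_inv_cancel]
    exact one_mem _
  · rw [hcs]; exact mem_zpowers _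
  · rw [D.jneg, show c * (φ (jM (1, 2, 0)))⁻¹ * c⁻¹ = (c * φ (jM (1, 2, 0)) * c⁻¹)⁻¹ by group, hcs]
    exact inv_mem (mem_zpowers _)

theorem sylow_refl : SylowAt (centralizer ({φ (wM nCw)} : Set G)) (J ⊓ centralizer ({φ (wM nCw)} : Set G)) :=
  D.sylow_plane (inL_all _) refl_plane.1.1 refl_plane.1.2.1 refl_plane.1.2.2
    fun w _ hc h3 hne => absurd (comm_three _ (Or.inl rfl) w hc h3) hne

theorem sylow_rho : SylowAt (centralizer ({φ (wM rhoW)} : Set G)) (J ⊓ centralizer ({φ (wM rhoW)} : Set G)) :=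
  D.sylow_plane (inL_all _) refl_plane.2.1 refl_plane.2.2.1 refl_plane.2.2.2
    fun w _ hc h3 hne => absurd (comm_three _ (Or.inr (Or.inl rfl)) w hc h3) hne

theorem sylow_zp : SylowAt (centralizer ({φ (wM zpW)} : Set G)) (J ⊓ centralizer ({φ (wM zpW)} : Set G)) :=
  D.sylow_line (inL_all _) line_facts.2.1 line_facts.2.2
    (fun g _ hg _ => D.cent_two 1 (wact_one _) hg)
    fun w _ hc h3 hne => absurd (comm_three _ (Or.inr (Or.inr (Or.inr rfl))) w hc h3) hne

/-- The Sylow `3`-subgroup of the centralizer of the inversion. -/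
theorem sylow_inv : SylowAt (centralizer ({φ (wM invW)} : Set G)) (zpowers (φ (wM sigW))) := by
  obtain ⟨-, -, hs3, hs1, hsj, -, -⟩ := sig_facts
  haveI : Fact (Nat.Prime 3) := ⟨Nat.prime_three⟩
  have hso : orderOf (φ (wM sigW)) = 3 := orderOf_eq_prime
    (by rw [← (D.map_pow (inL_all _) 3).2, pow_succ, pow_two, hs3, D.one])
    (fun e => hs1 (D.eq_one (inL_all _) e))
  refine SylowAt.of_normalizer (zpowers_le.2 (mem_centralizer_singleton_iff.2 (by
    rw [← D.hmul, ← D.hmul, hsj]))) (IsPGroup.of_card (n := 1) (by rw [Nat.card_zpowers, hso, pow_one])) ?_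
  intro g hg hgn hk
  refine D.cent_sig_inv ?_ (mem_centralizer_singleton_iff.1 hg) hk
  obtain ⟨k, hk⟩ := hk
  obtain ⟨m, hm⟩ := mem_zpowers_iff.1 ((mem_normalizer_iff.1 hgn _).1 (mem_zpowers (φ (wM sigW))))
  rw [zpow_eq_zpow_emod m (n := 3) (by
    have h3 : φ (wM sigW) ^ 3 = 1 := hso ▸ pow_orderOf_eq_one _
    exact_mod_cast h3)] at hm
  have h0 := Int.emod_nonneg m (show (3 : ℤ) ≠ 0 by norm_num)
  have h1 := Int.emod_lt_of_pos m (show (0 : ℤ) < 3 by norm_num)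
  rcases (show m % 3 = 0 ∨ m % 3 = 1 ∨ m % 3 = 2 by omega) with e | e | e <;> rw [e] at hm
  · rw [zpow_zero, eq_comm, conj_eq_one_iff] at hm
    rw [hm]; simp
  · rw [zpow_one] at hm
    exact mul_inv_eq_iff_eq_mul.1 hm.symm
  · refine no_odd_neg hk (hm.symm.trans (eq_inv_of_mul_eq_one_left ?_))
    rw [zpow_two, ← D.hmul, ← D.hmul, hs3, D.one]

theorem refl_ne_rho (g : G) : g * φ (wM nCw) * g⁻¹ ≠ φ (wM rhoW) :=
  D.not_conj_plane (inL_all _) (inL_all _) refl_plane.1.1 refl_plane.1.2.1 refl_plane.1.2.2 D.sylow_refl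
    D.sylow_rho (fun w _ => not_conj_facts.1 w) g

theorem refl_ne_zp (g : G) : g * φ (wM nCw) * g⁻¹ ≠ φ (wM zpW) :=
  D.not_conj_plane (inL_all _) (inL_all _) refl_plane.1.1 refl_plane.1.2.1 refl_plane.1.2.2 D.sylow_refl
    D.sylow_zp (fun w _ => not_conj_facts.2.2.1 w) g

theorem plane_ne_inv {u v : V3} (huv : Indep u v) {p : Mn} (hu : wact p.w u = u) (hv : wact p.w v = v)
    (hS : SylowAt (centralizer ({φ p} : Set G)) (J ⊓ centralizer ({φ p} : Set G))) (g : G) :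
    g * φ p * g⁻¹ ≠ φ (wM invW) := by
  intro he
  have hmap : ∀ c, c ∈ centralizer ({φ p} : Set G) → g * c * g⁻¹ ∈ centralizer ({φ (wM invW)} : Set G) :=
    fun c hc => by
      rw [← he]
      refine mem_centralizer_singleton_iff.2 ?_
      calc g * c * g⁻¹ * (g * φ p * g⁻¹) = g * (c * φ p) * g⁻¹ := by group
        _ = g * (φ p * c) * g⁻¹ := by rw [mem_centralizer_singleton_iff.1 hc]
        _ = _ := by group
  have hmap' : ∀ c, c ∈ centralizer ({φ (wM invW)} : Set G) → g⁻¹ * c * g ∈ centralizer ({φ p} : Set G) :=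
    fun c hc => by
      rw [← he] at hc
      refine mem_centralizer_singleton_iff.2 ?_
      calc g⁻¹ * c * g * φ p = g⁻¹ * (c * (g * φ p * g⁻¹)) * g := by group
        _ = g⁻¹ * ((g * φ p * g⁻¹) * c) * g := by rw [mem_centralizer_singleton_iff.1 hc]
        _ = _ := by group
  obtain ⟨c, hc, hS2⟩ := hS.conj_eq D.sylow_inv hmap hmap'
  have hmemu := (hS2 _).1 ((D.mem_fix (inL_all _)).2 ⟨u, rfl, hu⟩)
  have hmemv := (hS2 _).1 ((D.mem_fix (inL_all _)).2 ⟨v, rfl, hv⟩)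
  classical
  have h9 : 9 ≤ (Finset.univ.filter fun x : V3 =>
      ∃ i : Fin 3, c * g * φ (jM x) * (c * g)⁻¹ = φ (wM sigW) ^ i.val).card := by
    refine fix_card_of_indep huv fun q => ?_
    have hn : ∀ (n : ℕ) (x : V3), φ (jM (n • x)) = φ (jM x) ^ n := fun n x => by
      induction n with
      | zero => rw [zero_smul, pow_zero, D.jzero]
      | succ n ih => rw [succ_nsmul, D.jadd, ih, pow_succ]
    have hm : c * g * φ (jM (comb2 u v q)) * (c * g)⁻¹ ∈ zpowers (φ (wM sigW)) := by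
      rw [comb2_eq, D.jadd, hn, hn,
        show c * g * (φ (jM u) ^ q.1.val * φ (jM v) ^ q.2.val) * (c * g)⁻¹ =
          c * g * φ (jM u) ^ q.1.val * (c * g)⁻¹ * (c * g * φ (jM v) ^ q.2.val * (c * g)⁻¹) by group,
        ← conj_pow, ← conj_pow]
      exact mul_mem (pow_mem hmemu _) (pow_mem hmemv _)
    obtain ⟨m, hm⟩ := mem_zpowers_iff.1 hm
    refine ⟨⟨(m % 3).toNat, by omega⟩, ?_⟩
    rw [← hm, ← zpow_natCast, Int.toNat_of_nonneg (by omega)]
    refine zpow_eq_zpow_emod m (n := 3) ?_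
    have h3 : φ (wM sigW) ^ 3 = 1 := by
      rw [← (D.map_pow (inL_all _) 3).2, pow_succ, pow_two, sig_facts.2.2.1, D.one]
    exact_mod_cast h3
  have hle : (Finset.univ.filter fun x : V3 =>
      ∃ i : Fin 3, c * g * φ (jM x) * (c * g)⁻¹ = φ (wM sigW) ^ i.val).card ≤ 3 := by
    calc _ ≤ (Finset.univ.image fun i : Fin 3 => φ (wM sigW) ^ i.val).card := by
          refine Finset.card_le_card_of_injOn (fun x => c * g * φ (jM x) * (c * g)⁻¹) (fun x hx => ?_) ?_
          · obtain ⟨i, hi⟩ := (Finset.mem_filter.1 hx).2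
            exact Finset.mem_coe.2 (Finset.mem_image.2 ⟨i, Finset.mem_univ _, hi.symm⟩)
          · intro x _ y _ e
            exact D.jinj (mul_left_cancel (mul_right_cancel e))
      _ ≤ 3 := Finset.card_image_le.trans (by simp)
  omega

theorem refl_ne_inv (g : G) : g * φ (wM nCw) * g⁻¹ ≠ φ (wM invW) :=
  D.plane_ne_inv refl_plane.1.1 refl_plane.1.2.1 refl_plane.1.2.2 D.sylow_refl g

theorem rho_ne_inv (g : G) : g * φ (wM rhoW) * g⁻¹ ≠ φ (wM invW) :=
  D.plane_ne_inv refl_plane.2.1 refl_plane.2.2.1 refl_plane.2.2.2 D.sylow_rho g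

section Big

variable {K : Subgroup G} (S6 : SixData J φ K) {f : P6 →* G} (F : SixMap φ K f)
include S6 F

/-- The centralizer of the three-cycle. -/
theorem cent_e3 {g : G} (hg : g * φ (jM (0, 0, 1)) = φ (jM (0, 0, 1)) * g) :
    ∃ (π : P6) (i : Fin 3), g = f π * φ (jM (0, 0, 1)) ^ i.val := by
  obtain ⟨k, hk, s, hs, rfl⟩ := S6.hdec g (mem_centralizer_singleton_iff.2 hg)
  obtain ⟨v, rfl⟩ := (D.memJ s).1 hs
  obtain ⟨π, hπ⟩ := (F.range k).1 hk
  obtain ⟨π', hπ'⟩ := (F.range _).1 ((S6.mem_plane (v.1, v.2.1, 0)).2 rfl)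
  refine ⟨π * π', ⟨v.2.2.val, ZMod.val_lt _⟩, ?_⟩
  rw [map_mul, hπ, hπ', mul_assoc, ← (D.map_pow (inL_all _) _).2, ← D.hmul]
  congr 2
  exact (by decide +kernel : ∀ v : V3, jM v = jM (v.1, v.2.1, 0) * jM (0, 0, 1) ^ v.2.2.val) v

theorem sylow_z : SylowAt (centralizer ({φ (wM zW)} : Set G)) (J ⊓ centralizer ({φ (wM zW)} : Set G)) := by
  obtain ⟨hw, hwM, hz8⟩ := six_z
  refine D.sylow_line (inL_all _) line_facts.1.1 line_facts.1.2 (fun g hgz hg hk => ?_)
    fun w _ hc h3 hne => absurd (comm_three _ (Or.inr (Or.inr (Or.inl rfl))) w hc h3) hne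
  obtain ⟨π, i, rfl⟩ := D.cent_e3 S6 F hg
  obtain ⟨k, hk⟩ := hk
  have hz : φ (wM zW) = f (Equiv.swap 1 2 * Equiv.swap 4 5) := by rw [← hw, F.agree, hwM]
  have hce : Commute (f π) (φ (jM (0, 0, 1)) ^ i.val) :=
    (show Commute (φ (jM (0, 0, 1))) (f π) from F.c π).symm.pow_right _
  have hcz : Commute (φ (jM (0, 0, 1)) ^ i.val) (φ (wM zW)) := by
    rw [hz]
    exact (show Commute (φ (jM (0, 0, 1))) (f _) from F.c _).pow_left _
  have hπz : π * (Equiv.swap 1 2 * Equiv.swap 4 5) = Equiv.swap 1 2 * Equiv.swap 4 5 * π := by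
    refine F.inj ?_
    rw [map_mul f π, map_mul f _ π, ← hz]
    refine mul_right_cancel (b := φ (jM (0, 0, 1)) ^ i.val) ?_
    rw [mul_assoc, ← hcz.eq, ← mul_assoc, hgz, mul_assoc]
  have h8 := hz8 π hπz
  have hπ : π = 1 := by
    have hfk : f π ^ 3 ^ (k + 1) = 1 := by
      have h : (f π * φ (jM (0, 0, 1)) ^ i.val) ^ 3 ^ (k + 1) = 1 := by
        rw [pow_succ, pow_mul, hk, one_pow]
      have he : (φ (jM (0, 0, 1)) ^ i.val) ^ 3 ^ (k + 1) = 1 := by
        rw [← pow_mul, pow_succ', mul_left_comm, pow_mul, D.jcube, one_pow]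
      rw [hce.mul_pow, he, mul_one] at h
      exact h
    rw [← _root_.map_pow] at hfk
    have h3 : π ^ 3 ^ (k + 1) = 1 := F.inj (by rw [hfk, map_one])
    exact orderOf_eq_one_iff.1 (Nat.eq_one_of_dvd_coprimes
      (Nat.Coprime.pow (k + 1) 3 (show Nat.Coprime 3 2 by norm_num))
      (orderOf_dvd_of_pow_eq_one h3) (orderOf_dvd_of_pow_eq_one h8))
  rw [hπ, map_one, one_mul]
  exact le_normalizer (pow_mem (D.memj _) _)

theorem refl_ne_z (g : G) : g * φ (wM nCw) * g⁻¹ ≠ φ (wM zW) :=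
  D.not_conj_plane (inL_all _) (inL_all _) refl_plane.1.1 refl_plane.1.2.1 refl_plane.1.2.2 D.sylow_refl
    (D.sylow_z S6 F) (fun w _ => not_conj_facts.2.1 w) g

theorem rho_ne_z (g : G) : g * φ (wM rhoW) * g⁻¹ ≠ φ (wM zW) :=
  D.not_conj_plane (inL_all _) (inL_all _) refl_plane.2.1 refl_plane.2.2.1 refl_plane.2.2.2 D.sylow_rho
    (D.sylow_z S6 F) (fun w _ => not_conj_facts.2.2.2.1 w) g

theorem z_ne_inv (g : G) : g * φ (wM zW) * g⁻¹ ≠ φ (wM invW) := by
  intro he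
  have hS := D.sylow_z S6 F
  have hmap : ∀ c, c ∈ centralizer ({φ (wM zW)} : Set G) → g * c * g⁻¹ ∈ centralizer ({φ (wM invW)} : Set G) :=
    fun c hc => by
      rw [← he]
      refine mem_centralizer_singleton_iff.2 ?_
      calc g * c * g⁻¹ * (g * φ (wM zW) * g⁻¹) = g * (c * φ (wM zW)) * g⁻¹ := by group
        _ = g * (φ (wM zW) * c) * g⁻¹ := by rw [mem_centralizer_singleton_iff.1 hc]
        _ = _ := by group
  have hmap' : ∀ c, c ∈ centralizer ({φ (wM invW)} : Set G) → g⁻¹ * c * g ∈ centralizer ({φ (wM zW)} : Set G) :=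
    fun c hc => by
      rw [← he] at hc
      refine mem_centralizer_singleton_iff.2 ?_
      calc g⁻¹ * c * g * φ (wM zW) = g⁻¹ * (c * (g * φ (wM zW) * g⁻¹)) * g := by group
        _ = g⁻¹ * ((g * φ (wM zW) * g⁻¹) * c) * g := by rw [mem_centralizer_singleton_iff.1 hc]
        _ = _ := by group
  obtain ⟨c, hc, hS2⟩ := hS.conj_eq D.sylow_inv hmap hmap'
  obtain ⟨m, hm⟩ := mem_zpowers_iff.1 ((hS2 _).1 ((D.mem_fix (inL_all _)).2 ⟨_, rfl, line_facts.1.1⟩))
  obtain ⟨d, hd, hds⟩ := D.exists_sig_conj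
  have h3 : φ (wM sigW) ^ 3 = 1 := by
    rw [← (D.map_pow (inL_all _) 3).2, pow_succ, pow_two, sig_facts.2.2.1, D.one]
  rw [zpow_eq_zpow_emod m (n := 3) (by exact_mod_cast h3)] at hm
  have hne : φ (jM (0, 0, 1)) ≠ 1 := fun e =>
    (by decide +kernel : ((0, 0, 1) : V3) ≠ 0) (D.jinj (e.trans D.jzero.symm))
  have h0 := Int.emod_nonneg m (show (3 : ℤ) ≠ 0 by norm_num)
  have h1 := Int.emod_lt_of_pos m (show (0 : ℤ) < 3 by norm_num)
  have hkey : ∀ v : V3, φ (jM v) = φ (jM (1, 2, 0)) ∨ φ (jM v) = φ (jM (-(1, 2, 0))) →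
      c * g * φ (jM (0, 0, 1)) * (c * g)⁻¹ = d * φ (jM v) * d⁻¹ → False := by
    intro v hv e
    have he' : d⁻¹ * (c * g) * φ (jM (0, 0, 1)) * (d⁻¹ * (c * g))⁻¹ = φ (jM v) := by
      rw [show d⁻¹ * (c * g) * φ (jM (0, 0, 1)) * (d⁻¹ * (c * g))⁻¹ =
        d⁻¹ * (c * g * φ (jM (0, 0, 1)) * (c * g)⁻¹) * d by group, e]
      group
    obtain ⟨p, -, hp⟩ := D.fus _ _ _ he'
    rcases hv with h | h <;> rw [D.jinj h] at hp
    · exact (weight_facts.2.2 p.w).1 hp
    · exact (weight_facts.2.2 p.w).2 hp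
  rcases (show m % 3 = 0 ∨ m % 3 = 1 ∨ m % 3 = 2 by omega) with e | e | e <;> rw [e] at hm
  · rw [zpow_zero, eq_comm, conj_eq_one_iff] at hm
    exact hne hm
  · refine hkey _ (Or.inl rfl) ?_
    rw [hds, ← hm, zpow_one]
  · refine hkey _ (Or.inr rfl) ?_
    rw [D.jneg, show d * (φ (jM (1, 2, 0)))⁻¹ * d⁻¹ = (d * φ (jM (1, 2, 0)) * d⁻¹)⁻¹ by group, hds, ← hm,
      zpow_two]
    refine eq_inv_of_mul_eq_one_left ?_
    rw [← pow_two, ← pow_succ, h3]

end Big

end Loc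

end Cfsg.Agent.SpThreeCent
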