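import Cfsg.Agent.Lib.SpThreeCent.Classes
import Cfsg.Agent.Lib.NineSym.Small

/-!
# The transposition across two blocks commutes with its shift

`d` is the transposition `(03)` of the copy of `Sym 6` and `γ = σ d σ⁻¹`.  If every element of `C(a)`
commuting with `d` centralized `e₃`, then `C(T₀)` would normalize `⟨e₃⟩` for `T₀ = ⟨(03),(14),(25)⟩`, and
`(36)`, `(78)` would give fusion in a Sylow `2`-subgroup of the centralizer of `(12)` and `(45)`.  So
`C(a) ∩ C(d)` covers `C(a)/R` and moves an element of the plane onto `σ`.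
-/

set_option autoImplicit false
set_option linter.style.haveILetI false
set_option linter.unusedSectionVars false
set_option maxRecDepth 100000
set_option synthInstance.maxSize 10000

namespace Cfsg.Agent.SpThreeCent

open Subgroup
open Cfsg.Agent.NineSym
open Cfsg.Agent.PSpAmalgam (SL3 negOne)
open Cfsg.Agent.ExtraTwoNine.CoordPerm (P6)
open SymSix (cb cc ct cw)

/-- The transposition across the two blocks. -/
def t03 : P6 := Equiv.swap 0 3

theorem sl_gen : ∀ x : SL3, x ^ 3 = 1 → x ≠ 1 → ∀ y : SL3, x * y ≠ y * x →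
    (Finset.univ.image fun q : Bool × Fin 3 × Fin 3 =>
      (if q.1 then negOne else 1) * x ^ q.2.1.val * (y * x * y⁻¹) ^ q.2.2.val).card = 18 := by
  decide +kernel

theorem sl_invol : ∀ s : SL3, s * s = 1 → s = 1 ∨ s = negOne := by decide +kernel

theorem cross_six :
    (cb * cc * t03 * (cb * cc)⁻¹ = Equiv.swap 1 4 ∧
      cb * cc * Equiv.swap 1 4 * (cb * cc)⁻¹ = Equiv.swap 2 5 ∧
      cb * cc * Equiv.swap 2 5 * (cb * cc)⁻¹ = t03) ∧
    (t03 * cw = cw * t03 ∧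
      t03 * (cb * cc * cc * t03 * (cb * cc * cc)⁻¹) = cb * cc * cc * t03 * (cb * cc * cc)⁻¹ * t03 ∧
      t03 * cb ≠ cb * t03 ∧ ∀ k : Fin 3, (cb * cc) ^ k.val * t03 = t03 * (cb * cc) ^ k.val → k = 0) ∧
    (word6 (0, 0, 0, 1) = Equiv.swap 1 2 ∧ wordM (0, 0, 0, 1) = wM nAw) ∧
    (∃ q, word6 q = cw ∧ wordM q = wM rhoW) ∧ (∃ q, word6 q = Equiv.swap 4 5 ∧ wordM q = wM nBw) ∧
    (∃ q, word6 q = cb * cc ∧ wordM q = jM (1, 1, 0)) ∧
    (∃ q, word6 q = cb * cc * cc ∧ wordM q = jM (1, 2, 0)) ∧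
    ∃ q, word6 q = Equiv.swap 1 2 * Equiv.swap 4 5 ∧ wordM q = wM zW := by
  decide +kernel

theorem klein_six :
    (Fintype.card {π : P6 // π * t03 = t03 * π ∧ π * Equiv.swap 1 4 = Equiv.swap 1 4 * π ∧
      π * Equiv.swap 2 5 = Equiv.swap 2 5 * π} = 8) ∧
    (∀ π : P6, π * t03 = t03 * π → π * Equiv.swap 1 4 = Equiv.swap 1 4 * π →
      π * Equiv.swap 2 5 = Equiv.swap 2 5 * π → π * π = 1) ∧
    (Equiv.swap 2 4 * t03 * Equiv.swap 2 4 = t03 ∧
      Equiv.swap 2 4 * Equiv.swap 1 4 * Equiv.swap 2 4 = (Equiv.swap 1 2 : P6) ∧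
      Equiv.swap 2 4 * Equiv.swap 2 5 * Equiv.swap 2 4 = (Equiv.swap 4 5 : P6) ∧
      (Equiv.swap 2 4 : P6) * Equiv.swap 2 4 = 1) ∧
    (t03 * Equiv.swap 1 2 = Equiv.swap 1 2 * t03 ∧ t03 * Equiv.swap 4 5 = Equiv.swap 4 5 * t03 ∧
      (Equiv.swap 1 2 : P6) * Equiv.swap 4 5 = Equiv.swap 4 5 * Equiv.swap 1 2 ∧
      t03 ≠ 1 ∧ t03 ≠ Equiv.swap 1 2 ∧ t03 ≠ Equiv.swap 4 5 ∧ t03 * t03 = 1) ∧
    (∀ π : P6, π * t03 = t03 * π → π * Equiv.swap 1 2 = Equiv.swap 1 2 * π →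
      π * Equiv.swap 4 5 = Equiv.swap 4 5 * π →
      π * π = 1 ∧ (π = 1 ∨ ((π = t03 ∨ π = Equiv.swap 1 2 ∨ π = Equiv.swap 4 5) ∧
          ∃ c : P6, c * π * c⁻¹ = Equiv.swap 1 2) ∨
        (∃ c : P6, c * π * c⁻¹ = Equiv.swap 1 2 * Equiv.swap 4 5) ∨ ∃ c : P6, c * π * c⁻¹ = cw)) ∧
    (∃ c : P6, c * t03 * c⁻¹ = Equiv.swap 4 5 ∧ c * Equiv.swap 1 2 = Equiv.swap 1 2 * c) ∧
    ∃ c : P6, c * (t03 * Equiv.swap 1 2 * Equiv.swap 4 5) * c⁻¹ = cw := by
  decide +kernel

theorem cross_model :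
    (∀ (v : V3) (i : Fin 3), v.1 + v.2.1 + v.2.2 = 0 →
      wM rhoW * (jM v * wM sigW ^ i.val) = jM v * wM sigW ^ i.val * wM rhoW →
      ∃ k : Fin 3, jM v * wM sigW ^ i.val = jM (1, 1, 1) ^ k.val) ∧
    (wM sigW * wM nCw * (wM sigW)⁻¹ = wM nAw ∧ wM sigW * wM nAw * (wM sigW)⁻¹ = wM nBw ∧
      wM sigW * wM nBw * (wM sigW)⁻¹ = wM nCw ∧
      wM sigW * jM (0, 1, 0) * (wM sigW)⁻¹ = jM (0, 0, 1) ∧
      wM sigW * jM (0, 0, 1) * (wM sigW)⁻¹ = jM (1, 0, 0)) ∧
    (wM rhoW * jM (1, 1, 1) = jM (1, 1, 1) * wM rhoW ∧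
      wM rhoW * jM (1, 2, 0) * (wM rhoW)⁻¹ = (jM (1, 2, 0))⁻¹ ∧
      wM rhoW * wM sigW * (wM rhoW)⁻¹ = (wM sigW)⁻¹ ∧ wM rhoW * wM rhoW = 1 ∧ wM rhoW ≠ 1 ∧
      jM (1, 1, 0) * jM (0, 0, 1) = jM (1, 1, 1) ∧ wM nCw * wM nCw = 1 ∧
      wM nCw * jM (0, 0, 1) * (wM nCw)⁻¹ = (jM (0, 0, 1))⁻¹ ∧ wM nCw ≠ 1) ∧
    (wM nAw * wM nCw = wM sigW * (wM sigW * wM zW * (wM sigW)⁻¹) * (wM sigW)⁻¹ ∧
      wM zW * wM nCw = wM invW ∧ wM rhoW * wM nCw = wM zpW ∧
      wM nAw * wM nBw * wM nCw = wM invW) ∧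
    (∀ w : Wt, wact w (1, 1, 0) = (1, 1, 0) →
      wact w (0, 0, 1) = (0, 0, 1) ∨ wact w (0, 0, 1) = -(0, 0, 1)) ∧
    ∀ x : V3, x.1 = x.2.1 → x ≠ 0 → x = (0, 0, x.2.2) ∨
      ∃ (k : Fin 3) (y : V3), x = k.val • y ∧ y = k.val • x ∧ (y = (1, 1, 0) ∨ y = (1, 1, 1) ∨ y = (1, 1, 2)) := by
  decide +kernel

theorem cross_aux :
    ((0, 0, 1) : V3) ≠ 0 ∧
    (∀ v : V3, v.1 = v.2.1 → ∃ i j : Fin 3, v = i.val • ((1, 1, 0) : V3) + j.val • ((0, 0, 1) : V3)) ∧
    (∀ c : ZMod 3, jM (0, 0, c) = jM (0, 0, 1) ^ c.val) ∧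
    (∀ c : ZMod 3, c ≠ 0 → c.val * c.val % 3 = 1) ∧
    jM (wact (wM nCw).w (1, 1, 2)) = jM (1, 1, 1) ∧
    ∀ π : P6, π * t03 = t03 * π → π * Equiv.swap 1 4 = Equiv.swap 1 4 * π →
      π * Equiv.swap 2 5 = Equiv.swap 2 5 * π → ∃ i j k : Fin 2,
        π = t03 ^ i.val * (Equiv.swap 1 4 : P6) ^ j.val * (Equiv.swap 2 5 : P6) ^ k.val := by
  decide +kernel

theorem mem_normalizer_of_comm {G : Type*} [Group G] {H : Subgroup G} {g : G}
    (h : ∀ t ∈ H, t * g = g * t) : g ∈ normalizer (H : Set G) := by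
  refine mem_normalizer_iff.2 fun t => ⟨fun ht => ?_, fun ht => ?_⟩
  · rwa [← h t ht, mul_inv_cancel_right]
  · have h2 := h _ ht
    rw [inv_mul_cancel_right] at h2
    rwa [show g * t * g⁻¹ = t from (mul_left_cancel h2).symm] at ht

variable {G : Type*} [Group G] [Finite G] {a : G} {R J : Subgroup G} {φ : Mn → G}

namespace Loc

variable (D : Loc a R J true true φ)
include D

theorem hconjM (p q : Mn) : φ p * φ q * (φ p)⁻¹ = φ (p * q * p⁻¹) :=
  (D.conj' (inL_all _) (inL_all _)).symm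

theorem jsmul (n : ℕ) (x : V3) : φ (jM (n • x)) = φ (jM x) ^ n := by
  induction n with
  | zero => rw [zero_smul, pow_zero, D.jzero]
  | succ n ih => rw [succ_nsmul, D.jadd, ih, pow_succ]

theorem R_elems {x : G} (hx : x ∈ R) :
    ∃ (v : V3) (i : Fin 3), v.1 + v.2.1 + v.2.2 = 0 ∧ x = φ (jM v * wM sigW ^ i.val) := by
  have hmem : ∀ (v : V3) (i : Fin 3), v.1 + v.2.1 + v.2.2 = 0 → φ (jM v * wM sigW ^ i.val) ∈ R := fun v i hv => by
    rw [D.hmul, (D.map_pow (inL_all _) _).2]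
    exact mul_mem (D.plane_R _ hv) (pow_mem D.shift_R _)
  have hinj : Function.Injective (fun q : {v : V3 // v.1 + v.2.1 + v.2.2 = 0} × Fin 3 =>
      (⟨φ (jM q.1.1 * wM sigW ^ q.2.val), hmem _ _ q.1.2⟩ : R)) := by
    intro p q e
    have h := D.inj _ _ (inL_all _) (inL_all _) (congrArg Subtype.val e)
    have key : ∀ v v' : V3, ∀ i i' : Fin 3, jM v * wM sigW ^ i.val = jM v' * wM sigW ^ i'.val →
        v = v' ∧ i = i' := by decide +kernel
    obtain ⟨h1, h2⟩ := key _ _ _ _ h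
    exact Prod.ext (Subtype.ext h1) h2
  have hbij := (Nat.bijective_iff_injective_and_card _).2 ⟨hinj, by
    rw [D.card_R, Nat.card_eq_fintype_card]; decide +kernel⟩
  obtain ⟨⟨⟨v, hv⟩, i⟩, e⟩ := hbij.2 ⟨x, hx⟩
  exact ⟨v, i, hv, (congrArg Subtype.val e).symm⟩

section Big

variable {K : Subgroup G} (S6 : SixData J φ K) {f : P6 →* G} (F : SixMap φ K f)
include S6 F

theorem e110 : φ (jM (1, 1, 0)) = f (cb * cc) := by
  obtain ⟨-, -, -, -, -, ⟨q, h1, h2⟩, -⟩ := cross_six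
  rw [← h1, F.agree, h2]

theorem f_cw : f cw = φ (wM rhoW) := by
  obtain ⟨-, -, -, ⟨q, h1, h2⟩, -⟩ := cross_six
  rw [← h1, F.agree, h2]

theorem f12 : f (Equiv.swap 1 2) = φ (wM nAw) := by
  obtain ⟨-, -, ⟨h1, h2⟩, -⟩ := cross_six
  rw [← h1, F.agree, h2]

theorem f45 : f (Equiv.swap 4 5) = φ (wM nBw) := by
  obtain ⟨-, -, -, -, ⟨q, h1, h2⟩, -⟩ := cross_six
  rw [← h1, F.agree, h2]

theorem f1245 : f (Equiv.swap 1 2 * Equiv.swap 4 5) = φ (wM zW) := by
  obtain ⟨-, -, -, -, -, -, -, ⟨q, h1, h2⟩⟩ := cross_six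
  rw [← h1, F.agree, h2]

omit S6 in
theorem n_conj (π : P6) : φ (wM nCw) * f π * (φ (wM nCw))⁻¹ = f π := by
  rw [F.nC, mul_inv_cancel_right]

/-- If the centralizer of `a` and `d` fixes `e₃`, then so does that of the three transpositions up to
inversion. -/
theorem cent_klein_small
    (hsm : ∀ g, g * a = a * g → g * f t03 = f t03 * g →
      g * φ (jM (0, 0, 1)) = φ (jM (0, 0, 1)) * g)
    {g : G} (h03 : g * f t03 = f t03 * g) (h14 : g * f (Equiv.swap 1 4) = f (Equiv.swap 1 4) * g)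
    (h25 : g * f (Equiv.swap 2 5) = f (Equiv.swap 2 5) * g) :
    g * φ (jM (0, 0, 1)) * g⁻¹ = φ (jM (0, 0, 1)) ∨
      g * φ (jM (0, 0, 1)) * g⁻¹ = (φ (jM (0, 0, 1)))⁻¹ := by
  classical
  haveI : Fact (Nat.Prime 3) := ⟨Nat.prime_three⟩
  obtain ⟨⟨hr03, hr14, hr25⟩, -⟩ := cross_six
  obtain ⟨hT8, hTsq, -⟩ := klein_six
  obtain ⟨-, ⟨-, -, -, -, -⟩, ⟨-, -, -, -, -, h111, hn2, hne3, -⟩, -, hstab, hlines⟩ := cross_model
  obtain ⟨he0, hsplit, hzc, hcc2, hnC112, hgen⟩ := cross_aux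
  set e := φ (jM (0, 0, 1)) with he
  have he3 : e ^ 3 = 1 := D.jcube _
  have he1 : e ≠ 1 := fun h => he0 (D.jinj (h.trans D.jzero.symm))
  have hoe : orderOf e = 3 := orderOf_eq_prime he3 he1
  -- the three transpositions
  let Tc : Subgroup P6 := centralizer ({t03, Equiv.swap 1 4, Equiv.swap 2 5} : Set P6)
  have hTc : ∀ π, π ∈ Tc ↔ π * t03 = t03 * π ∧ π * Equiv.swap 1 4 = Equiv.swap 1 4 * π ∧
      π * Equiv.swap 2 5 = Equiv.swap 2 5 * π := fun π => by
    simp only [Tc, mem_centralizer_iff, Set.mem_insert_iff, Set.mem_singleton_iff, forall_eq_or_imp, forall_eq,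
      eq_comm]
  let T : Subgroup G := Tc.map f
  have hTcard : Nat.card T = 8 := by
    rw [card_map_of_injective F.inj, Nat.card_congr (Equiv.subtypeEquivRight hTc), Nat.card_eq_fintype_card]
    exact hT8
  have hT2 : ∀ t ∈ T, t * t = 1 := by
    rintro _ ⟨π, hπ, rfl⟩
    obtain ⟨h1, h2, h3⟩ := (hTc π).1 hπ
    rw [← map_mul, hTsq π h1 h2 h3, map_one]
  have hTe : ∀ t ∈ T, t * e = e * t := by
    rintro _ ⟨π, -, rfl⟩
    exact (F.c π).symm
  let C : Subgroup G := centralizer ({f t03, f (Equiv.swap 1 4), f (Equiv.swap 2 5)} : Set G)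
  have hC : ∀ x, x ∈ C ↔ x * f t03 = f t03 * x ∧ x * f (Equiv.swap 1 4) = f (Equiv.swap 1 4) * x ∧
      x * f (Equiv.swap 2 5) = f (Equiv.swap 2 5) * x := fun x => by
    simp only [C, mem_centralizer_iff, Set.mem_insert_iff, Set.mem_singleton_iff, forall_eq_or_imp, forall_eq,
      eq_comm]
  have hTC : T ≤ C := by
    rintro _ ⟨π, hπ, rfl⟩
    obtain ⟨h1, h2, h3⟩ := (hTc π).1 hπ
    refine (hC _).2 ⟨?_, ?_, ?_⟩ <;> rw [← map_mul, ← map_mul]
    exacts [congrArg f h1, congrArg f h2, congrArg f h3]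
  have hCT : ∀ x ∈ C, ∀ t ∈ T, x * t = t * x := by
    intro x hx
    obtain ⟨h1, h2, h3⟩ := (hC x).1 hx
    rintro _ ⟨π, hπ, rfl⟩
    obtain ⟨hh1, hh2, hh3⟩ := (hTc π).1 hπ
    obtain ⟨i, j, k, rfl⟩ := hgen π hh1 hh2 hh3
    rw [map_mul, map_mul, _root_.map_pow, _root_.map_pow, _root_.map_pow]
    exact (((show Commute x (f t03) from h1).pow_right _).mul_right
      ((show Commute x (f _) from h2).pow_right _)).mul_right ((show Commute x (f _) from h3).pow_right _)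
  -- elements commuting with `e`
  have hcentE : ∀ x ∈ C, x * e = e * x → ∃ t ∈ T, ∃ i : Fin 3, x = t * e ^ i.val := by
    intro x hx hxe
    obtain ⟨π, i, rfl⟩ := D.cent_e3 S6 F hxe
    refine ⟨f π, ⟨π, (hTc π).2 ?_, rfl⟩, i, rfl⟩
    obtain ⟨h1, h2, h3⟩ := (hC _).1 hx
    have key : ∀ s : P6, f π * e ^ i.val * f s = f s * (f π * e ^ i.val) → π * s = s * π := fun s hs => by
      refine F.inj ?_
      rw [map_mul f π s, map_mul f s π]
      refine mul_right_cancel (b := e ^ i.val) ?_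
      have hc : Commute (e ^ i.val) (f s) := (show Commute e (f s) from F.c s).pow_left _
      rw [mul_assoc (f π), ← hc.eq, ← mul_assoc, hs, ← mul_assoc]
    exact ⟨key _ h1, key _ h2, key _ h3⟩
  -- the acting group
  set u := φ (jM (1, 1, 0)) with hu
  have hu' : u = f (cb * cc) := D.e110 S6 F
  let P : Subgroup G :=
    { carrier := {x | ∃ v : V3, v.1 = v.2.1 ∧ φ (jM v) = x}
      one_mem' := ⟨0, rfl, D.jzero⟩
      mul_mem' := by
        rintro _ _ ⟨x, hx, rfl⟩ ⟨y, hy, rfl⟩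
        exact ⟨x + y, by simp [Prod.fst_add, Prod.snd_add, hx, hy], D.jadd _ _⟩
      inv_mem' := by
        rintro _ ⟨x, hx, rfl⟩
        exact ⟨-x, by simp [Prod.fst_neg, Prod.snd_neg, hx], D.jneg _⟩ }
  have hPJ : P ≤ J := by rintro _ ⟨x, -, rfl⟩; exact D.memj _
  have hP9 : Nat.card P = 9 := by
    rw [← Nat.card_eq_of_bijective
      (fun v : {v : V3 // v.1 = v.2.1} => (⟨φ (jM v.1), v.1, v.2, rfl⟩ : P))
      ⟨fun x y h => Subtype.ext (D.jinj (congrArg Subtype.val h)),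
        fun x => by obtain ⟨v, hv, h⟩ := x.2; exact ⟨⟨v, hv⟩, Subtype.ext h⟩⟩, Nat.card_eq_fintype_card]
    decide +kernel
  have hPT : P ≤ normalizer (T : Set G) := by
    rintro _ ⟨v, hv, rfl⟩
    obtain ⟨i, j, rfl⟩ := hsplit v hv
    rw [D.jadd, D.jsmul, D.jsmul, ← he, ← hu]
    refine mul_mem (pow_mem ?_ _) (pow_mem ?_ _)
    · rw [hu']
      refine mem_normalizer_iff_map_conj_eq.2 (eq_of_le_of_card_ge ?_
        (le_of_eq (card_map_of_injective (K := T) (MulEquiv.injective (MulAut.conj _))).symm))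
      rintro _ ⟨_, ⟨π, hπ, rfl⟩, rfl⟩
      refine ⟨cb * cc * π * (cb * cc)⁻¹, (hTc _).2 ?_, ?_⟩
      swap
      · show f (cb * cc * π * (cb * cc)⁻¹) = f (cb * cc) * f π * (f (cb * cc))⁻¹
        rw [map_mul f (cb * cc * π), map_mul f (cb * cc), map_inv]
      obtain ⟨h1, h2, h3⟩ := (hTc π).1 hπ
      have key : ∀ s s' : P6, cb * cc * s * (cb * cc)⁻¹ = s' → π * s = s * π →
          cb * cc * π * (cb * cc)⁻¹ * s' = s' * (cb * cc * π * (cb * cc)⁻¹) := fun s s' h hπs => by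
        rw [← h]
        calc cb * cc * π * (cb * cc)⁻¹ * (cb * cc * s * (cb * cc)⁻¹)
            = cb * cc * (π * s) * (cb * cc)⁻¹ := by group
          _ = cb * cc * (s * π) * (cb * cc)⁻¹ := by rw [hπs]
          _ = _ := by group
      exact ⟨key _ _ hr25 h3, key _ _ hr03 h1, key _ _ hr14 h2⟩
    · exact mem_normalizer_of_comm hTe
  -- the quotient
  set N := normalizer (T : Set G) with hN
  have hCN : C ≤ N := fun x hx => mem_normalizer_of_comm (fun t ht => (hCT x hx t ht).symm)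
  have heN : e ∈ N := mem_normalizer_of_comm hTe
  have heC : e ∈ C := (hC e).2 ⟨F.c _, F.c _, F.c _⟩
  haveI : (T.subgroupOf N).Normal := normal_in_normalizer
  set μ := QuotientGroup.mk' (T.subgroupOf N) with hμ
  have hker : ∀ x : N, μ x = 1 ↔ (x : G) ∈ T := fun x => by
    rw [hμ, QuotientGroup.mk'_apply, QuotientGroup.eq_one_iff, mem_subgroupOf]
  have heq : ∀ x y : N, μ x = μ y → ∃ t ∈ T, (x : G) = y * t := fun x y h => by
    refine ⟨(y : G)⁻¹ * x, ?_, by group⟩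
    have := (hker (y⁻¹ * x)).1 (by rw [_root_.map_mul, _root_.map_inv, h, inv_mul_cancel])
    simpa using this
  have hrm : ∀ (s t : G), s ^ 3 = 1 → t ∈ T → t * s = s * t → (s * t) ^ 3 = 1 → t = 1 := fun s t hs ht hc h => by
    rw [(show Commute s t from hc.symm).mul_pow, hs, one_mul, pow_succ, pow_two, hT2 t ht, one_mul] at h
    exact h
  set Q := (C.subgroupOf N).map μ with hQ
  set A := (P.subgroupOf N).map μ with hA
  set eN : N := ⟨e, heN⟩ with heN'
  have hoq : orderOf (μ eN) = 3 := orderOf_eq_prime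
    (by rw [← _root_.map_pow, show eN ^ 3 = 1 from Subtype.ext (by simpa using he3), _root_.map_one])
    fun h => he1 (by
      have h2 := hT2 _ ((hker _).1 h)
      have h3 := he3
      rw [pow_succ, pow_two] at h3
      change e * e = 1 at h2
      rwa [h2, one_mul] at h3)
  have hQC : ∀ q ∈ Q, q * μ eN = μ eN * q → ∃ i : ℕ, ∃ z ∈ (⊥ : Subgroup (N ⧸ T.subgroupOf N)),
      q = μ eN ^ i * z := by
    rintro _ ⟨x, hx, rfl⟩ hcomm
    obtain ⟨t, ht, hxe⟩ := heq (x * eN * x⁻¹) eN (by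
      rw [_root_.map_mul, _root_.map_mul, _root_.map_inv, hcomm, mul_inv_cancel_right])
    simp only [Subgroup.coe_mul, InvMemClass.coe_inv] at hxe
    change (x : G) * e * (x : G)⁻¹ = e * t at hxe
    have ht1 : t = 1 := hrm e t he3 ht (hTe t ht) (by rw [← hxe, conj_pow, he3, mul_one, mul_inv_cancel])
    rw [ht1, mul_one, mul_inv_eq_iff_eq_mul] at hxe
    obtain ⟨s, hs, i, hxs⟩ := hcentE _ hx hxe
    refine ⟨i.val, 1, one_mem _, ?_⟩
    rw [mul_one, ← _root_.map_pow]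
    have hs' : (s : G) ∈ N := hCN (hTC hs)
    rw [show x = ⟨s, hs'⟩ * eN ^ i.val from Subtype.ext (by simpa using hxs), _root_.map_mul,
      (hker ⟨s, hs'⟩).2 hs, one_mul]
  have hPN : P ≤ N := hPT
  have hPC : P ≤ normalizer (C : Set G) := fun p hp => by
    refine mem_normalizer_iff_map_conj_eq.2 (eq_of_le_of_card_ge ?_ (by
      rw [card_map_of_injective (MulEquiv.injective (MulAut.conj _))]))
    rintro _ ⟨x, hx, rfl⟩
    show p * x * p⁻¹ ∈ C
    have hcom : ∀ t ∈ T, p * x * p⁻¹ * t = t * (p * x * p⁻¹) := fun t ht => by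
      have ht' : p⁻¹ * t * p ∈ T := by
        have := (mem_normalizer_iff.1 (hPT (inv_mem hp)) t).1 ht
        rwa [inv_inv] at this
      calc p * x * p⁻¹ * t = p * (x * (p⁻¹ * t * p)) * p⁻¹ := by group
        _ = p * ((p⁻¹ * t * p) * x) * p⁻¹ := by rw [hCT x hx _ ht']
        _ = _ := by group
    have h1 : ∀ π : P6, π ∈ Tc → f π ∈ T := fun π h => ⟨π, h, rfl⟩
    refine (hC _).2 ⟨hcom _ (h1 _ ((hTc _).2 ?_)), hcom _ (h1 _ ((hTc _).2 ?_)), hcom _ (h1 _ ((hTc _).2 ?_))⟩ <;>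
      decide +kernel
  have hAQ : A ≤ normalizer (Q : Set (N ⧸ T.subgroupOf N)) := by
    rintro _ ⟨p, hp, rfl⟩
    refine le_normalizer_map μ ⟨p, ?_, rfl⟩
    refine mem_normalizer_iff.2 fun x => ?_
    rw [mem_subgroupOf, mem_subgroupOf]
    exact mem_normalizer_iff.1 (hPC hp) (x : G)
  have hA3 : IsPGroup 3 A := by
    refine IsPGroup.map ?_ μ
    exact ((D.J_isP).to_le hPJ).of_equiv (subgroupOfEquivOfLe hPN).symm
  have hsig : ∀ S : Subgroup (N ⧸ T.subgroupOf N), S ≤ Q → (Nat.card S).Coprime 3 →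
      A ≤ normalizer (S : Set (N ⧸ T.subgroupOf N)) → S ≤ ⊥ := by
    intro S hSQ hS hAS
    let Y : Subgroup G := (S.comap μ).map N.subtype
    have hY3 : (Nat.card Y).Coprime 3 := by
      rw [card_map_of_injective N.subtype_injective, SelfThree.card_comap_mk,
        Nat.card_congr (subgroupOfEquivOfLe (show T ≤ N from le_normalizer)).toEquiv, hTcard]
      exact Nat.Coprime.mul_left (by norm_num) hS
    have hYC : ∀ y ∈ Y, y ∈ C := by
      rintro _ ⟨y, hy, rfl⟩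
      obtain ⟨x, hx, hxy⟩ := hSQ hy
      obtain ⟨t, ht, h⟩ := heq y x hxy.symm
      rw [Subgroup.coe_subtype, h]
      exact mul_mem hx (hTC ht)
    have hPY : P ≤ normalizer (Y : Set G) := by
      intro p hp
      have hpn : (⟨p, hPN hp⟩ : N) ∈ normalizer ((S.comap μ : Subgroup N) : Set N) := by
        refine mem_normalizer_iff.2 fun x => ?_
        rw [mem_comap, mem_comap, _root_.map_mul, _root_.map_mul, _root_.map_inv]
        exact mem_normalizer_iff.1 (hAS ⟨_, hp, rfl⟩) (μ x)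
      exact le_normalizer_map N.subtype ⟨_, hpn, rfl⟩
    have hYe : ∀ y ∈ Y, y * e = e * y → y ∈ T := by
      intro y hy hye
      obtain ⟨t, ht, i, rfl⟩ := hcentE y (hYC y hy) hye
      have hei : e ^ i.val ∈ Y := by
        have htY : t ∈ Y := ⟨⟨t, hCN (hTC ht)⟩, by
          show μ _ ∈ S
          rw [(hker _).2 ht]; exact one_mem _, rfl⟩
        have := mul_mem (inv_mem htY) hy
        rwa [inv_mul_cancel_left] at this
      have h1 : orderOf (e ^ i.val) ∣ 3 := (orderOf_pow_dvd _).trans (dvd_of_eq hoe)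
      have h2 : orderOf (e ^ i.val) ∣ Nat.card Y := by
        have := orderOf_dvd_natCard (⟨_, hei⟩ : Y)
        rwa [orderOf_mk] at this
      rw [orderOf_eq_one_iff.1 (Nat.eq_one_of_dvd_coprimes hY3 h2 h1), mul_one]
      exact ht
    have hle : Y ≤ T := by
      refine le_of_fixed (E := P) (fun x hx y hy => D.J_comm (hPJ hx) (hPJ hy)) hP9
        (fun x hx => D.J_cube (hPJ hx)) hPY hY3 ?_
      rintro _ ⟨v, hv, rfl⟩ hv1 y hy hyv
      refine hYe y hy ?_
      have hv0 : v ≠ 0 := fun h => hv1 (by rw [h, D.jzero])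
      obtain ⟨hy03, -, -⟩ := (hC y).1 (hYC y hy)
      rcases hlines v hv hv0 with h | ⟨k, w, hvw, hwv, hw⟩
      · have h' : φ (jM v) = e ^ v.2.2.val := by
          rw [he, ← (D.map_pow (inL_all _) _).2]
          refine congrArg φ ?_
          rw [h]
          exact hzc _
        have hcv : v.2.2 ≠ 0 := fun hz => hv0 (by rw [h, hz]; rfl)
        obtain ⟨m, hm⟩ : ∃ m, e = (e ^ v.2.2.val) ^ m := by
          refine ⟨v.2.2.val, ?_⟩
          rw [← pow_mul, pow_eq_pow_mod _ he3,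
            hcc2 _ hcv, pow_one]
        rw [h'] at hyv
        rw [hm]
        exact ((show Commute y _ from hyv).pow_right m).eq
      · have hyw : y * φ (jM w) = φ (jM w) * y := by
          rw [hwv, D.jsmul]
          exact ((show Commute y _ from hyv).pow_right _).eq
        rcases hw with rfl | rfl | rfl
        · obtain ⟨p, hp, rfl⟩ := D.norm_eq y (D.cent_two 1 (wact_one _) hyw)
          rcases hstab p.w (D.fix_of_comm hp hyw) with h | h
          · exact (D.fix_iff hp _).2 h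
          · exfalso
            have hconj : φ p * e * (φ p)⁻¹ = e⁻¹ := by rw [he, D.act' hp, h, D.jneg]
            have hm : φ p * e * (φ p)⁻¹ * e⁻¹ ∈ Y := by
              have heP : e ∈ P := ⟨(0, 0, 1), rfl, rfl⟩
              have := mul_mem hy ((mem_normalizer_iff.1 (hPY heP) _).1 (inv_mem hy))
              rwa [show φ p * (e * (φ p)⁻¹ * e⁻¹) = φ p * e * (φ p)⁻¹ * e⁻¹ by group] at this
            rw [hconj, ← mul_inv_rev, ← pow_two] at hm
            have h2 : orderOf (e ^ 2) ∣ Nat.card Y := by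
              have := orderOf_dvd_natCard (⟨_, inv_mem hm⟩ : Y)
              rw [orderOf_mk, inv_inv] at this
              exact this
            have h1 : orderOf (e ^ 2) ∣ 3 := (orderOf_pow_dvd _).trans (dvd_of_eq hoe)
            have h3 := orderOf_eq_one_iff.1 (Nat.eq_one_of_dvd_coprimes hY3 h2 h1)
            refine he1 ?_
            have := he3
            rwa [pow_succ, h3, one_mul] at this
        · rw [D.a_eq] at hyw
          exact hsm y hyw hy03
        · set n := φ (wM nCw) with hn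
          have hnn : n * n = 1 := by rw [hn, ← D.hmul, hn2, D.one]
          have hninv : n⁻¹ = n := inv_eq_of_mul_eq_one_left hnn
          have hconj : ∀ x z : G, n * x * n * (n * z * n) = n * (x * z) * n := fun x z => by
            rw [show n * x * n * (n * z * n) = n * x * (n * n) * z * n by group, hnn]; group
          have hna : n * φ (jM (1, 1, 2)) * n = a := by
            conv_lhs => rw [show n * φ (jM (1, 1, 2)) * n = n * φ (jM (1, 1, 2)) * n⁻¹ by rw [hninv]]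
            rw [hn, D.act' (inL_all _), ← D.a_eq]
            exact congrArg φ hnC112
          have hnd : n * f t03 * n = f t03 := by
            have := D.n_conj F t03
            rwa [← hn, hninv] at this
          have h1 := hsm (n * y * n) (by rw [← hna, hconj, hconj, hyw]) (by
            rw [← hnd, hconj, hconj, hy03])
          have h2 : n * y * n * e⁻¹ = e⁻¹ * (n * y * n) :=
            ((show Commute _ _ from h1).inv_right).eq
          have hne : n * e⁻¹ * n = e := by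
            have h : n * e * n = e⁻¹ := by
              conv_lhs => rw [show n * e * n = n * e * n⁻¹ by rw [hninv]]
              rw [hn, he, D.hconjM, hne3, D.hinv]
            calc n * e⁻¹ * n = n * (n * e * n) * n := by rw [h]
              _ = (n * n) * e * (n * n) := by group
              _ = e := by rw [hnn, one_mul, mul_one]
          have h3 : n * (n * y * n * e⁻¹) * n = n * (e⁻¹ * (n * y * n)) * n := by rw [h2]
          rw [← hconj (n * y * n), ← hconj e⁻¹, hne, show n * (n * y * n) * n = (n * n) * y * (n * n) by group,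
            hnn, one_mul, mul_one] at h3
          exact h3
    intro s hs
    obtain ⟨x, rfl⟩ := QuotientGroup.mk'_surjective _ s
    exact mem_bot.2 ((hker x).2 (hle ⟨x, hs, rfl⟩))
  have main := self_three_small Q ⊥ A (μ eN) ⟨eN, heC, rfl⟩ hoq bot_le (by simp) (by simp) hQC hA3 hAQ hsig
  have hg : g ∈ C := (hC g).2 ⟨h03, h14, h25⟩
  rcases main _ ⟨⟨g, hCN hg⟩, hg, rfl⟩ with h | h
  · left
    rw [← _root_.map_inv, ← _root_.map_mul, ← _root_.map_mul] at h
    obtain ⟨t, ht, hxe⟩ := heq _ _ h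
    simp only [Subgroup.coe_mul, InvMemClass.coe_inv] at hxe
    change g * e * g⁻¹ = e * t at hxe
    rw [hxe, hrm e t he3 ht (hTe t ht) (by rw [← hxe, conj_pow, he3, mul_one, mul_inv_cancel]), mul_one]
  · right
    rw [← _root_.map_inv, ← _root_.map_mul, ← _root_.map_mul, ← _root_.map_inv] at h
    obtain ⟨t, ht, hxe⟩ := heq _ _ h
    simp only [Subgroup.coe_mul, InvMemClass.coe_inv] at hxe
    change g * e * g⁻¹ = e⁻¹ * t at hxe
    rw [hxe, hrm e⁻¹ t (by rw [inv_pow, he3, inv_one]) ht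
      (((show Commute t e from hTe t ht).inv_right).eq)
      (by rw [← hxe, conj_pow, he3, mul_one, mul_inv_cancel]), mul_one]

/-- An element of the centralizer of `e₃` is determined by a permutation and a power. -/
theorem e3_comm_iff {π s : P6} {i : Fin 3}
    (h : f π * φ (jM (0, 0, 1)) ^ i.val * f s = f s * (f π * φ (jM (0, 0, 1)) ^ i.val)) : π * s = s * π := by
  refine F.inj ?_
  rw [map_mul f π s, map_mul f s π]
  refine mul_right_cancel (b := φ (jM (0, 0, 1)) ^ i.val) ?_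
  have hc : Commute (φ (jM (0, 0, 1)) ^ i.val) (f s) := (show Commute _ (f s) from F.c s).pow_left _
  rw [mul_assoc (f π), ← hc.eq, ← mul_assoc, h, ← mul_assoc]

/-- Some element of `C(a) ∩ C(d)` moves `e₃`. -/
theorem exists_moving : ∃ g, g * a = a * g ∧ g * f t03 = f t03 * g ∧
    g * φ (jM (0, 0, 1)) ≠ φ (jM (0, 0, 1)) * g := by
  classical
  by_contra hcon
  push Not at hcon
  haveI h2f : Fact (Nat.Prime 2) := ⟨Nat.prime_two⟩
  obtain ⟨-, -, ⟨hc03, hc14, hc25, hc2⟩, ⟨h1203, h4503, h1245, hd1, hd12, hd45, hdd⟩, hcls, ⟨c0, hc0, hc0'⟩,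
    ⟨c1, hc1⟩⟩ := klein_six
  obtain ⟨-, ⟨hsA, hsB, hsC, hse2, hse3⟩, ⟨-, -, -, -, -, -, hn2, hne3, hn1⟩, ⟨hAC, hZC, hRC, -⟩, -⟩ :=
    cross_model
  set e := φ (jM (0, 0, 1)) with he
  set n := φ (wM nCw) with hn
  set d := f t03 with hd
  set σ := φ (wM sigW) with hσ
  set r1 := f (Equiv.swap 1 2) with hr1
  set r2 := f (Equiv.swap 4 5) with hr2
  have hA : r1 = φ (wM nAw) := D.f12 S6 F
  have hB : r2 = φ (wM nBw) := D.f45 S6 F
  have hfc : ∀ x y : P6, x * y = y * x → f x * f y = f y * f x := fun x y h => by rw [← map_mul, h, map_mul]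
  have hconjf : ∀ c x : P6, f c * f x * (f c)⁻¹ = f (c * x * c⁻¹) := fun c x => by
    rw [map_mul f (c * x), map_mul f c x, map_inv]
  have hnn : n * n = 1 := by rw [hn, ← D.hmul, hn2, D.one]
  have hninv : n⁻¹ = n := inv_eq_of_mul_eq_one_left hnn
  have hnf : ∀ π, n * f π = f π * n := F.nC
  have hne : n * e * n⁻¹ = e⁻¹ := by rw [hn, he, D.hconjM, hne3, D.hinv]
  have hsc : ∀ x y : G, σ * x * σ⁻¹ * (σ * y * σ⁻¹) = σ * (x * y) * σ⁻¹ := fun x y => by group
  have hs1 : σ * n * σ⁻¹ = r1 := by rw [hσ, hn, hA, D.hconjM, hsA]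
  have hs2 : σ * r1 * σ⁻¹ = r2 := by rw [hσ, hA, hB, D.hconjM, hsB]
  have hs3 : σ * r2 * σ⁻¹ = n := by rw [hσ, hn, hB, D.hconjM, hsC]
  have he3 : e ^ 3 = 1 := D.jcube _
  have heinv : e⁻¹ ≠ e := fun h => by
    have h2 : e * e = 1 := by nth_rewrite 1 [← h]; exact inv_mul_cancel e
    have h3 : e = 1 := by
      have := he3
      rwa [pow_succ, pow_two, h2, one_mul] at this
    exact cross_aux.1 (D.jinj (h3.trans D.jzero.symm))
  -- the centralizer of the second set of three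
  have hsmall : ∀ g, g * d = d * g → g * r1 = r1 * g → g * r2 = r2 * g →
      g * e * g⁻¹ = e ∨ g * e * g⁻¹ = e⁻¹ := by
    intro g hgd hg1 hg2
    set k := f (Equiv.swap 2 4) with hk
    have hkk : k * k = 1 := by rw [hk, ← map_mul, hc2, map_one]
    have hkinv : k⁻¹ = k := inv_eq_of_mul_eq_one_left hkk
    have hconj : ∀ x y : G, k * x * k * (k * y * k) = k * (x * y) * k := fun x y => by
      rw [show k * x * k * (k * y * k) = k * x * (k * k) * y * k by group, hkk]; group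
    have hback : ∀ x y : P6, Equiv.swap 2 4 * x * Equiv.swap 2 4 = y → k * f y * k = f x := fun x y h => by
      rw [hk, ← map_mul, ← map_mul, ← h]
      congr 1
      rw [show Equiv.swap 2 4 * (Equiv.swap 2 4 * x * Equiv.swap 2 4) * Equiv.swap 2 4 =
        (Equiv.swap 2 4 * Equiv.swap 2 4 : P6) * x * (Equiv.swap 2 4 * Equiv.swap 2 4) by group, hc2]
      group
    have h := D.cent_klein_small S6 F hcon (g := k * g * k)
      (by rw [← hback _ _ hc03, hconj, hconj, hgd]) (by rw [← hback _ _ hc14, hconj, hconj, hg1])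
      (by rw [← hback _ _ hc25, hconj, hconj, hg2])
    have hke : k * e * k = e := by
      rw [hk, he, ← F.c, mul_assoc, ← hk, hkk, mul_one]
    have key : ∀ z : G, k * g * k * e * (k * g * k)⁻¹ = z → k * z * k = z → g * e * g⁻¹ = z := fun z h hz => by
      rw [← hz, ← h]
      calc g * e * g⁻¹ = g * (k * e * k) * g⁻¹ := by rw [hke]
        _ = (k * k) * (g * (k * e * k) * g⁻¹) * (k * k) := by rw [hkk, one_mul, mul_one]
        _ = _ := by rw [mul_inv_rev, mul_inv_rev, hkinv]; group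
    rcases h with h | h
    · exact Or.inl (key _ h hke)
    · refine Or.inr (key _ h ?_)
      calc k * e⁻¹ * k = (k⁻¹ * e * k⁻¹)⁻¹ := by group
        _ = _ := by rw [hkinv, hke]
  -- the elementary abelian group of order sixteen
  let T : Subgroup P6 := centralizer ({t03, Equiv.swap 1 2, Equiv.swap 4 5} : Set P6)
  have hT : ∀ π, π ∈ T ↔ π * t03 = t03 * π ∧ π * Equiv.swap 1 2 = Equiv.swap 1 2 * π ∧
      π * Equiv.swap 4 5 = Equiv.swap 4 5 * π := fun π => by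
    simp only [T, mem_centralizer_iff, Set.mem_insert_iff, Set.mem_singleton_iff, forall_eq_or_imp, forall_eq,
      eq_comm]
  let E : Subgroup G :=
    { carrier := {x | ∃ π ∈ T, x = f π ∨ x = f π * n}
      one_mem' := ⟨1, one_mem _, Or.inl (map_one f).symm⟩
      mul_mem' := by
        rintro _ _ ⟨x, hx, hx'⟩ ⟨y, hy, hy'⟩
        refine ⟨x * y, mul_mem hx hy, ?_⟩
        rw [map_mul f x y]
        rcases hx' with rfl | rfl <;> rcases hy' with rfl | rfl
        · exact Or.inl rfl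
        · exact Or.inr (mul_assoc _ _ _).symm
        · exact Or.inr (by rw [mul_assoc (f x), hnf, ← mul_assoc])
        · exact Or.inl (by rw [mul_assoc (f x), ← mul_assoc n, hnf, mul_assoc (f y), hnn, mul_one])
      inv_mem' := by
        rintro _ ⟨x, hx, hx'⟩
        refine ⟨x⁻¹, inv_mem hx, ?_⟩
        rw [map_inv f x]
        rcases hx' with rfl | rfl
        · exact Or.inl rfl
        · exact Or.inr (by rw [mul_inv_rev, hninv, ← map_inv, hnf]) }
  have hTsq : ∀ π ∈ T, π * π = 1 := fun π h => by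
    obtain ⟨h1, h2, h3⟩ := (hT π).1 h
    exact (hcls π h1 h2 h3).1
  have hEsq : ∀ x ∈ E, x * x = 1 := by
    rintro _ ⟨π, hπ, rfl | rfl⟩
    · rw [← map_mul, hTsq π hπ, map_one]
    · rw [mul_assoc (f π), ← mul_assoc n, hnf, mul_assoc (f π) n, hnn, mul_one, ← map_mul, hTsq π hπ, map_one]
  have hdE : d ∈ E := ⟨t03, (hT _).2 ⟨rfl, h1203, h4503⟩, Or.inl rfl⟩
  have hnE : n ∈ E := ⟨1, one_mem _, Or.inr (by rw [map_one, one_mul])⟩
  have hr1E : r1 ∈ E := ⟨_, (hT _).2 ⟨h1203.symm, rfl, h1245⟩, Or.inl rfl⟩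
  have hr2E : r2 ∈ E := ⟨_, (hT _).2 ⟨h4503.symm, h1245.symm, rfl⟩, Or.inl rfl⟩
  have hEcomm : ∀ x ∈ E, ∀ y ∈ E, x * y = y * x := fun x hx y hy => by
    calc x * y = x * (x * y * (x * y)) * y := by rw [hEsq _ (mul_mem hx hy), mul_one]
      _ = (x * x) * (y * x) * (y * y) := by group
      _ = y * x := by rw [hEsq x hx, hEsq y hy, one_mul, mul_one]
  -- classes
  have hconjR : ∀ c : P6, ∀ π : P6, c * π * c⁻¹ = Equiv.swap 1 2 → ∃ g, g * n * g⁻¹ = f π := fun c π h => by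
    refine ⟨(f c)⁻¹ * σ, ?_⟩
    rw [show (f c)⁻¹ * σ * n * ((f c)⁻¹ * σ)⁻¹ = (f c)⁻¹ * (σ * n * σ⁻¹) * f c by group, hs1, hr1, ← h,
      map_mul f (c * π), map_mul f c π, map_inv]
    group
  have hfn : ∀ c π : P6, f c * (f π * n) * (f c)⁻¹ = f (c * π * c⁻¹) * n := fun c π => by
    rw [show f c * (f π * n) * (f c)⁻¹ = f c * f π * (n * (f c)⁻¹) by group, ← map_inv f c, hnf, map_mul f (c * π),
      map_mul f c π, mul_assoc (f c * f π)]
  have hrefl : ∀ x ∈ E, (∃ g, g * n * g⁻¹ = x) → x = d ∨ x = r1 ∨ x = r2 ∨ x = n := by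
    rintro _ ⟨π, hπ, hx⟩ ⟨g, hg⟩
    obtain ⟨h1, h2, h3⟩ := (hT π).1 hπ
    rcases (hcls π h1 h2 h3).2 with rfl | ⟨hπ', c, hc⟩ | ⟨c, hc⟩ | ⟨c, hc⟩
    · rcases hx with rfl | rfl
      · exfalso
        rw [map_one, conj_eq_one_iff] at hg
        exact hn1 (D.eq_one (inL_all _) hg)
      · right; right; right; rw [map_one, one_mul]
    · rcases hx with rfl | rfl
      · rcases hπ' with rfl | rfl | rfl
        exacts [Or.inl rfl, Or.inr (Or.inl rfl), Or.inr (Or.inr (Or.inl rfl))]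
      · exfalso
        refine D.refl_ne_z S6 F ((σ * σ)⁻¹ * (f c * g)) ?_
        have h0 : f c * g * n * (f c * g)⁻¹ = σ * σ * φ (wM zW) * (σ * σ)⁻¹ := by
          rw [show f c * g * n * (f c * g)⁻¹ = f c * (g * n * g⁻¹) * (f c)⁻¹ by group, hg, hfn, hc, ← hr1, hA, hn,
            ← D.hmul, hAC, ← D.hconjM, ← D.hconjM, hσ]
          group
        rw [← hn, show (σ * σ)⁻¹ * (f c * g) * n * ((σ * σ)⁻¹ * (f c * g))⁻¹ =
          (σ * σ)⁻¹ * (f c * g * n * (f c * g)⁻¹) * (σ * σ) by simp only [mul_inv_rev, inv_inv, mul_assoc], h0]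
        group
    · exfalso
      rcases hx with rfl | rfl
      · refine D.refl_ne_z S6 F (f c * g) ?_
        rw [← hn, show f c * g * n * (f c * g)⁻¹ = f c * (g * n * g⁻¹) * (f c)⁻¹ by group, hg, hconjf, hc,
          D.f1245 S6 F]
      · refine D.refl_ne_inv (f c * g) ?_
        rw [← hn, show f c * g * n * (f c * g)⁻¹ = f c * (g * n * g⁻¹) * (f c)⁻¹ by group, hg,
          hfn, hc, D.f1245 S6 F, hn, ← D.hmul, hZC]
    · exfalso
      rcases hx with rfl | rfl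
      · refine D.refl_ne_rho (f c * g) ?_
        rw [← hn, show f c * g * n * (f c * g)⁻¹ = f c * (g * n * g⁻¹) * (f c)⁻¹ by group, hg, hconjf, hc,
          D.f_cw S6 F]
      · refine D.refl_ne_zp (f c * g) ?_
        rw [← hn, show f c * g * n * (f c * g)⁻¹ = f c * (g * n * g⁻¹) * (f c)⁻¹ by group, hg,
          hfn, hc, D.f_cw S6 F, hn, ← D.hmul, hRC]
  have hdref : ∃ g, g * n * g⁻¹ = d := by
    obtain ⟨c, hc⟩ : ∃ c : P6, c * t03 * c⁻¹ = Equiv.swap 1 2 :=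
      ⟨Equiv.swap 0 1 * Equiv.swap 2 3, by decide +kernel⟩
    exact hconjR c t03 hc
  let X : Subgroup G := centralizer ({r1, r2} : Set G)
  have hX : ∀ x, x ∈ X ↔ x * r1 = r1 * x ∧ x * r2 = r2 * x := fun x => by
    simp only [X, mem_centralizer_iff, Set.mem_insert_iff, Set.mem_singleton_iff, forall_eq_or_imp, forall_eq,
      eq_comm]
  have hEX : E ≤ X := fun x hx => (hX x).2 ⟨hEcomm x hx _ hr1E, hEcomm x hx _ hr2E⟩
  -- `d` and `n` are not conjugate under `X`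
  have hdn : ∀ g ∈ X, g * d * g⁻¹ ≠ n := fun g hg h => by
    obtain ⟨g1, g2⟩ := (hX g).1 hg
    refine D.rho_ne_inv (g * (f c1)⁻¹) ?_
    have hcw : f c1 * (d * r1 * r2) * (f c1)⁻¹ = φ (wM rhoW) := by
      rw [hd, hr1, hr2, ← map_mul, ← map_mul, hconjf, hc1, D.f_cw S6 F]
    rw [← hcw, show g * (f c1)⁻¹ * (f c1 * (d * r1 * r2) * (f c1)⁻¹) * (g * (f c1)⁻¹)⁻¹ =
      (g * d * g⁻¹) * (g * r1 * g⁻¹) * (g * r2 * g⁻¹) by group, h, g1, mul_inv_cancel_right, g2,
      mul_inv_cancel_right, hA, hB, hn, ← D.hmul, ← D.hmul]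
    exact congrArg φ ((by decide +kernel : wM nCw * wM nAw * wM nBw = wM invW))
  -- `E` is a Sylow subgroup of `X`
  have hE2 : IsPGroup 2 E := fun x => ⟨1, Subtype.ext (by simpa [pow_two] using hEsq _ x.2)⟩
  obtain ⟨Q, hQ⟩ := (hE2.of_equiv (subgroupOfEquivOfLe hEX).symm).exists_le_sylow
  have hmax : (Q : Subgroup X) ≤ E.subgroupOf X := by
    by_contra hle
    haveI : Group.IsNilpotent Q := Q.2.isNilpotent
    have hlt : (E.subgroupOf X).subgroupOf (Q : Subgroup X) < ⊤ :=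
      lt_top_iff_ne_top.2 fun h => hle (subgroupOf_eq_top.1 h)
    obtain ⟨⟨x, hxQ⟩, hxn, hxE⟩ := SetLike.exists_of_lt (Group.normalizerCondition_of_isNilpotent _ hlt)
    have hconjE : ∀ y ∈ E, (x : G) * y * (x : G)⁻¹ ∈ E := fun y hy =>
      (mem_normalizer_iff.1 hxn ⟨⟨y, hEX hy⟩, hQ (mem_subgroupOf.2 hy)⟩).1 hy
    obtain ⟨x1, x2⟩ := (hX _).1 x.2
    have hxd : (x : G) * d * (x : G)⁻¹ = d := by
      obtain ⟨g, hg⟩ := hdref
      rcases hrefl _ (hconjE d hdE) ⟨x * g, by rw [← hg]; group⟩ with h | h | h | h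
      · exact h
      · exfalso
        refine hd12 (F.inj ?_)
        rw [← hd, show d = (x : G)⁻¹ * ((x : G) * d * (x : G)⁻¹) * x by group, h, mul_assoc, ← x1,
          inv_mul_cancel_left]
      · exfalso
        refine hd45 (F.inj ?_)
        rw [← hd, show d = (x : G)⁻¹ * ((x : G) * d * (x : G)⁻¹) * x by group, h, mul_assoc, ← x2,
          inv_mul_cancel_left]
      · exact absurd h (hdn _ x.2)
    have hxd' : (x : G) * d = d * x := mul_inv_eq_iff_eq_mul.1 hxd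
    -- up to `n` the element centralizes `e`
    obtain ⟨y, hyE, hye⟩ : ∃ y ∈ E, (x : G) * y * e = e * ((x : G) * y) := by
      rcases hsmall _ hxd' x1 x2 with h | h
      · exact ⟨1, one_mem _, by rw [mul_one]; exact mul_inv_eq_iff_eq_mul.1 h⟩
      · refine ⟨n, hnE, mul_inv_eq_iff_eq_mul.1 ?_⟩
        rw [show (x : G) * n * e * ((x : G) * n)⁻¹ = x * (n * e * n⁻¹) * (x : G)⁻¹ by group, hne,
          show (x : G) * e⁻¹ * (x : G)⁻¹ = ((x : G) * e * (x : G)⁻¹)⁻¹ by group, h, inv_inv]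
    obtain ⟨π, i, hπ⟩ := D.cent_e3 S6 F hye
    rw [← he] at hπ
    have hmul : ∀ s : G, (x : G) * s = s * x → y * s = s * y → (x : G) * y * s = s * ((x : G) * y) :=
      fun s h1 h2 => ((show Commute (x : G) s from h1).mul_left h2).eq
    have hπT : π ∈ T := by
      refine (hT π).2 ⟨?_, ?_, ?_⟩ <;> refine D.e3_comm_iff S6 F (i := i) ?_ <;> rw [← he, ← hπ]
      exacts [hmul _ hxd' (hEcomm y hyE d hdE), hmul _ x1 (hEcomm y hyE _ hr1E),
        hmul _ x2 (hEcomm y hyE _ hr2E)]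
    have hei : e ^ i.val = 1 := by
      have hm : (⟨e ^ i.val, by
          rw [show e ^ i.val = (f π)⁻¹ * ((x : G) * y) by rw [hπ]; group]
          exact mul_mem (inv_mem (hEX ⟨π, hπT, Or.inl rfl⟩)) (mul_mem x.2 (hEX hyE))⟩ : X) ∈ (Q : Subgroup X) := by
        have h1 : (⟨f π, hEX ⟨π, hπT, Or.inl rfl⟩⟩ : X) ∈ (Q : Subgroup X) :=
          hQ (mem_subgroupOf.2 ⟨π, hπT, Or.inl rfl⟩)
        have h2 : (⟨y, hEX hyE⟩ : X) ∈ (Q : Subgroup X) := hQ (mem_subgroupOf.2 hyE)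
        convert mul_mem (inv_mem h1) (mul_mem hxQ h2) using 1
        refine Subtype.ext ?_
        simp only [Subgroup.coe_mul, InvMemClass.coe_inv]
        rw [hπ]; group
      obtain ⟨k, hk⟩ := Q.2 ⟨_, hm⟩
      have h2 : (e ^ i.val) ^ 2 ^ k = 1 := by simpa using congrArg (fun z : Q => ((z : X) : G)) hk
      have h3 : (e ^ i.val) ^ 3 = 1 := by rw [← pow_mul, mul_comm, pow_mul, he3, one_pow]
      exact orderOf_eq_one_iff.1 (Nat.eq_one_of_dvd_coprimes
        (Nat.Coprime.pow_left k (show Nat.Coprime 2 3 by norm_num))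
        (orderOf_dvd_of_pow_eq_one h2) (orderOf_dvd_of_pow_eq_one h3))
    refine hxE (mem_subgroupOf.2 (mem_subgroupOf.2 ?_))
    rw [hei, mul_one] at hπ
    rw [show ((⟨x, hxQ⟩ : Q) : X) = x from rfl, show (x : G) = f π * y⁻¹ by rw [← hπ, mul_inv_cancel_right]]
    exact mul_mem ⟨π, hπT, Or.inl rfl⟩ (inv_mem hyE)
  -- the pair `(36)`, `(78)`
  set γ := σ * d * σ⁻¹ with hγ
  have hγX : γ ∈ X := (hX γ).2 ⟨by rw [← hs1, hγ, hsc, hsc, hnf], by rw [← hs2, hγ, hsc, hsc, hfc _ _ h1203]⟩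
  have hγn : γ * n = n * γ := by rw [← hs3, hγ, hsc, hsc, hfc _ _ h4503]
  have hγ2 : γ * γ = 1 := by rw [hγ, hsc, hd, ← map_mul, hdd, map_one, mul_one, mul_inv_cancel]
  have hne' : γ ≠ r1 ∧ γ ≠ r2 ∧ γ ≠ n := by
    refine ⟨fun h => ?_, fun h => ?_, fun h => ?_⟩
    · rw [hγ, ← hs1, mul_left_inj, mul_right_inj] at h
      rw [← h, hd, ← F.c, mul_inv_cancel_right] at hne
      exact heinv hne.symm
    · rw [hγ, ← hs2, mul_left_inj, mul_right_inj] at h
      exact hd12 (F.inj h)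
    · rw [hγ, ← hs3, mul_left_inj, mul_right_inj] at h
      exact hd45 (F.inj h)
  let hX' : X := ⟨σ * f c0 * σ⁻¹, (hX _).2 ⟨by rw [← hs1, hsc, hsc, hnf], by
    rw [← hs2, hsc, hsc, hfc _ _ hc0']⟩⟩
  have hh : hX' * ⟨γ, hγX⟩ * hX'⁻¹ = (⟨n, hEX hnE⟩ : X) := Subtype.ext (by
    show σ * f c0 * σ⁻¹ * (σ * d * σ⁻¹) * (σ * f c0 * σ⁻¹)⁻¹ = n
    rw [show σ * f c0 * σ⁻¹ * (σ * d * σ⁻¹) * (σ * f c0 * σ⁻¹)⁻¹ = σ * (f c0 * d * (f c0)⁻¹) * σ⁻¹ by group,
      hd, hconjf, hc0, ← hr2, hs3])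
  set cX : X := ⟨γ, hγX⟩ with hcX
  set nX : X := ⟨n, hEX hnE⟩ with hnX
  have hW : IsPGroup 2 (zpowers cX ⊔ zpowers nX : Subgroup X) := by
    have hp : ∀ z : X, z * z = 1 → IsPGroup 2 (zpowers z) := fun z hz => by
      rcases (Nat.dvd_prime Nat.prime_two).1 (orderOf_dvd_of_pow_eq_one (x := z) (n := 2) (by rw [pow_two, hz])) with h | h
      · exact IsPGroup.of_card (n := 0) (by rw [Nat.card_zpowers, h, pow_zero])
      · exact IsPGroup.of_card (n := 1) (by rw [Nat.card_zpowers, h, pow_one])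
    refine (hp _ (Subtype.ext hγ2)).to_sup_of_normal_left' (hp _ (Subtype.ext hnn)) ?_
    refine zpowers_le.2 (mem_normalizer_of_comm ?_)
    rintro _ ⟨m, rfl⟩
    exact ((show Commute cX nX from Subtype.ext hγn).zpow_left m).eq
  obtain ⟨Q', hQ'⟩ := hW.exists_le_sylow
  obtain ⟨k, hk⟩ := MulAction.exists_smul_eq X Q' Q
  have hin : ∀ z ∈ (zpowers cX ⊔ zpowers nX : Subgroup X), ((k : G) * z * (k : G)⁻¹) ∈ E := fun z hz => by
    have h : MulAut.conj k z ∈ (Q : Subgroup X) := by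
      rw [← hk, Sylow.coe_subgroup_smul]
      exact smul_mem_pointwise_smul z (MulAut.conj k) _ (hQ' hz)
    simpa using mem_subgroupOf.1 (hmax h)
  obtain ⟨k1, k2⟩ := (hX _).1 k.2
  have hkr : ∀ z r : G, (k : G) * r = r * k → (k : G) * z * (k : G)⁻¹ = r → z = r := fun z r hr h => by
    rw [show z = (k : G)⁻¹ * ((k : G) * z * (k : G)⁻¹) * k by group, h, mul_assoc, ← hr, inv_mul_cancel_left]
  have hdn' : ∀ z w : X, (∃ g, g * n * g⁻¹ = (z : G)) → (z : G) ≠ r1 → (z : G) ≠ r2 →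
      z ∈ (zpowers cX ⊔ zpowers nX : Subgroup X) → (k : G) * z * (k : G)⁻¹ = d ∨ (k : G) * z * (k : G)⁻¹ = n := by
    intro z _ ⟨g, hg⟩ hz1 hz2 hz
    rcases hrefl _ (hin z hz) ⟨k * g, by rw [← hg]; group⟩ with h | h | h | h
    · exact Or.inl h
    · exact absurd (hkr _ _ k1 h) hz1
    · exact absurd (hkr _ _ k2 h) hz2
    · exact Or.inr h
  have hcg : ∃ g, g * n * g⁻¹ = γ := by
    obtain ⟨g, hg⟩ := hdref
    exact ⟨σ * g, by rw [hγ, ← hg]; group⟩
  have hnr : n ≠ r1 ∧ n ≠ r2 := ⟨fun h => by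
      rw [h, hr1, ← F.c, mul_inv_cancel_right] at hne
      exact heinv hne.symm, fun h => by
      rw [h, hr2, ← F.c, mul_inv_cancel_right] at hne
      exact heinv hne.symm⟩
  have hhG : (hX' : G) * γ * (hX' : G)⁻¹ = n := congrArg Subtype.val hh
  set m : X := k * hX' * k⁻¹ with hm
  have hmc : (m : G) * ((k : G) * γ * (k : G)⁻¹) * (m : G)⁻¹ = (k : G) * n * (k : G)⁻¹ := by
    rw [← hhG, hm]
    simp only [Subgroup.coe_mul, InvMemClass.coe_inv]
    group
  rcases hdn' cX cX hcg hne'.1 hne'.2.1 (mem_sup_left (mem_zpowers cX)) with h1 | h1 <;>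
    rcases hdn' nX nX ⟨1, by simp [hnX]⟩ hnr.1 hnr.2 (mem_sup_right (mem_zpowers nX)) with h2 | h2
  · exact hne'.2.2 (mul_left_cancel (mul_right_cancel (h1.trans h2.symm)))
  · simp only [hcX, hnX] at h1 h2
    rw [h1, h2] at hmc
    exact hdn _ m.2 hmc
  · simp only [hcX, hnX] at h1 h2
    rw [h1, h2] at hmc
    refine hdn _ (inv_mem m.2) ?_
    rw [← hmc]; group
  · exact hne'.2.2 (mul_left_cancel (mul_right_cancel (h1.trans h2.symm)))

/-- The transposition across two blocks commutes with its shift. -/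
theorem cross_comm :
    Commute (f t03) (φ (wM sigW) * f t03 * (φ (wM sigW))⁻¹) := by
  classical
  obtain ⟨-, ⟨hdw, hdv, hdb, hdk⟩, -, -, -, -, ⟨qv, hqv, hqv'⟩, -⟩ := cross_six
  obtain ⟨hfixR, ⟨-, -, -, -, -⟩, ⟨hra, hrv, hrs, hr2, hr1, h111, -⟩, -⟩ := cross_model
  set e := φ (jM (0, 0, 1)) with he
  set ρ := φ (wM rhoW) with hρ
  set σ := φ (wM sigW) with hσ
  set d := f t03 with hd
  set v := φ (jM (1, 2, 0)) with hv
  obtain ⟨g0, hg0a, hg0d, hg0e⟩ := D.exists_moving S6 F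
  obtain ⟨π, hπs, hπk⟩ := D.quot
  let L : Subgroup G := centralizer ({a} : Set G) ⊓ centralizer ({d} : Set G)
  have hρd : ρ * d = d * ρ := by rw [hρ, ← D.f_cw S6 F, hd, ← map_mul, ← map_mul, hdw]
  have hρa : ρ * a = a * ρ := by rw [hρ, ← D.a_eq, ← D.hmul, ← D.hmul, hra]
  have hρL : ρ ∈ L := ⟨mem_centralizer_singleton_iff.2 hρa, mem_centralizer_singleton_iff.2 hρd⟩
  have heL : e ∈ L := ⟨mem_centralizer_singleton_iff.2 (by rw [he, ← D.a_eq]; exact D.jcomm _ _),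
    mem_centralizer_singleton_iff.2 (F.c _)⟩
  have hg0L : g0 ∈ L := ⟨mem_centralizer_singleton_iff.2 hg0a, mem_centralizer_singleton_iff.2 hg0d⟩
  -- a rotation takes `d` to the other two
  have hu : φ (jM (1, 1, 0)) = f (cb * cc) := D.e110 S6 F
  have hLρ : ∀ g ∈ L, g * ρ = ρ * g := by
    intro g hg
    have ga : Commute g a := mem_centralizer_singleton_iff.1 hg.1
    have gd : Commute g d := mem_centralizer_singleton_iff.1 hg.2
    have hrot : cw = t03 * (cb * cc * t03 * (cb * cc)⁻¹) *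
        (cb * cc * (cb * cc * t03 * (cb * cc)⁻¹) * (cb * cc)⁻¹) := by decide +kernel
    have hca : ∀ s : P6, a * f s * a⁻¹ = f (cb * cc * s * (cb * cc)⁻¹) := fun s => by
      rw [← D.a_eq, ← h111, D.hmul, hu, ← he, mul_inv_rev,
        show f (cb * cc) * e * f s * (e⁻¹ * (f (cb * cc))⁻¹) = f (cb * cc) * (e * f s * e⁻¹) * (f (cb * cc))⁻¹ by
          group, F.c, mul_inv_cancel_right, map_mul f (cb * cc * s), map_mul f (cb * cc) s, map_inv]
    have hgs : ∀ s : P6, Commute g (f s) → Commute g (f (cb * cc * s * (cb * cc)⁻¹)) := fun s h => by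
      rw [← hca]
      exact (ga.mul_right h).mul_right ga.inv_right
    rw [hρ, ← D.f_cw S6 F, hrot, map_mul f (t03 * _), map_mul f t03]
    exact ((gd.mul_right (hgs _ gd)).mul_right (hgs _ (hgs _ gd))).eq
  -- `L` meets `R` trivially
  have hLR : ∀ r ∈ L, r ∈ R → r = 1 := by
    intro r hrL hrR
    obtain ⟨x, i, hx, rfl⟩ := D.R_elems hrR
    have h := hLρ _ hrL
    rw [hρ, ← D.hmul, ← D.hmul] at h
    obtain ⟨k, hk⟩ := hfixR x i hx (D.inj _ _ (inL_all _) (inL_all _) h).symm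
    have hrd := mem_centralizer_singleton_iff.1 hrL.2
    rw [hk, (D.map_pow (inL_all _) _).2, ← h111, D.hmul, hu,
      (show Commute (f (cb * cc)) (φ (jM (0, 0, 1))) from (F.c _).symm).mul_pow] at hrd
    have h2 : (cb * cc) ^ k.val * t03 = t03 * (cb * cc) ^ k.val := by
      refine D.e3_comm_iff S6 F (i := k) ?_
      rw [_root_.map_pow]
      exact hrd
    rw [hk, hdk k h2]
    exact (congrArg φ (pow_zero _)).trans D.one
  have hinjL : ∀ g h : ↥(centralizer ({a} : Set G)), (g : G) ∈ L → (h : G) ∈ L → π g = π h → g = h := by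
    intro g h hg hh e'
    refine Subtype.ext (mul_inv_eq_one.1 (hLR _ (mul_mem hg (inv_mem hh)) ((hπk (g * h⁻¹)).1 ?_)))
    rw [_root_.map_mul, _root_.map_inv, e', mul_inv_cancel]
  set L' := (L.subgroupOf (centralizer ({a} : Set G))).map π with hL'
  let eC : ↥(centralizer ({a} : Set G)) := ⟨e, heL.1⟩
  let gC : ↥(centralizer ({a} : Set G)) := ⟨g0, hg0L.1⟩
  let rC : ↥(centralizer ({a} : Set G)) := ⟨ρ, hρL.1⟩
  have hin : ∀ c : ↥(centralizer ({a} : Set G)), (c : G) ∈ L → π c ∈ L' := fun c hc => ⟨c, hc, rfl⟩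
  have hneg : π rC = negOne := by
    refine (sl_invol _ ?_).resolve_left fun h => ?_
    · rw [← _root_.map_mul, show rC * rC = 1 from Subtype.ext (by
        show ρ * ρ = 1
        rw [hρ, ← D.hmul, hr2, D.one]), _root_.map_one]
    · exact hr1 (D.eq_one (inL_all _) (hLR ρ hρL ((hπk rC).1 h)))
  have he3 : e ^ 3 = 1 := D.jcube _
  have hx3 : (π eC) ^ 3 = 1 := by
    rw [← _root_.map_pow, show eC ^ 3 = 1 from Subtype.ext he3, _root_.map_one]
  have hx1 : π eC ≠ 1 := fun h => cross_aux.1 (D.jinj ((hLR e heL ((hπk eC).1 h)).trans D.jzero.symm))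
  have hxy : π eC * π gC ≠ π gC * π eC := fun h => hg0e (by
    rw [← _root_.map_mul, ← _root_.map_mul] at h
    exact (congrArg Subtype.val (hinjL (eC * gC) (gC * eC) (mul_mem heL hg0L) (mul_mem hg0L heL) h)).symm)
  have htop : L' = ⊤ := by
    have hmem : ∀ q : Bool × Fin 3 × Fin 3, (if q.1 then negOne else 1) * π eC ^ q.2.1.val *
        (π gC * π eC * (π gC)⁻¹) ^ q.2.2.val ∈ L' := fun q => by
      refine mul_mem (mul_mem ?_ (pow_mem (hin _ heL) _))
        (pow_mem (mul_mem (mul_mem (hin _ hg0L) (hin _ heL)) (inv_mem (hin _ hg0L))) _)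
      split_ifs
      · rw [← hneg]; exact hin _ hρL
      · exact one_mem _
    have h18 := sl_gen _ hx3 hx1 _ hxy
    have hle : 18 ≤ Nat.card L' := by
      rw [← h18, Nat.card_eq_fintype_card]
      refine Finset.card_le_card_of_injOn (t := Finset.univ.map ⟨Subtype.val, Subtype.val_injective⟩ ) id
        (fun z hz => ?_) (fun _ _ _ _ h => h) |>.trans (le_of_eq (Finset.card_map _))
      obtain ⟨q, -, rfl⟩ := Finset.mem_image.1 hz
      exact Finset.mem_coe.2 (Finset.mem_map.2 ⟨⟨_, hmem q⟩, Finset.mem_univ _, rfl⟩)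
    have h24 : Nat.card SL3 = 24 := by rw [Nat.card_eq_fintype_card]; decide +kernel
    refine eq_top_of_card_eq _ ?_
    have hd24 := card_subgroup_dvd_card L'
    rw [h24] at hd24 ⊢
    have := Nat.le_of_dvd (by norm_num) hd24
    obtain ⟨m, hm⟩ := hd24
    rcases (show m = 0 ∨ m = 1 ∨ 2 ≤ m by omega) with rfl | rfl | hm2
    · simp at hm
    · omega
    · have := Nat.mul_le_mul hle hm2
      omega
  obtain ⟨c, hc, hcs⟩ := D.exists_sig_conj
  obtain ⟨g, hg, hgc⟩ : π ⟨c, hc⟩ ∈ L' := by rw [htop]; exact mem_top _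
  have hgL : (g : G) ∈ L := hg
  have hr : (g : G)⁻¹ * c ∈ R := (hπk (g⁻¹ * ⟨c, hc⟩)).1 (by
    rw [_root_.map_mul, _root_.map_inv, hgc, inv_mul_cancel])
  obtain ⟨z, hz, hzv⟩ : ∃ z ∈ zpowers a, (g : G)⁻¹ * c * v * ((g : G)⁻¹ * c)⁻¹ = z * v :=
    ⟨_, D.comm _ hr v (D.plane_R _ (by decide +kernel)), by group⟩
  have hzc : ∀ x : G, Commute x a → z * x = x * z := fun x hx => by
    obtain ⟨m, rfl⟩ := hz
    exact ((hx.zpow_right m).eq).symm
  have hga : Commute (g : G) a := mem_centralizer_singleton_iff.1 hgL.1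
  have hgv : (g : G) * v * (g : G)⁻¹ = z⁻¹ * σ := by
    rw [hσ, ← hcs, ← hv, show c * v * c⁻¹ = (g : G) * ((g : G)⁻¹ * c * v * ((g : G)⁻¹ * c)⁻¹) * (g : G)⁻¹ by
      group, hzv, show (g : G) * (z * v) * (g : G)⁻¹ = ((g : G) * z) * v * (g : G)⁻¹ by group, ← hzc _ hga]
    group
  have hρg : Commute ρ (g : G) := (hLρ _ hgL).symm
  have hρz : ρ * z * ρ⁻¹ = z := by rw [← hzc ρ hρa, mul_inv_cancel_right]
  have hρv : ρ * v * ρ⁻¹ = v⁻¹ := by rw [hρ, hv, D.hconjM, hrv, D.hinv]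
  have hρσ : ρ * σ * ρ⁻¹ = σ⁻¹ := by rw [hρ, hσ, D.hconjM, hrs, D.hinv]
  have hσa : Commute σ a := mem_centralizer_singleton_iff.1 (D.le D.shift_R)
  have hz1 : z = 1 := by
    have h1 : ρ * ((g : G) * v * (g : G)⁻¹) * ρ⁻¹ = ((g : G) * v * (g : G)⁻¹)⁻¹ := by
      rw [show ρ * ((g : G) * v * (g : G)⁻¹) * ρ⁻¹ = (ρ * g) * v * ((g : G)⁻¹ * ρ⁻¹) by group, hρg.eq,
        ← mul_inv_rev, hρg.eq, mul_inv_rev,
        show (g : G) * ρ * v * (ρ⁻¹ * (g : G)⁻¹) = g * (ρ * v * ρ⁻¹) * (g : G)⁻¹ by group, hρv]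
      group
    rw [hgv, mul_inv_rev, inv_inv, show ρ * (z⁻¹ * σ) * ρ⁻¹ = (ρ * z * ρ⁻¹)⁻¹ * (ρ * σ * ρ⁻¹) by group,
      hρz, hρσ, ← hzc _ hσa.inv_left] at h1
    have h2 : z⁻¹ = z := mul_right_cancel h1
    have h3 : z ^ 3 = 1 := by
      obtain ⟨m, rfl⟩ := hz
      show (a ^ m) ^ 3 = 1
      rw [← zpow_natCast, ← zpow_mul, mul_comm, zpow_mul, zpow_natCast,
        show a ^ 3 = 1 from D.order ▸ pow_orderOf_eq_one a, one_zpow]
    rw [pow_succ, pow_two] at h3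
    nth_rewrite 1 [← h2] at h3
    rwa [inv_mul_cancel, one_mul] at h3
  rw [hz1, inv_one, one_mul] at hgv
  have hvd : Commute d (v * d * v⁻¹) := by
    rw [hv, ← hqv', ← F.agree, hqv, hd, ← map_inv, ← map_mul, ← map_mul]
    exact (show Commute t03 _ from hdv).map f
  have hgd : (g : G) * d * (g : G)⁻¹ = d := by
    rw [mem_centralizer_singleton_iff.1 hgL.2, mul_inv_cancel_right]
  have := hvd.map (MulAut.conj (g : G)).toMonoidHom
  simp only [MulEquiv.coe_toMonoidHom, MulAut.conj_apply] at this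
  rwa [hgd, show (g : G) * (v * d * v⁻¹) * (g : G)⁻¹ =
    (g : G) * v * (g : G)⁻¹ * ((g : G) * d * (g : G)⁻¹) * ((g : G) * v * (g : G)⁻¹)⁻¹ by group, hgd, hgv] at this

end Big

end Loc

end Cfsg.Agent.SpThreeCent
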