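import Cfsg.Prelude
import Cfsg.Agent.Lib.NineSym.Model
import Cfsg.Agent.Lib.NineSym.Frame
import Cfsg.Agent.Lib.PSpAmalgam.Defs

/-!
# A `3`-element with centralizer `3^(1+2) : SL₂(3)`: the coordinates

`J` is the elementary abelian subgroup, `φ` coordinates on its normalizer by the model of the signed
permutations of three blocks of three, with `a` the product of the three cycles; the flags say which
of the inversion and the even sign changes occur in the normalizer.
-/

set_option autoImplicit false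

namespace Cfsg.Agent.SpThreeCent

open Subgroup
open Cfsg.Agent.NineSym (Mn V3 InL Wok jM wM wact)
open Cfsg.Agent.PSpAmalgam (SL3)

/-- The hypotheses on the centralizer of `a` with `R` its largest normal `3`-subgroup. -/
structure CentData {G : Type*} [Group G] (a : G) (R : Subgroup G) : Prop where
  order : orderOf a = 3
  card : Nat.card (centralizer ({a} : Set G)) = 648
  card_R : Nat.card R = 27
  le : R ≤ centralizer ({a} : Set G)
  norm : centralizer ({a} : Set G) ≤ normalizer (R : Set G)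
  mem : a ∈ R
  exp : ∀ x ∈ R, x ^ 3 = 1
  center : ∀ x ∈ R, (∀ y ∈ R, x * y = y * x) → x ∈ zpowers a
  comm : ∀ x ∈ R, ∀ y ∈ R, x * y * x⁻¹ * y⁻¹ ∈ zpowers a
  nat : ∀ g ∈ centralizer ({a} : Set G), (∀ x ∈ R, g * x * g⁻¹ * x⁻¹ ∈ zpowers a) → g ∈ R
  quot : ∃ π : ↥(centralizer ({a} : Set G)) →* SL3,
    Function.Surjective π ∧ ∀ g : ↥(centralizer ({a} : Set G)), π g = 1 ↔ (g : G) ∈ R

/-- Coordinates on the normalizer of `J`; only the part of `C(a)` inside it is described. -/
structure Loc {G : Type*} [Group G] (a : G) (R J : Subgroup G) (ci cd : Bool) (φ : Mn → G) : Prop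
    extends CentData a R where
  hom : ∀ p q, InL ci cd p → InL ci cd q → φ (p * q) = φ p * φ q
  inj : ∀ p q, InL ci cd p → InL ci cd q → φ p = φ q → p = q
  memJ : ∀ g, g ∈ J ↔ ∃ v, φ (jM v) = g
  mem_norm : ∀ p, InL ci cd p → φ p ∈ normalizer (J : Set G)
  norm_eq : ∀ g ∈ normalizer (J : Set G), ∃ p, InL ci cd p ∧ φ p = g
  a_eq : φ (jM (1, 1, 1)) = a
  cent_norm : ∀ g ∈ normalizer (J : Set G), g * a = a * g → ∃ p, InL false false p ∧ φ p = g
  self : ∀ g, (∀ j ∈ J, g * j = j * g) → g ∈ J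
  sig : ∀ K : Subgroup G, (Nat.card K).Coprime 3 → J ≤ normalizer (K : Set G) → K = ⊥
  fus : ∀ (u v : V3) (g : G), g * φ (jM u) * g⁻¹ = φ (jM v) → ∃ p, InL ci cd p ∧ wact p.w u = v
  weak : ∀ K : Subgroup G, IsPGroup 3 K → J ≤ K → ∀ g : G, (∀ j ∈ J, g * j * g⁻¹ ∈ K) →
    g ∈ normalizer (J : Set G)
  plane_R : ∀ v : V3, v.1 + v.2.1 + v.2.2 = 0 → φ (jM v) ∈ R
  shift_R : φ (wM ⟨false, 0, 1⟩) ∈ R

end Cfsg.Agent.SpThreeCent
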