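import Cfsg.Agent.Lib.SpThreeCent.BigHom
import Cfsg.Agent.Lib.SpThreeCent.Setup
import Cfsg.Agent.Lib.SpThreeCent.SixEnd.Interface

/-!
# The classes and the elements of order three of the embedded model
-/

set_option autoImplicit false
set_option linter.style.haveILetI false
set_option linter.unusedSectionVars false
set_option maxRecDepth 100000
set_option synthInstance.maxSize 10000

namespace Cfsg.Agent.SpThreeCent

open Subgroup
open Cfsg.Agent.NineSym
open Cfsg.Agent.ExtraTwoNine.CoordPerm (P6)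
open SymSix (cb cc ct cw)
open SixEnd (rep tvS)

theorem cube_form : ∀ p : Mn, InL false false p → p ^ 3 = 1 →
    p.w = 1 ∨ ∃ (v : V3) (i : Fin 3), v.1 + v.2.1 + v.2.2 = 0 ∧ p = jM v * wM sigW ^ i.val ∧
      (p.w = sigW ∨ p.w = sigW * sigW) ∧ p.v.1 + p.v.2.1 + p.v.2.2 = 0 := by
  decide +kernel

variable {G : Type*} [Group G] [Finite G] {a : G} {R J : Subgroup G} {φ : Mn → G}

namespace Loc

variable (D : Loc a R J true true φ)
include D

theorem big_jdata : JData a R J := by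
  refine ⟨fun x hx => ?_, fun x hx y hy => D.J_comm hx hy, fun x hx => D.J_cube hx, D.J_card⟩
  rw [mem_centralizer_singleton_iff]
  obtain ⟨v, rfl⟩ := (D.memJ x).1 hx
  rw [← D.a_eq]
  exact D.jcomm _ _

theorem R_le_norm : R ≤ normalizer (J : Set G) := fun r hr => by
  obtain ⟨v, i, -, rfl⟩ := D.R_elems hr
  exact D.mem_norm _ (inL_all _)

/-- An element of order three of `R ⊔ J` is conjugate under `C(a)` into `J`. -/
theorem cube_to_J {x : G} (hx : x ∈ R ⊔ J) (h3 : x ^ 3 = 1) :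
    ∃ c ∈ centralizer ({a} : Set G), c * x * c⁻¹ ∈ J := by
  obtain ⟨htab, hcent, -⟩ := sig_facts
  have hxN : x ∈ normalizer (J : Set G) := (sup_le D.R_le_norm le_normalizer) hx
  have hxa : x * a = a * x := mem_centralizer_singleton_iff.1 ((card_sup D.toCentData D.big_jdata).2 hx)
  obtain ⟨p, hp, rfl⟩ := D.cent_norm x hxN hxa
  rcases cube_form p hp (D.pow_eq_one (inL_all _) h3) with h | ⟨-, -, -, -, hw, hv⟩
  · exact ⟨1, one_mem _, by rw [one_mul, inv_one, mul_one]; exact D.mem_of_w h⟩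
  · obtain ⟨q, hq, hqp⟩ := htab p hw hv
    obtain ⟨c, hc, hcs⟩ := D.exists_sig_conj
    refine ⟨c⁻¹ * φ q, mul_mem (inv_mem hc) (mem_centralizer_singleton_iff.2 (by
      rw [← D.a_eq, ← D.hmul, ← D.hmul, hcent q hq])), ?_⟩
    rw [show c⁻¹ * φ q * φ p * (c⁻¹ * φ q)⁻¹ = c⁻¹ * (φ q * φ p * (φ q)⁻¹) * c by group, D.hconjM, hqp, ← hcs]
    rw [show c⁻¹ * (c * φ (jM (1, 2, 0)) * c⁻¹) * c = φ (jM (1, 2, 0)) by group]
    exact D.memj _

variable {K : Subgroup G} (S6 : SixData J φ K) {f : P6 →* G} (F : SixMap φ K f)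
include S6 F

variable (Θ : SixEnd.S →* G) (hΘi : Function.Injective Θ) (hΘ : ∀ i, Θ (SixEnd.node i) = nodeG φ f i)
include hΘi hΘ

/-- The elements of order three of the image do not move outside. -/
theorem emb_move (σ : SixEnd.S) (hσ : orderOf σ = 3) (g : G) (hg : g * Θ σ * g⁻¹ ∈ Θ.range) :
    g ∈ Θ.range := by
  haveI : Fact (Nat.Prime 3) := ⟨Nat.prime_three⟩
  set M := Θ.range with hM
  have hMcard : Nat.card M = 1451520 := by
    rw [hM, ← Nat.card_congr (MonoidHom.ofInjective hΘi).toEquiv]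
    exact SixEnd.card_S
  obtain ⟨h81, hsupC⟩ := card_sup D.toCentData D.big_jdata
  have hPM : R ⊔ J ≤ M := hsupC.trans (D.emb_cent_a S6 F Θ hΘi hΘ)
  obtain ⟨Q, hQ⟩ := ((IsPGroup.of_card (p := 3) (n := 4) (by rw [h81]; norm_num) :
      IsPGroup 3 (R ⊔ J : Subgroup G)).of_equiv (subgroupOfEquivOfLe hPM).symm).exists_le_sylow
  have hQeq : (Q : Subgroup M) = (R ⊔ J).subgroupOf M := by
    refine (eq_of_le_of_card_ge hQ ?_).symm
    rw [Nat.card_congr (subgroupOfEquivOfLe hPM).toEquiv, h81]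
    obtain ⟨n, hn⟩ := IsPGroup.iff_card.1 Q.2
    have hd := card_subgroup_dvd_card (Q : Subgroup M)
    rw [hMcard, hn] at hd
    rw [hn]
    have : n ≤ 4 := by
      by_contra h
      have := (pow_dvd_pow 3 (show 5 ≤ n by omega)).trans hd
      norm_num at this
    exact le_trans (Nat.pow_le_pow_right (by norm_num) this) (by norm_num)
  -- conjugation into `J`
  have into : ∀ x ∈ M, x ^ 3 = 1 → ∃ m ∈ M, m * x * m⁻¹ ∈ J := by
    intro x hx h3
    have hp : IsPGroup 3 (zpowers (⟨x, hx⟩ : M)) := by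
      rcases (Nat.dvd_prime Nat.prime_three).1 (orderOf_dvd_of_pow_eq_one (x := (⟨x, hx⟩ : M)) (n := 3)
        (Subtype.ext (by simpa using h3))) with h | h
      · exact IsPGroup.of_card (n := 0) (by rw [Nat.card_zpowers, h, pow_zero])
      · exact IsPGroup.of_card (n := 1) (by rw [Nat.card_zpowers, h, pow_one])
    obtain ⟨P, hP⟩ := hp.exists_le_sylow
    obtain ⟨m, hm⟩ := MulAction.exists_smul_eq M P Q
    have hin : (m : G) * x * (m : G)⁻¹ ∈ R ⊔ J := by
      have h : MulAut.conj m (⟨x, hx⟩ : M) ∈ (Q : Subgroup M) := by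
        rw [← hm, Sylow.coe_subgroup_smul]
        exact smul_mem_pointwise_smul _ (MulAut.conj m) _ (hP (mem_zpowers _))
      rw [hQeq] at h
      simpa using mem_subgroupOf.1 h
    obtain ⟨c, hc, hcJ⟩ := D.cube_to_J hin (by rw [conj_pow, h3, mul_one, mul_inv_cancel])
    refine ⟨c * m, mul_mem (D.emb_cent_a S6 F Θ hΘi hΘ hc) m.2, ?_⟩
    rwa [show c * (m : G) * x * (c * (m : G))⁻¹ = c * ((m : G) * x * (m : G)⁻¹) * c⁻¹ by group]
  have h3 : Θ σ ^ 3 = 1 := by rw [← _root_.map_pow, ← hσ, pow_orderOf_eq_one, _root_.map_one]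
  obtain ⟨m1, hm1, hu⟩ := into (Θ σ) ⟨σ, rfl⟩ h3
  obtain ⟨m2, hm2, hv⟩ := into (g * Θ σ * g⁻¹) hg (by rw [conj_pow, h3, mul_one, mul_inv_cancel])
  obtain ⟨u, hu⟩ := (D.memJ _).1 hu
  obtain ⟨v, hv⟩ := (D.memJ _).1 hv
  have hu0 : u ≠ 0 := fun h => by
    rw [h, D.jzero, eq_comm, conj_eq_one_iff] at hu
    rw [hΘi (hu.trans Θ.map_one.symm), orderOf_one] at hσ
    norm_num at hσ
  have hgm := D.emb_fus S6 F Θ hΘi hΘ hu0 (g := m2 * g * m1⁻¹) (v := v) (by
    rw [hu, hv]; group)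
  have := mul_mem (mul_mem (inv_mem hm2) hgm) hm1
  rwa [show m2⁻¹ * (m2 * g * m1⁻¹) * m1 = g by group] at this

/-- The representatives correspond to a reflection, a product of two, three and the inversion. -/
theorem emb_rep : ∃ h : G,
    Θ (rep 0) = φ (wM sigW) * φ (wM nCw) * (φ (wM sigW))⁻¹ ∧ Θ (rep 1) = φ (wM zW) ∧
      Θ (rep 2) = h * φ (wM rhoW) * h⁻¹ ∧ Θ (rep 3) = φ (wM invW) := by
  obtain ⟨-, -, -, -, -, -, ⟨c1, hc1⟩⟩ := klein_six
  obtain ⟨h8, h16, h24, -, -, -, -⟩ := D.emb_values S6 F Θ hΘi hΘ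
  have h20 := D.emb_twenty S6 F Θ hΘi hΘ
  change Θ (tvS 8) = _ at h8
  change Θ (tvS 16) = _ at h16
  change Θ (tvS 24) = _ at h24
  change Θ (tvS 20) = _ at h20
  refine ⟨(f c1)⁻¹, ?_, ?_, ?_, ?_⟩
  · show Θ (tvS 8) = _
    rw [h8, D.f12 S6 F, D.hconjM, cross_model.2.1.1]
  · show Θ (tvS 8 * tvS 16) = _
    rw [map_mul, h8, h16, ← map_mul, D.f1245 S6 F]
  · show Θ (tvS 8 * tvS 16 * tvS 24) = _
    rw [map_mul, map_mul, h8, h16, h24, ← D.f_cw S6 F, ← hc1, ← map_mul, ← map_mul, map_mul f (c1 * _),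
      map_mul f c1, map_inv, inv_inv,
      (by decide +kernel : Equiv.swap 1 2 * Equiv.swap 4 5 * t03 = (t03 * Equiv.swap 1 2 * Equiv.swap 4 5 : P6))]
    group
  · show Θ (tvS 8 * tvS 16 * tvS 20) = _
    rw [map_mul, map_mul, h8, h16, h20, D.f12 S6 F, D.f45 S6 F, ← D.hmul, ← D.hmul]
    exact congrArg φ (by decide +kernel)

/-- The four classes stay apart. -/
theorem emb_ne (i j : Fin 4) (g : G) (hg : g * Θ (rep i) * g⁻¹ = Θ (rep j)) : i = j := by
  obtain ⟨h, h0, h1, h2, h3⟩ := D.emb_rep S6 F Θ hΘi hΘ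
  let W : Fin 4 → Mn := ![wM nCw, wM zW, wM rhoW, wM invW]
  have hW : ∀ k, ∃ u, Θ (rep k) = u * φ (W k) * u⁻¹ := by
    intro k
    fin_cases k
    · exact ⟨_, h0⟩
    · exact ⟨1, by rw [one_mul, inv_one, mul_one]; exact h1⟩
    · exact ⟨h, h2⟩
    · exact ⟨1, by rw [one_mul, inv_one, mul_one]; exact h3⟩
  obtain ⟨u, hu⟩ := hW i
  obtain ⟨w, hw⟩ := hW j
  have key : w⁻¹ * g * u * φ (W i) * (w⁻¹ * g * u)⁻¹ = φ (W j) := by
    rw [show w⁻¹ * g * u * φ (W i) * (w⁻¹ * g * u)⁻¹ = w⁻¹ * (g * (u * φ (W i) * u⁻¹) * g⁻¹) * w by group,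
      ← hu, hg, hw]
    group
  have sym : ∀ x y : G, (∀ k : G, k * x * k⁻¹ ≠ y) → ∀ k : G, k * y * k⁻¹ ≠ x := fun x y hxy k e =>
    hxy k⁻¹ (by rw [← e]; group)
  generalize w⁻¹ * g * u = k at key
  fin_cases i <;> fin_cases j <;>
    simp only [W, Fin.zero_eta, Fin.mk_one, Fin.reduceFinMk, Matrix.cons_val] at key <;> first
      | rfl
      | exact absurd key (D.refl_ne_z S6 F k)
      | exact absurd key (sym _ _ (D.refl_ne_z S6 F) k)
      | exact absurd key (D.refl_ne_rho k)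
      | exact absurd key (sym _ _ D.refl_ne_rho k)
      | exact absurd key (D.refl_ne_inv k)
      | exact absurd key (sym _ _ D.refl_ne_inv k)
      | exact absurd key (D.rho_ne_z S6 F k)
      | exact absurd key (sym _ _ (D.rho_ne_z S6 F) k)
      | exact absurd key (D.rho_ne_inv k)
      | exact absurd key (sym _ _ D.rho_ne_inv k)
      | exact absurd key (D.z_ne_inv S6 F k)
      | exact absurd key (sym _ _ (D.z_ne_inv S6 F) k)

end Loc

end Cfsg.Agent.SpThreeCent
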