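import Cfsg.Agent.Lib.SpThreeCent.Defs
import Cfsg.Agent.Lib.NineSym.Six

/-!
# Local consequences of the coordinates on the normalizer of `J`

The arguments of `Lib/NineSym` redone for a frame in which the centralizer of `a` is larger than its
intersection with the normalizer.
-/

set_option autoImplicit false
set_option linter.style.haveILetI false
set_option linter.unusedSectionVars false
set_option maxRecDepth 100000
set_option synthInstance.maxSize 10000

namespace Cfsg.Agent.SpThreeCent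

open Subgroup
open Cfsg.Agent.NineSym hiding inL_all wok_all

variable {G : Type*} [Group G] [Finite G] {a : G} {R J : Subgroup G} {ci cd : Bool} {φ : Mn → G}

namespace Loc

variable (D : Loc a R J ci cd φ)
include D

theorem one : φ 1 = 1 := by
  have h := D.hom 1 1 (inL_facts ci cd).1 (inL_facts ci cd).1
  rw [mul_one] at h
  exact mul_eq_left.1 h.symm

theorem inv' {p : Mn} (hp : InL ci cd p) : φ p⁻¹ = (φ p)⁻¹ := by
  refine eq_inv_of_mul_eq_one_left ?_
  rw [← D.hom _ _ ((inL_facts ci cd).2.2.2 p hp) hp, inv_mul_cancel, D.one]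

theorem conj' {p q : Mn} (hp : InL ci cd p) (hq : InL ci cd q) : φ (p * q * p⁻¹) = φ p * φ q * (φ p)⁻¹ := by
  rw [D.hom _ _ ((inL_facts ci cd).2.2.1 _ _ hp hq) ((inL_facts ci cd).2.2.2 p hp), D.hom _ _ hp hq, D.inv' hp]

theorem act' {p : Mn} (hp : InL ci cd p) (v : V3) : φ p * φ (jM v) * (φ p)⁻¹ = φ (jM (wact p.w v)) := by
  rw [← D.conj' hp ((inL_facts ci cd).2.1 v), conj_jM]

theorem eq_one {p : Mn} (hp : InL ci cd p) (h : φ p = 1) : p = 1 :=
  D.inj p 1 hp (inL_facts ci cd).1 (h.trans D.one.symm)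

theorem comm' {p q : Mn} (hp : InL ci cd p) (hq : InL ci cd q) (h : φ p * φ q = φ q * φ p) : p * q = q * p :=
  D.inj _ _ ((inL_facts ci cd).2.2.1 _ _ hp hq) ((inL_facts ci cd).2.2.1 _ _ hq hp)
    (by rw [D.hom _ _ hp hq, D.hom _ _ hq hp, h])

theorem map_comm {p q : Mn} (hp : InL ci cd p) (hq : InL ci cd q) (h : p * q = q * p) :
    φ p * φ q = φ q * φ p := by rw [← D.hom _ _ hp hq, h, D.hom _ _ hq hp]

theorem memj (v : V3) : φ (jM v) ∈ J := (D.memJ _).2 ⟨v, rfl⟩

theorem jadd (u v : V3) : φ (jM (u + v)) = φ (jM u) * φ (jM v) := by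
  rw [jM_add, D.hom _ _ ((inL_facts ci cd).2.1 u) ((inL_facts ci cd).2.1 v)]

theorem jinj {u v : V3} (h : φ (jM u) = φ (jM v)) : u = v :=
  congrArg Mn.v (D.inj _ _ ((inL_facts ci cd).2.1 u) ((inL_facts ci cd).2.1 v) h)

theorem jzero : φ (jM 0) = 1 := D.one

theorem jcube (v : V3) : φ (jM v) ^ 3 = 1 := by
  rw [pow_succ, pow_two, ← D.jadd, ← D.jadd,
    (by decide +kernel : ∀ v : V3, v + v + v = 0) v, D.jzero]

theorem jcomm (u v : V3) : φ (jM u) * φ (jM v) = φ (jM v) * φ (jM u) := by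
  rw [← D.jadd, ← D.jadd, add_comm]

theorem J_cube {g : G} (hg : g ∈ J) : g ^ 3 = 1 := by
  obtain ⟨v, rfl⟩ := (D.memJ g).1 hg
  exact D.jcube v

theorem J_comm {g h : G} (hg : g ∈ J) (hh : h ∈ J) : g * h = h * g := by
  obtain ⟨u, rfl⟩ := (D.memJ g).1 hg
  obtain ⟨v, rfl⟩ := (D.memJ h).1 hh
  exact D.jcomm u v

theorem J_isP : IsPGroup 3 J := fun g => ⟨1, Subtype.ext (by simpa using D.J_cube g.2)⟩

theorem J_card : Nat.card J = 27 := by
  rw [← Nat.card_eq_of_bijective (fun v => (⟨φ (jM v), D.memj v⟩ : J))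
    ⟨fun u v e => D.jinj (congrArg Subtype.val e),
      fun g => by obtain ⟨v, hv⟩ := (D.memJ _).1 g.2; exact ⟨v, Subtype.ext hv⟩⟩]
  simp

theorem cJ {g : G} (h : ∀ j ∈ J, g * j = j * g) : g ∈ J := D.self g h

theorem fix_of_comm {p : Mn} (hp : InL ci cd p) {v : V3} (h : φ p * φ (jM v) = φ (jM v) * φ p) :
    wact p.w v = v := D.jinj (by rw [← D.act' hp, h, mul_inv_cancel_right])

theorem mem_of_w {p : Mn} (h : p.w = 1) : φ p ∈ J := by
  obtain ⟨v, w⟩ := p
  simp only at h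
  subst h
  exact D.memj v

theorem sylow_at {C : Subgroup G} (hJC : J ≤ C)
    (h : ∀ p, InL ci cd p → φ p ∈ C → p.w * p.w = 1) : SylowAt C J := by
  refine .of_normalizer hJC D.J_isP fun g hg hgn ⟨k, hk⟩ => ?_
  obtain ⟨p, hp, rfl⟩ := D.norm_eq g hgn
  have hk' : p ^ 3 ^ k = 1 := by
    have hpow : ∀ n : ℕ, InL ci cd (p ^ n) ∧ φ (p ^ n) = φ p ^ n := by
      intro n
      induction n with
      | zero => exact ⟨by rw [pow_zero]; exact (inL_facts ci cd).1, by rw [pow_zero, pow_zero, D.one]⟩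
      | succ n ih =>
        exact ⟨by rw [pow_succ]; exact (inL_facts ci cd).2.2.1 _ _ ih.1 hp,
          by rw [pow_succ, pow_succ, D.hom _ _ ih.1 hp, ih.2]⟩
    exact D.eq_one (hpow _).1 ((hpow _).2.trans hk)
  have hw : ∀ n : ℕ, (p ^ (2 * n)).w = 1 ∧ (p ^ (2 * n + 1)).w = p.w := by
    intro n
    induction n with
    | zero => exact ⟨by rw [Nat.mul_zero, pow_zero]; rfl, by rw [Nat.mul_zero, pow_one]⟩
    | succ n ih =>
      have h1 : (p ^ (2 * (n + 1))).w = 1 := by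
        rw [show 2 * (n + 1) = 2 * n + 1 + 1 by ring, pow_succ]
        show (p ^ (2 * n + 1)).w * p.w = 1
        rw [ih.2, h p hp hg]
      refine ⟨h1, ?_⟩
      rw [pow_succ]
      show (p ^ (2 * (n + 1))).w * p.w = p.w
      rw [h1, (by decide +kernel : ∀ w : Wt, 1 * w = w) p.w]
  obtain ⟨n, hn⟩ : Odd (3 ^ k) := Odd.pow ⟨1, rfl⟩
  have := (hw n).2
  rw [← hn, hk'] at this
  exact D.mem_of_w this.symm

theorem J_sup {C K : Subgroup G} (hdec : ∀ g ∈ C, ∃ k ∈ K, ∃ s ∈ J, g = k * s) (hK : K ≤ normalizer (J : Set G)) :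
    C ≤ normalizer (J : Set G) := fun g hg => by
  obtain ⟨k, hk, s, hs, rfl⟩ := hdec g hg
  exact mul_mem (hK hk) (le_normalizer hs)

/-- At most one reflection normalizing `J` in `C`, whose axis has centralizer in `N(J)`. -/
theorem cent_refl {C : Subgroup G} (hJC : J ≤ C)
    (hone : ∀ p q, InL ci cd p → InL ci cd q → φ p ∈ C → φ q ∈ C → p.w ≠ 1 → q.w ≠ 1 → p.w = q.w)
    (hfix : ∀ p, InL ci cd p → φ p ∈ C → 9 ≤ fixCard p.w)
    (hcf : ∀ p, InL ci cd p → φ p ∈ C → p.w ≠ 1 → ∀ f, f ≠ 0 → wact p.w f = -f →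
      ∀ g ∈ C, g * φ (jM f) = φ (jM f) * g → g ∈ normalizer (J : Set G)) :
    C ≤ normalizer (J : Set G) := by
  classical
  haveI : Fact (Nat.Prime 3) := ⟨Nat.prime_three⟩
  have hsq : ∀ p, InL ci cd p → φ p ∈ C → p.w * p.w = 1 := fun p hp hpC => by
    rcases eq_or_ne p.w 1 with e | e
    · rw [e]; rfl
    · exact (reflection_table.1 p.w (hfix p hp hpC) e).2.1
  have hS := D.sylow_at hJC hsq
  -- the axis
  obtain ⟨f, hf, hf0⟩ : ∃ f : V3, (∀ p, InL ci cd p → φ p ∈ C → p.w ≠ 1 → f ≠ 0 ∧ wact p.w f = -f ∧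
      ∀ v, v + -wact p.w v = 0 ∨ v + -wact p.w v = f ∨ v + -wact p.w v = -f) ∧
      (f ≠ 0 → ∃ p, InL ci cd p ∧ φ p ∈ C ∧ p.w ≠ 1) := by
    by_cases h : ∃ p, InL ci cd p ∧ φ p ∈ C ∧ p.w ≠ 1
    · obtain ⟨p, hp, hpC, hp1⟩ := h
      obtain ⟨-, -, f, h0, h1, h2⟩ := reflection_table.1 p.w (hfix p hp hpC) hp1
      exact ⟨f, fun q hq hqC hq1 => by rw [← hone p q hp hq hpC hqC hp1 hq1]; exact ⟨h0, h1, h2⟩,
        fun _ => ⟨p, hp, hpC, hp1⟩⟩
    · exact ⟨0, fun p hp hpC hp1 => absurd ⟨p, hp, hpC, hp1⟩ h, fun e => absurd rfl e⟩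
  set F := zpowers (φ (jM f)) with hF
  obtain ⟨K, hKC, hCK, hKF, hcomK, hdec, -, hKS⟩ := hS.split (F := F) (fun x hx y hy => D.J_comm hx hy) (by
    intro n hnC hn j hj
    obtain ⟨p, hp, rfl⟩ := D.norm_eq n hn
    obtain ⟨v, rfl⟩ := (D.memJ j).1 hj
    have e : φ (jM v) * φ p * (φ (jM v))⁻¹ * (φ p)⁻¹ = φ (jM (v + -wact p.w v)) := by
      rw [show φ (jM v) * φ p * (φ (jM v))⁻¹ * (φ p)⁻¹ = φ (jM v) * (φ p * φ (jM v) * (φ p)⁻¹)⁻¹ by group,
        D.act' hp, ← D.inv' ((inL_facts ci cd).2.1 _)]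
      rw [D.jadd]
      congr 1
    rw [e]
    rcases eq_or_ne p.w 1 with h | h
    · rw [h, wact_one, add_neg_cancel, D.jzero]; exact one_mem _
    rcases (hf p hp hnC h).2.2 v with h' | h' | h' <;> rw [h']
    · rw [D.jzero]; exact one_mem _
    · exact mem_zpowers _
    · have : φ (jM (-f)) = (φ (jM f))⁻¹ := eq_inv_of_mul_eq_one_left (by rw [← D.jadd, neg_add_cancel, D.jzero])
      rw [this]; exact inv_mem (mem_zpowers _))
  have hJK : J ≤ normalizer (K : Set G) := hJC.trans hCK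
  by_cases hfK : φ (jM f) ∈ K ∧ φ (jM f) ≠ 1
  · obtain ⟨hfK, hf1⟩ := hfK
    have hof : orderOf (φ (jM f)) = 3 := orderOf_eq_prime (D.jcube f) hf1
    obtain ⟨p, hp, hpC, hp1⟩ := hf0 fun e => hf1 (by rw [e, D.jzero])
    obtain ⟨h0, h1, -⟩ := hf p hp hpC hp1
    have hCf : ∀ g ∈ C, g * φ (jM f) = φ (jM f) * g → g ∈ J := by
      intro g hg hgf
      obtain ⟨q, hq, rfl⟩ := D.norm_eq g (hcf p hp hpC hp1 f h0 h1 g hg hgf)
      by_contra hgJ
      have hq1 : q.w ≠ 1 := fun e => hgJ (D.mem_of_w e)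
      obtain ⟨h0', h1', -⟩ := hf q hq hg hq1
      have := D.fix_of_comm hq hgf
      rw [h1'] at this
      exact h0' (neg_eq_self f this)
    have hsmall := self_three_small K ⊥ J (φ (jM f)) hfK hof bot_le (by simp)
      (fun z hz k _ => by rw [mem_bot.1 hz, one_mul, mul_one])
      (fun g hg hgf => by
        obtain ⟨k, hk⟩ := (mem_zpowers_iff.1 (hKF (mem_inf.2 ⟨hg, hCf g (hKC hg) hgf⟩)))
        refine ⟨(k % 3).toNat, 1, one_mem _, ?_⟩
        rw [mul_one, ← zpow_natCast, Int.toNat_of_nonneg (Int.emod_nonneg k (by norm_num)), ← hk]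
        exact zpow_eq_zpow_emod k (by exact_mod_cast D.jcube f))
      D.J_isP hJK (fun R _ hR hJR => (D.sig R hR hJR).le)
    intro g hg
    obtain ⟨k, hk, s, hs, rfl⟩ := hdec g hg
    refine mem_normalizer_iff_map_conj_eq.2 (eq_of_le_of_card_ge ?_ (by
      rw [card_map_of_injective (MulEquiv.injective _)]))
    rintro _ ⟨j, hj, rfl⟩
    show k * s * j * (k * s)⁻¹ ∈ J
    have e : k * s * j * (k * s)⁻¹ = k * j * k⁻¹ := by
      rw [show k * s * j * (k * s)⁻¹ = k * (s * j * s⁻¹) * k⁻¹ by group, D.J_comm hs hj, mul_inv_cancel_right]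
    rw [e]
    refine hCf _ (mul_mem (mul_mem (hKC hk) (hJC hj)) (inv_mem (hKC hk))) ?_
    have hc : ∀ u, u * j = j * u → k * j * k⁻¹ * (k * u * k⁻¹) = k * u * k⁻¹ * (k * j * k⁻¹) := fun u hu => by
      rw [show k * j * k⁻¹ * (k * u * k⁻¹) = k * (j * u) * k⁻¹ by group, ← hu]; group
    rcases hsmall k hk with e' | e'
    · have := hc _ (D.J_comm (D.memj f) hj)
      rwa [e'] at this
    · have := hc _ (D.J_comm (D.memj f) hj)
      rw [e'] at this
      have hc' : Commute (k * j * k⁻¹) (φ (jM f))⁻¹ := this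
      exact (Commute.inv_right_iff.1 hc').eq
  · have hK1 : K = ⊥ := by
      have hbot : K ⊓ J = ⊥ := by
        rw [eq_bot_iff]
        intro y hy
        obtain ⟨k, hk⟩ := mem_zpowers_iff.1 (hKF hy)
        rw [zpow_eq_zpow_emod k (n := 3) (by exact_mod_cast D.jcube f)] at hk
        have hh := Int.emod_nonneg k (show (3 : ℤ) ≠ 0 by norm_num)
        have hh' := Int.emod_lt_of_pos k (show (0 : ℤ) < 3 by norm_num)
        rcases (show k % 3 = 0 ∨ k % 3 = 1 ∨ k % 3 = 2 by omega) with e | e | e <;> rw [e] at hk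
        · rw [zpow_zero] at hk; exact mem_bot.2 hk.symm
        · rw [zpow_one] at hk
          refine mem_bot.2 (hk ▸ by_contra fun hne => hfK ⟨hk ▸ (mem_inf.1 hy).1, hne⟩)
        · refine mem_bot.2 (by_contra fun hne => hfK ⟨?_, fun e1 => hne (by rw [← hk, e1, one_zpow])⟩)
          have h4 : φ (jM f) = y ^ 2 := by
            rw [← hk, zpow_two, pow_two]
            calc φ (jM f) = φ (jM f) * φ (jM f) ^ 3 := by rw [D.jcube, mul_one]
              _ = φ (jM f) ^ 4 := (pow_succ' _ 3).symm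
              _ = _ := by simp only [pow_succ, pow_zero, one_mul, mul_assoc]
          rw [h4]; exact pow_mem (mem_inf.1 hy).1 2
      refine D.sig K (Nat.Coprime.symm (Nat.prime_three.coprime_iff_not_dvd.2 fun hd => ?_)) hJK
      obtain ⟨⟨y, hy⟩, hyo⟩ := exists_prime_orderOf_dvd_card' (G := K) 3 hd
      rw [orderOf_mk] at hyo
      have hp : IsPGroup 3 (zpowers y) := IsPGroup.of_card (n := 1) (by rw [Nat.card_zpowers, hyo, pow_one])
      have := hKS.maximal (zpowers y) (zpowers_le.2 hy) hp (by rw [hbot]; exact bot_le)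
      rw [hbot, zpowers_eq_bot] at this
      rw [this, orderOf_one] at hyo
      norm_num at hyo
    exact D.J_sup hdec (hK1 ▸ bot_le)

theorem cent_pair {u v : V3} (huv : Indep u v) :
    centralizer ({φ (jM u), φ (jM v)} : Set G) ≤ normalizer (J : Set G) := by
  have hfix : ∀ p, InL ci cd p → φ p ∈ centralizer ({φ (jM u), φ (jM v)} : Set G) →
      ∀ q, wact p.w (comb2 u v q) = comb2 u v q := by
    intro p hp hpC q
    have hu := D.fix_of_comm hp ((mem_centralizer_iff.1 hpC) _ (Set.mem_insert _ _)).symm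
    have hv := D.fix_of_comm hp ((mem_centralizer_iff.1 hpC) _ (Set.mem_insert_of_mem _ rfl)).symm
    let F : V3 →+ V3 := AddMonoidHom.mk' (wact p.w) (wact_add p.w)
    show F (comb2 u v q) = comb2 u v q
    rw [comb2_eq, map_add, map_nsmul, map_nsmul]
    show q.1.val • wact p.w u + q.2.val • wact p.w v = _
    rw [hu, hv]
  refine D.cent_refl (fun j hj => mem_centralizer_iff.2 ?_) (fun p q hp hq hpC hqC hp1 hq1 => ?_)
    (fun p hp hpC => fix_card_of_indep (P := fun x => wact p.w x = x) huv (hfix p hp hpC)) fun p hp hpC hp1 f hf0 hf g hg hgf => ?_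
  · rintro y (rfl | rfl) <;> exact D.J_comm (D.memj _) hj
  · exact reflection_table.2 p.w q.w (fix_card_of_indep (P := fun x => wact p.w x = x) huv (hfix p hp hpC))
      (fix_card_of_indep (P := fun x => wact q.w x = x) huv (hfix q hq hqC))
      hp1 hq1 (fix_card_of_indep (P := fun x => wact p.w x = x ∧ wact q.w x = x) huv fun r => ⟨hfix p hp hpC r, hfix q hq hqC r⟩)
  · refine le_normalizer (D.cJ fun j hj => ?_)
    obtain ⟨z, rfl⟩ := (D.memJ j).1 hj
    have hc : 9 ≤ fixCard p.w := fix_card_of_indep (P := fun x => wact p.w x = x) huv (hfix p hp hpC)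
    obtain ⟨h9, -, f', -, -, -⟩ := reflection_table.1 p.w hc hp1
    have hcent : ∀ r, wact p.w r = r → Commute g (φ (jM r)) := by
      intro r hr
      have hall : ∃ q, comb2 u v q = r := by
        by_contra hno
        push Not at hno
        have hinj : 9 + 1 ≤ fixCard p.w := by
          have h1 : 9 ≤ (Finset.univ.filter fun x : V3 => wact p.w x = x ∧ x ≠ r).card :=
            fix_card_of_indep huv fun q => ⟨hfix p hp hpC q, hno q⟩
          have h2 := Finset.card_lt_card (s := Finset.univ.filter fun x : V3 => wact p.w x = x ∧ x ≠ r)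
            (t := Finset.univ.filter fun x : V3 => wact p.w x = x) ((Finset.ssubset_iff_of_subset (fun x hx => by
              simp only [Finset.mem_filter] at hx ⊢; exact ⟨hx.1, hx.2.1⟩)).2
              ⟨r, by simp [hr], by simp⟩)
          show 10 ≤ (Finset.univ.filter fun x : V3 => wact p.w x = x).card
          omega
        omega
      obtain ⟨q, rfl⟩ := hall
      have hgu : Commute g (φ (jM u)) := (mem_centralizer_iff.1 hg _ (Set.mem_insert _ _)).symm
      have hgv : Commute g (φ (jM v)) := (mem_centralizer_iff.1 hg _ (Set.mem_insert_of_mem _ rfl)).symm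
      have hn : ∀ (n : ℕ) (x : V3), φ (jM (n • x)) = φ (jM x) ^ n := fun n x => by
        induction n with
        | zero => rw [zero_smul, pow_zero, D.jzero]
        | succ n ih => rw [succ_nsmul, D.jadd, ih, pow_succ]
      rw [comb2_eq, D.jadd, hn, hn]
      exact (hgu.pow_right _).mul_right (hgv.pow_right _)
    have hinvol : ∀ r, wact p.w (wact p.w r) = r := fun r => by
      rw [← wact_mul, (reflection_table.1 p.w hc hp1).2.1, wact_one]
    obtain ⟨-, -, f0, hf0', hf1', hf2'⟩ := reflection_table.1 p.w hc hp1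
    have hff : f = f0 ∨ f = -f0 := by
      rcases hf2' f with e | e | e <;> rw [hf, neg_neg] at e
      · exact absurd ((by decide +kernel : ∀ f : V3, f + f = 0 → f = 0) f e) hf0
      · exact Or.inr ((by decide +kernel : ∀ f g : V3, f + f = g → f = -g) _ _ e)
      · exact Or.inl ((by decide +kernel : ∀ f g : V3, f + f = -g → f = g) _ _ e)
    have hgf0 : Commute g (φ (jM f0)) := by
      have hgf' : Commute g (φ (jM f)) := hgf
      rcases hff with e | e
      · rwa [e] at hgf'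
      · rw [show f0 = f + f by rw [e]; exact (by decide +kernel : ∀ g : V3, g = -g + -g) f0, D.jadd]
        exact hgf'.mul_right hgf'
    have hsplit : ∀ z w : V3, z = -(z + w) + -(z + -w) := by decide +kernel
    have h1 : Commute g (φ (jM (-(z + wact p.w z)))) := hcent _ (by
      have hneg : ∀ x, wact p.w (-x) = -wact p.w x := fun x => by
        have := wact_sub p.w 0 x
        simpa [(by decide +kernel : ∀ w, wact w 0 = 0) p.w] using this
      rw [hneg, wact_add, hinvol, add_comm])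
    have h2 : Commute g (φ (jM (-(z + -wact p.w z)))) := by
      rcases hf2' z with e | e | e <;> rw [e]
      · rw [neg_zero, D.jzero]; exact Commute.one_right _
      · rw [(by decide +kernel : ∀ f : V3, -f = f + f) f0, D.jadd]; exact hgf0.mul_right hgf0
      · rw [neg_neg]; exact hgf0
    rw [hsplit z (wact p.w z), D.jadd]
    exact (h1.mul_right h2).eq

theorem J_le_cent (u : V3) : J ≤ centralizer ({φ (jM u)} : Set G) := fun _ hj =>
  mem_centralizer_singleton_iff.2 (D.J_comm hj (D.memj u))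

theorem cent_pair' {u v : V3} (huv : Indep u v) {g : G} (hu : g * φ (jM u) = φ (jM u) * g)
    (hv : g * φ (jM v) = φ (jM v) * g) : g ∈ normalizer (J : Set G) :=
  D.cent_pair huv (mem_centralizer_iff.2 (by
    rintro y (rfl | rfl)
    exacts [hu.symm, hv.symm]))

theorem map_pow {p : Mn} (hp : InL ci cd p) : ∀ n : ℕ, InL ci cd (p ^ n) ∧ φ (p ^ n) = φ p ^ n := by
  intro n
  induction n with
  | zero => exact ⟨by rw [pow_zero]; exact (inL_facts ci cd).1, by rw [pow_zero, pow_zero, D.one]⟩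
  | succ n ih =>
    exact ⟨by rw [pow_succ]; exact (inL_facts ci cd).2.2.1 _ _ ih.1 hp,
      by rw [pow_succ, pow_succ, D.hom _ _ ih.1 hp, ih.2]⟩

theorem pow_eq_one {p : Mn} (hp : InL ci cd p) {n : ℕ} (h : φ p ^ n = 1) : p ^ n = 1 :=
  D.eq_one (D.map_pow hp n).1 ((D.map_pow hp n).2.trans h)

theorem w_pow {p : Mn} : ∀ n : ℕ, (p ^ n).w = p.w ^ n := by
  intro n
  induction n with
  | zero => rw [pow_zero, pow_zero]; rfl
  | succ n ih => rw [pow_succ, pow_succ, ← ih]; rfl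

/-- A `3`-element of the normalizer. -/
theorem w_cube {p : Mn} (hp : InL ci cd p) {k : ℕ} (h : φ p ^ 3 ^ k = 1) : p.w ^ 3 = 1 := by
  have h1 : p.w ^ 3 ^ k = 1 := by rw [← D.w_pow, D.pow_eq_one hp h]; rfl
  have h2 := Nat.dvd_gcd (orderOf_dvd_of_pow_eq_one h1) (orderOf_dvd_of_pow_eq_one (wt_two p.w))
  refine orderOf_dvd_iff_pow_eq_one.1 (h2.trans ?_)
  obtain ⟨i, hi, e⟩ := (Nat.dvd_prime_pow Nat.prime_three).1 (Nat.gcd_dvd_left (3 ^ k) 24)
  have h24 : 3 ^ i ∣ 24 := e ▸ Nat.gcd_dvd_right _ _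
  rw [e]
  rcases i with _ | _ | i
  · simp
  · simp
  · exfalso
    have := (pow_dvd_pow 3 (show 2 ≤ i + 1 + 1 by omega)).trans h24
    norm_num at this

theorem fix_iff {p : Mn} (hp : InL ci cd p) (v : V3) :
    φ p * φ (jM v) = φ (jM v) * φ p ↔ wact p.w v = v := by
  refine ⟨D.fix_of_comm hp, fun h => ?_⟩
  have := D.act' hp v
  rw [h] at this
  exact mul_inv_eq_iff_eq_mul.1 this

/-- An element moving a plane of `J` into `J`. -/
theorem norm_plane {u v : V3} (huv : Indep u v) {g : G} (hu : g * φ (jM u) * g⁻¹ ∈ J)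
    (hv : g * φ (jM v) * g⁻¹ ∈ J) : g ∈ normalizer (J : Set G) := by
  have h1 : g⁻¹ ∈ normalizer (J : Set G) := by
    refine mem_normalizer_iff_map_conj_eq.2 (eq_of_le_of_card_ge ?_ (by
      rw [card_map_of_injective (MulEquiv.injective _)]))
    rintro _ ⟨j, hj, rfl⟩
    show g⁻¹ * j * g⁻¹⁻¹ ∈ J
    rw [inv_inv]
    have hc : ∀ w, g * φ (jM w) * g⁻¹ ∈ J → g⁻¹ * j * g * φ (jM w) = φ (jM w) * (g⁻¹ * j * g) := fun w hw => by
      calc g⁻¹ * j * g * φ (jM w) = g⁻¹ * (j * (g * φ (jM w) * g⁻¹)) * g := by group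
        _ = g⁻¹ * ((g * φ (jM w) * g⁻¹) * j) * g := by rw [D.J_comm hj hw]
        _ = φ (jM w) * (g⁻¹ * j * g) := by group
    have hcu := hc u hu
    have hcv := hc v hv
    obtain ⟨p, hp, e⟩ := D.norm_eq _ (D.cent_pair' huv hcu hcv)
    rw [← e] at hcu hcv ⊢
    have h3 : φ p ^ 3 ^ 1 = 1 := by
      rw [e, pow_one, show g⁻¹ * j * g = g⁻¹ * j * g⁻¹⁻¹ by rw [inv_inv], conj_pow, D.J_cube hj, mul_one,
        mul_inv_cancel]
    have hfx : 9 ≤ fixCard p.w := fix_card_of_indep (P := fun x => wact p.w x = x) huv fun q => by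
      let F : V3 →+ V3 := AddMonoidHom.mk' (wact p.w) (wact_add p.w)
      show F (comb2 u v q) = comb2 u v q
      rw [comb2_eq, map_add, map_nsmul, map_nsmul]
      show q.1.val • wact p.w u + q.2.val • wact p.w v = _
      rw [D.fix_of_comm hp hcu, D.fix_of_comm hp hcv]
    refine D.mem_of_w (by_contra fun hne => hne ?_)
    have hw := D.w_cube hp h3
    rwa [pow_succ, pow_two, (reflection_table.1 p.w hfx hne).2.1, one_mul] at hw
  simpa using inv_mem h1

/-- The fixed subgroup of an element. -/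
theorem mem_fix {p : Mn} (hp : InL ci cd p) {g : G} :
    g ∈ J ⊓ centralizer ({φ p} : Set G) ↔ ∃ v, φ (jM v) = g ∧ wact p.w v = v := by
  constructor
  · rintro ⟨hJ, hc⟩
    obtain ⟨v, rfl⟩ := (D.memJ g).1 hJ
    exact ⟨v, rfl, (D.fix_iff hp v).1 (mem_centralizer_singleton_iff.1 hc).symm⟩
  · rintro ⟨v, rfl, hv⟩
    exact ⟨D.memj v, mem_centralizer_singleton_iff.2 ((D.fix_iff hp v).2 hv).symm⟩

/-- The Sylow `3`-subgroup of the centralizer of an element of the normalizer. -/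
theorem sylow_cent {p : Mn} (hp : InL ci cd p)
    (hN : ∀ g, g * φ p = φ p * g → g ∈ normalizer ((J ⊓ centralizer ({φ p} : Set G) : Subgroup G) : Set G) →
      (∃ k : ℕ, g ^ 3 ^ k = 1) → g ∈ normalizer (J : Set G))
    (htab : ∀ w, Wok ci cd w → w * p.w = p.w * w → w ^ 3 = 1 → w ≠ 1 →
      ∀ v : V3, v + wact w p.v ≠ p.v + wact p.w v) :
    SylowAt (centralizer ({φ p} : Set G)) (J ⊓ centralizer ({φ p} : Set G)) := by
  refine .of_normalizer inf_le_right (D.J_isP.to_le inf_le_left) fun g hg hgn hk => ?_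
  have hgc := mem_centralizer_singleton_iff.1 hg
  obtain ⟨q, hq, rfl⟩ := D.norm_eq g (hN g hgc hgn hk)
  obtain ⟨k, hk⟩ := hk
  have hc := D.comm' hq hp hgc
  refine mem_inf.2 ⟨D.mem_of_w (by_contra fun hne => ?_), hg⟩
  exact htab q.w hq (congrArg Mn.w hc) (D.w_cube hq hk) hne q.v (congrArg Mn.v hc)

theorem sylow_plane {p : Mn} (hp : InL ci cd p) {u v : V3} (huv : Indep u v) (hu : wact p.w u = u)
    (hv : wact p.w v = v)
    (htab : ∀ w, Wok ci cd w → w * p.w = p.w * w → w ^ 3 = 1 → w ≠ 1 →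
      ∀ x : V3, x + wact w p.v ≠ p.v + wact p.w x) :
    SylowAt (centralizer ({φ p} : Set G)) (J ⊓ centralizer ({φ p} : Set G)) :=
  D.sylow_cent hp (fun _ _ hg _ => D.norm_plane huv
    (mem_inf.1 ((mem_normalizer_iff.1 hg _).1 ((D.mem_fix hp).2 ⟨u, rfl, hu⟩))).1
    (mem_inf.1 ((mem_normalizer_iff.1 hg _).1 ((D.mem_fix hp).2 ⟨v, rfl, hv⟩))).1) htab

theorem sylow_line {p : Mn} (hp : InL ci cd p) {v : V3} (hv : wact p.w v = v)
    (huniq : ∀ x : V3, wact p.w x = x → x = 0 ∨ x = v ∨ x = -v)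
    (hC : ∀ g, g * φ p = φ p * g → g * φ (jM v) = φ (jM v) * g → (∃ k : ℕ, g ^ 3 ^ k = 1) →
      g ∈ normalizer (J : Set G))
    (htab : ∀ w, Wok ci cd w → w * p.w = p.w * w → w ^ 3 = 1 → w ≠ 1 →
      ∀ x : V3, x + wact w p.v ≠ p.v + wact p.w x) :
    SylowAt (centralizer ({φ p} : Set G)) (J ⊓ centralizer ({φ p} : Set G)) := by
  refine D.sylow_cent hp (fun g hgp hg hk => hC g hgp ?_ hk) htab
  obtain ⟨x, hx, hxf⟩ := (D.mem_fix hp).1 ((mem_normalizer_iff.1 hg _).1 ((D.mem_fix hp).2 ⟨v, rfl, hv⟩))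
  obtain ⟨k, hk⟩ := hk
  rcases huniq x hxf with e | e | e <;> rw [e] at hx
  · rw [D.jzero, eq_comm, conj_eq_one_iff] at hx
    rw [hx]; simp
  · exact mul_inv_eq_iff_eq_mul.1 hx.symm
  · refine no_odd_neg hk (hx.symm.trans ?_)
    rw [← D.inv' ((inL_facts ci cd).2.1 v)]
    refine congrArg φ ?_
    refine eq_inv_of_mul_eq_one_left ?_
    rw [← jM_add, neg_add_cancel]
    rfl

/-- Non-conjugate involutions: a plane of fixed points. -/
theorem not_conj_plane {p p' : Mn} (hp : InL ci cd p) (hp' : InL ci cd p') {u v : V3} (huv : Indep u v)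
    (hu : wact p.w u = u) (hv : wact p.w v = v)
    (hS : SylowAt (centralizer ({φ p} : Set G)) (J ⊓ centralizer ({φ p} : Set G)))
    (hS' : SylowAt (centralizer ({φ p'} : Set G)) (J ⊓ centralizer ({φ p'} : Set G)))
    (hw : ∀ w, Wok ci cd w → w * p.w ≠ p'.w * w) (g : G) : g * φ p * g⁻¹ ≠ φ p' := by
  intro he
  have hmap : ∀ c, c ∈ centralizer ({φ p} : Set G) → g * c * g⁻¹ ∈ centralizer ({φ p'} : Set G) := fun c hc => by
    rw [← he]
    refine mem_centralizer_singleton_iff.2 ?_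
    calc g * c * g⁻¹ * (g * φ p * g⁻¹) = g * (c * φ p) * g⁻¹ := by group
      _ = g * (φ p * c) * g⁻¹ := by rw [mem_centralizer_singleton_iff.1 hc]
      _ = _ := by group
  have hmap' : ∀ c, c ∈ centralizer ({φ p'} : Set G) → g⁻¹ * c * g ∈ centralizer ({φ p} : Set G) := fun c hc => by
    rw [← he] at hc
    refine mem_centralizer_singleton_iff.2 ?_
    calc g⁻¹ * c * g * φ p = g⁻¹ * (c * (g * φ p * g⁻¹)) * g := by group
      _ = g⁻¹ * ((g * φ p * g⁻¹) * c) * g := by rw [mem_centralizer_singleton_iff.1 hc]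
      _ = _ := by group
  obtain ⟨c, hc, hS2⟩ := hS.conj_eq hS' hmap hmap'
  obtain ⟨q, hq, e⟩ := D.norm_eq _ (D.norm_plane huv
    (mem_inf.1 ((hS2 _).1 ((D.mem_fix hp).2 ⟨u, rfl, hu⟩))).1
    (mem_inf.1 ((hS2 _).1 ((D.mem_fix hp).2 ⟨v, rfl, hv⟩))).1)
  have h1 : φ q * φ p = φ p' * φ q := by
    rw [e]
    calc c * g * φ p = c * (g * φ p * g⁻¹) * g := by group
      _ = φ p' * c * g := by rw [he, mem_centralizer_singleton_iff.1 hc]
      _ = φ p' * (c * g) := by group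
  rw [← D.hom _ _ hq hp, ← D.hom _ _ hp' hq] at h1
  exact hw q.w hq (congrArg Mn.w (D.inj _ _ ((inL_facts ci cd).2.2.1 _ _ hq hp)
    ((inL_facts ci cd).2.2.1 _ _ hp' hq) h1))

/-- Non-conjugate involutions: a line of fixed points. -/
theorem not_conj_line {p p' : Mn} (hp : InL ci cd p) (hp' : InL ci cd p') {v : V3}
    (hv : wact p.w v = v)
    (hS : SylowAt (centralizer ({φ p} : Set G)) (J ⊓ centralizer ({φ p} : Set G)))
    (hS' : SylowAt (centralizer ({φ p'} : Set G)) (J ⊓ centralizer ({φ p'} : Set G)))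
    (hw : ∀ w, Wok ci cd w → wact p'.w (wact w v) ≠ wact w v) (g : G) : g * φ p * g⁻¹ ≠ φ p' := by
  intro he
  have hmap : ∀ c, c ∈ centralizer ({φ p} : Set G) → g * c * g⁻¹ ∈ centralizer ({φ p'} : Set G) := fun c hc => by
    rw [← he]
    refine mem_centralizer_singleton_iff.2 ?_
    calc g * c * g⁻¹ * (g * φ p * g⁻¹) = g * (c * φ p) * g⁻¹ := by group
      _ = g * (φ p * c) * g⁻¹ := by rw [mem_centralizer_singleton_iff.1 hc]
      _ = _ := by group
  have hmap' : ∀ c, c ∈ centralizer ({φ p'} : Set G) → g⁻¹ * c * g ∈ centralizer ({φ p} : Set G) := fun c hc => by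
    rw [← he] at hc
    refine mem_centralizer_singleton_iff.2 ?_
    calc g⁻¹ * c * g * φ p = g⁻¹ * (c * (g * φ p * g⁻¹)) * g := by group
      _ = g⁻¹ * ((g * φ p * g⁻¹) * c) * g := by rw [mem_centralizer_singleton_iff.1 hc]
      _ = _ := by group
  obtain ⟨c, hc, hS2⟩ := hS.conj_eq hS' hmap hmap'
  obtain ⟨x, hx, hxf⟩ := (D.mem_fix hp').1 ((hS2 _).1 ((D.mem_fix hp).2 ⟨v, rfl, hv⟩))
  obtain ⟨q, hq, e⟩ := D.fus v x _ hx.symm
  exact hw q.w hq (by rw [e, hxf])

/-- The elements of `2`-power order. -/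
theorem two_pow {p : Mn} (hp : InL ci cd p) {k : ℕ} (h : φ p ^ 2 ^ k = 1) : p.w ^ 8 = 1 := by
  have h1 : p.w ^ 2 ^ k = 1 := by rw [← D.w_pow, D.pow_eq_one hp h]; rfl
  have h2 := Nat.dvd_gcd (orderOf_dvd_of_pow_eq_one h1) (orderOf_dvd_of_pow_eq_one (wt_two p.w))
  refine orderOf_dvd_iff_pow_eq_one.1 (h2.trans ?_)
  obtain ⟨i, hi, e⟩ := (Nat.dvd_prime_pow Nat.prime_two).1 (Nat.gcd_dvd_left (2 ^ k) 24)
  have h24 : 2 ^ i ∣ 24 := e ▸ Nat.gcd_dvd_right _ _
  rw [e]
  rcases i with _ | _ | _ | _ | i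
  · simp
  · norm_num
  · norm_num
  · norm_num
  · exfalso
    have := (pow_dvd_pow 2 (show 4 ≤ i + 1 + 1 + 1 + 1 by omega)).trans h24
    norm_num at this

theorem jneg (x : V3) : φ (jM (-x)) = (φ (jM x))⁻¹ :=
  eq_inv_of_mul_eq_one_left (by rw [← D.jadd, neg_add_cancel, D.jzero])

/-- The centralizer of a conjugate. -/
theorem cent_conj {p a : Mn} (hp : InL ci cd p) (ha : InL ci cd a)
    (h : ∀ g, g * φ p = φ p * g → g ∈ normalizer (J : Set G)) {g : G}
    (hg : g * φ (a * p * a⁻¹) = φ (a * p * a⁻¹) * g) : g ∈ normalizer (J : Set G) := by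
  rw [D.conj' ha hp] at hg
  have h1 := h ((φ a)⁻¹ * g * φ a) (by
    calc (φ a)⁻¹ * g * φ a * φ p = (φ a)⁻¹ * (g * (φ a * φ p * (φ a)⁻¹)) * φ a := by group
      _ = (φ a)⁻¹ * ((φ a * φ p * (φ a)⁻¹) * g) * φ a := by rw [hg]
      _ = φ p * ((φ a)⁻¹ * g * φ a) := by group)
  have := mul_mem (mul_mem (D.mem_norm a ha) h1) (inv_mem (D.mem_norm a ha))
  rwa [show φ a * ((φ a)⁻¹ * g * φ a) * (φ a)⁻¹ = g by group] at this

theorem cent_orbit {v : V3} {w : Wt} (hw : Wok ci cd w)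
    (h : ∀ g, g * φ (jM v) = φ (jM v) * g → g ∈ normalizer (J : Set G)) {g : G}
    (hg : g * φ (jM (wact w v)) = φ (jM (wact w v)) * g) : g ∈ normalizer (J : Set G) :=
  D.cent_conj ((inL_facts ci cd).2.1 v) (show InL ci cd (wM w) from hw) h (by rwa [conj_jM])

theorem pow_eight {p : Mn} (hp : InL ci cd p) {k : ℕ} (h : φ p ^ 2 ^ k = 1) : p ^ 8 = 1 := by
  have hJ : φ p ^ 8 ∈ J := by
    rw [← (D.map_pow hp 8).2]
    exact D.mem_of_w (by rw [D.w_pow, D.two_pow hp h])
  have h1 : orderOf (φ p ^ 8) ∣ 3 := orderOf_dvd_of_pow_eq_one (D.J_cube hJ)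
  have h2 : orderOf (φ p ^ 8) ∣ 2 ^ k := orderOf_dvd_of_pow_eq_one (by rw [← pow_mul, mul_comm, pow_mul, h, one_pow])
  exact D.pow_eq_one hp (orderOf_eq_one_iff.1 (Nat.dvd_one.1
    ((Nat.Coprime.pow_left k (by norm_num : Nat.Coprime 2 3)) ▸ Nat.dvd_gcd h2 h1)))

/-- The stabilizer of `u` consists of two commuting reflections. -/
theorem cent_klein {u f1 f2 : V3} {w1 w2 : Wt} (hw1 : Wok ci cd w1) (hw2 : Wok ci cd w2)
    (hinv : (wM w1 * wM w1 = 1 ∧ wM w2 * wM w2 = 1) ∧ wM w1 * wM w2 = wM w2 * wM w1)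
    (hu1 : wact w1 u = u) (hu2 : wact w2 u = u) (h11 : wact w1 f1 = -f1) (h12 : wact w1 f2 = f2)
    (h21 : wact w2 f1 = f1) (h22 : wact w2 f2 = -f2) (hind : Indep f1 f2)
    (hindu : ∀ q, q ≠ 0 → Indep u (comb2 f1 f2 q))
    (hstab : ∀ w, Wok ci cd w → wact w u = u → w = 1 ∨ w = w1 ∨ w = w2 ∨ w = w2 * w1)
    (hax : ∀ w, Wok ci cd w → wact w u = u → ∀ x : V3, ∃ q, x + -wact w x = comb2 f1 f2 q) :
    centralizer ({φ (jM u)} : Set G) ≤ normalizer (J : Set G) := by
  classical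
  have hJC := D.J_le_cent u
  have hcls : ∀ p, InL ci cd p → φ p * φ (jM u) = φ (jM u) * φ p → wact p.w u = u := fun p hp h => D.fix_of_comm hp h
  have hwsq : w1 * w1 = 1 ∧ w2 * w2 = 1 ∧ w1 * w2 = w2 * w1 :=
    ⟨congrArg Mn.w hinv.1.1, congrArg Mn.w hinv.1.2, congrArg Mn.w hinv.2⟩
  have hS : SylowAt (centralizer ({φ (jM u)} : Set G)) J := D.sylow_at hJC fun p hp hpC => by
    rcases hstab p.w hp (hcls p hp (mem_centralizer_singleton_iff.1 hpC)) with e | e | e | e <;> rw [e]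
    · rfl
    · exact hwsq.1
    · exact hwsq.2.1
    · rw [show w2 * w1 * (w2 * w1) = w2 * (w1 * w2) * w1 by simp [mul_assoc], hwsq.2.2, ← mul_assoc, hwsq.2.1,
        one_mul, hwsq.1]
  let r0 : Mn := wM w2
  let s0 : Mn := wM w1
  have hrL : InL ci cd r0 := hw2
  have hsL : InL ci cd s0 := hw1
  let F : Subgroup G :=
    { carrier := {g | ∃ q, φ (jM (comb2 f1 f2 q)) = g}
      one_mem' := ⟨0, by rw [show comb2 f1 f2 0 = 0 by simp [comb2]]; exact D.jzero⟩
      mul_mem' := by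
        rintro _ _ ⟨p, rfl⟩ ⟨q, rfl⟩
        refine ⟨p + q, ?_⟩
        rw [← D.jadd]
        congr 2
        simp only [comb2, Prod.fst_add, Prod.snd_add, Prod.mk_add_mk, Prod.ext_iff]
        exact ⟨by ring, by ring, by ring⟩
      inv_mem' := by
        rintro _ ⟨p, rfl⟩
        refine ⟨-p, ?_⟩
        rw [← D.jneg]
        congr 2
        simp only [comb2, Prod.fst_neg, Prod.snd_neg, Prod.neg_mk, Prod.ext_iff]
        exact ⟨by ring, by ring, by ring⟩ }
  obtain ⟨K, hKC, hCK, hKF, hcomK, hdec, hall, hKS⟩ := hS.split (F := F) (fun x hx y hy => D.J_comm hx hy) (by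
    intro n hnC hn j hj
    obtain ⟨p, hp, rfl⟩ := D.norm_eq n hn
    obtain ⟨x, rfl⟩ := (D.memJ j).1 hj
    rw [show φ (jM x) * φ p * (φ (jM x))⁻¹ * (φ p)⁻¹ = φ (jM x) * (φ p * φ (jM x) * (φ p)⁻¹)⁻¹ by group,
      D.act' hp, ← D.jneg, ← D.jadd]
    obtain ⟨q, hq⟩ := hax p.w hp (hcls p hp (mem_centralizer_singleton_iff.1 hnC)) x
    exact ⟨q, by rw [hq]⟩)
  have hrC : φ r0 ∈ centralizer ({φ (jM u)} : Set G) := mem_centralizer_singleton_iff.2 ((D.fix_iff hrL u).2 hu2)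
  have hsC : φ s0 ∈ centralizer ({φ (jM u)} : Set G) := mem_centralizer_singleton_iff.2 ((D.fix_iff hsL u).2 hu1)
  have hord : ∀ p, InL ci cd p → p * p = 1 → φ p * φ p = 1 := fun p hp h => by rw [← D.hom _ _ hp hp, h, D.one]
  have hrK : φ r0 ∈ K := hall _ hrC (Nat.Coprime.coprime_dvd_left
    (orderOf_dvd_of_pow_eq_one (by rw [pow_two, hord r0 hrL hinv.1.2])) (by norm_num))
  have hsK : φ s0 ∈ K := hall _ hsC (Nat.Coprime.coprime_dvd_left
    (orderOf_dvd_of_pow_eq_one (by rw [pow_two, hord s0 hsL hinv.1.1])) (by norm_num))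
  have htwo : ∀ f : V3, f = -f + -f := by decide +kernel
  have hgenK : ∀ (w : Wt) (f : V3), Wok ci cd w → φ (wM w) ∈ centralizer ({φ (jM u)} : Set G) →
      wact w f = -f → φ (jM f) ∈ K := fun w f hw hwC hwf => by
    have hf := hcomK (φ (jM (-f))) (D.memj _) (φ (wM w)) hwC (D.mem_norm _ hw)
    rw [show φ (jM (-f)) * φ (wM w) * (φ (jM (-f)))⁻¹ * (φ (wM w))⁻¹ =
      φ (jM (-f)) * (φ (wM w) * φ (jM (-f)) * (φ (wM w))⁻¹)⁻¹ by group, D.act' (show InL ci cd (wM w) from hw),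
      ← D.jneg, ← D.jadd] at hf
    convert hf using 3
    let F' : V3 →+ V3 := AddMonoidHom.mk' (wact w) (wact_add w)
    show f = -f + -F' (-f)
    rw [map_neg]
    show f = -f + - -wact w f
    rw [hwf, neg_neg]
    exact htwo f
  have hFK : F ≤ K := by
    have hn : ∀ (n : ℕ) (x : V3), φ (jM (n • x)) = φ (jM x) ^ n := fun n x => by
      induction n with
      | zero => rw [zero_smul, pow_zero, D.jzero]
      | succ n ih => rw [succ_nsmul, D.jadd, ih, pow_succ]
    rintro _ ⟨q, rfl⟩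
    rw [comb2_eq, D.jadd, hn, hn]
    exact mul_mem (pow_mem (hgenK w1 f1 hw1 hsC h11) _) (pow_mem (hgenK w2 f2 hw2 hrC h22) _)
  have hFJ : F ≤ J := by rintro _ ⟨q, rfl⟩; exact D.memj _
  have hKJ : K ⊓ J = F := le_antisymm hKF (le_inf hFK hFJ)
  rw [hKJ] at hKS
  have ee : comb2 f1 f2 (1, 0) = f1 := by simp [comb2]
  have ef : comb2 f1 f2 (0, 1) = f2 := by simp [comb2]
  have hnF : ∀ g, g ∈ normalizer (F : Set G) → g ∈ normalizer (J : Set G) := fun g hg => by
    have h : ∀ q, g * φ (jM (comb2 f1 f2 q)) * g⁻¹ ∈ J := fun q =>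
      hFJ ((mem_normalizer_iff.1 hg _).1 ⟨q, rfl⟩)
    exact D.norm_plane hind (ee ▸ h (1, 0)) (ef ▸ h (0, 1))
  have hJF : ∀ g ∈ K, g ∈ normalizer (J : Set G) → g ∈ normalizer (F : Set G) := by
    intro g hg hgJ
    refine mem_normalizer_iff_map_conj_eq.2 (eq_of_le_of_card_ge ?_ (by
      rw [card_map_of_injective (MulEquiv.injective _)]))
    rintro _ ⟨f, hf, rfl⟩
    rw [SetLike.mem_coe, ← hKJ] at hf
    rw [← hKJ]
    exact mem_inf.2 ⟨mul_mem (mul_mem hg hf.1) (inv_mem hg), (mem_normalizer_iff.1 hgJ f).1 hf.2⟩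
  obtain ⟨P, hP⟩ := hKS.exists_sylow
  let e1 : K := ⟨φ (jM f1), hgenK w1 f1 hw1 hsC h11⟩
  let e2 : K := ⟨φ (jM f2), hgenK w2 f2 hw2 hrC h22⟩
  let r : K := ⟨φ r0, hrK⟩
  let s : K := ⟨φ s0, hsK⟩
  have hPmem : ∀ x : K, x ∈ (P : Subgroup K) ↔ ∃ q, φ (jM (comb2 f1 f2 q)) = x := fun x => by rw [hP]; rfl
  have hPn : ∀ g : K, g ∈ normalizer ((P : Subgroup K) : Set K) ↔ (g : G) ∈ normalizer (F : Set G) := by
    intro g
    constructor
    · intro hn
      refine mem_normalizer_iff.2 fun y => ⟨fun hy => (hPmem _).1 ((mem_normalizer_iff.1 hn ⟨y, hFK hy⟩).1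
        ((hPmem _).2 hy)), fun hy => ?_⟩
      have hyK : y ∈ K := by
        have := mul_mem (mul_mem (inv_mem g.2) (hFK hy)) g.2
        simpa [mul_assoc] using this
      exact (hPmem _).1 ((mem_normalizer_iff.1 hn ⟨y, hyK⟩).2 ((hPmem _).2 hy))
    · intro hn
      refine mem_normalizer_iff.2 fun y => ?_
      rw [hPmem, hPmem]
      exact mem_normalizer_iff.1 hn y
  have hconj : ∀ (p : Mn) (x : V3), InL ci cd p → φ p * φ p = 1 →
      φ p * φ (jM x) * φ p = φ (jM (wact p.w x)) := fun p x hp h2 => by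
    rw [← D.act' hp, inv_eq_of_mul_eq_one_left h2]
  have hr2 := hord r0 hrL hinv.1.2
  have hs2 := hord s0 hsL hinv.1.1
  have hinjc : Function.Injective fun q => φ (jM (comb2 f1 f2 q)) := fun p q e => by
    have h' := D.jinj e
    have h0 : comb2 f1 f2 (p + -q) = 0 := by
      obtain ⟨a, b⟩ := p; obtain ⟨c, d⟩ := q
      simp only [comb2, Prod.ext_iff] at h'
      simp only [comb2, Prod.neg_mk, Prod.mk_add_mk, Prod.ext_iff]
      exact ⟨by simp only [Prod.fst_zero]; linear_combination h'.1,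
        by simp only [Prod.fst_zero, Prod.snd_zero]; linear_combination h'.2.1,
        by simp only [Prod.snd_zero]; linear_combination h'.2.2⟩
    obtain ⟨a, b⟩ := hind _ _ h0
    exact add_neg_eq_zero.1 (Prod.ext a b : p + -q = 0)
  have hK := klein_normal (P := P) (e1 := e1) (e2 := e2) (r := r) (s := s)
    { ti :=
        { card := by
            rw [hP, Nat.card_congr (subgroupOfEquivOfLe hFK).toEquiv,
              ← Nat.card_eq_of_bijective (fun q : ZMod 3 × ZMod 3 => (⟨_, ⟨q, rfl⟩⟩ : F))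
                ⟨fun p q e => hinjc (congrArg Subtype.val e), fun g => by
                  obtain ⟨q, hq⟩ := g.2; exact ⟨q, Subtype.ext hq⟩⟩]
            simp
          exp := fun a ha => by
            obtain ⟨q, hq⟩ := (hPmem a).1 ha
            exact Subtype.ext (by rw [Subgroup.coe_pow, ← hq, D.jcube]; rfl)
          comm := fun a ha b hb => by
            obtain ⟨q, hq⟩ := (hPmem a).1 ha
            obtain ⟨q', hq'⟩ := (hPmem b).1 hb
            exact Subtype.ext (by rw [Subgroup.coe_mul, Subgroup.coe_mul, ← hq, ← hq', D.jcomm])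
          cent := fun a ha ha1 g hg => by
            obtain ⟨q, hq⟩ := (hPmem a).1 ha
            have hq0 : q ≠ 0 := fun e => ha1 (Subtype.ext (by
              rw [← hq, e, show comb2 f1 f2 0 = 0 by simp [comb2], D.jzero]; rfl))
            refine (hPn g).2 (hJF g g.2 (D.cent_pair' (hindu q hq0) (mem_centralizer_singleton_iff.1 (hKC g.2)) ?_))
            rw [hq]
            exact congrArg Subtype.val (mem_centralizer_singleton_iff.1 hg) }
      m1 := (hPmem _).2 ⟨(1, 0), by rw [ee]⟩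
      m2 := (hPmem _).2 ⟨(0, 1), by rw [ef]⟩
      gen := fun a ha => by
        obtain ⟨q, hq⟩ := (hPmem a).1 ha
        have hn : ∀ (n : ℕ) (x : V3), φ (jM (n • x)) = φ (jM x) ^ n := fun n x => by
          induction n with
          | zero => rw [zero_smul, pow_zero, D.jzero]
          | succ n ih => rw [succ_nsmul, D.jadd, ih, pow_succ]
        refine ⟨q.1.val, q.2.val, Subtype.ext ?_⟩
        rw [← hq, comb2_eq, D.jadd, hn, hn]
        rfl
      r2 := Subtype.ext hr2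
      s2 := Subtype.ext hs2
      rs := Subtype.ext (D.map_comm hrL hsL hinv.2.symm)
      r1 := Subtype.ext ((hconj r0 f1 hrL hr2).trans (congrArg (fun x => φ (jM x)) h21))
      r1' := Subtype.ext (((hconj r0 f2 hrL hr2).trans (congrArg (fun x => φ (jM x)) h22)).trans (D.jneg f2))
      s1 := Subtype.ext (((hconj s0 f1 hsL hs2).trans (congrArg (fun x => φ (jM x)) h11)).trans (D.jneg f1))
      s1' := Subtype.ext ((hconj s0 f2 hsL hs2).trans (congrArg (fun x => φ (jM x)) h12))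
      nor := fun g hg => by
        obtain ⟨p, hp, hpg⟩ := D.norm_eq _ (hnF g ((hPn g).1 hg))
        have hpu := hcls p hp (by rw [hpg]; exact mem_centralizer_singleton_iff.1 (hKC g.2))
        have key : ∀ (k : K) (k0 : Mn), InL ci cd k0 → (k : G) = φ k0 → (k0⁻¹ * p).w = 1 →
            ∃ x ∈ (P : Subgroup K), g = k * x := fun k k0 hk0 hk h1 => by
          refine ⟨k⁻¹ * g, (hPmem _).2 ?_, by group⟩
          have hmJ : ((k⁻¹ * g : K) : G) ∈ J := by
            rw [Subgroup.coe_mul, InvMemClass.coe_inv, hk, ← hpg, ← D.inv' hk0,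
              ← D.hom _ _ ((inL_facts ci cd).2.2.2 k0 hk0) hp]
            exact D.mem_of_w h1
          have : ((k⁻¹ * g : K) : G) ∈ F := hKJ ▸ mem_inf.2 ⟨(k⁻¹ * g).2, hmJ⟩
          exact this
        have hwinv : ∀ w : Wt, (wM w)⁻¹.w = w⁻¹ := fun _ => rfl
        rcases hstab p.w hp hpu with e | e | e | e
        · exact ⟨1, Or.inl rfl, key 1 1 (inL_facts ci cd).1 D.one.symm (by rw [inv_one, one_mul, e])⟩
        · exact ⟨s, Or.inr (Or.inr (Or.inl rfl)), key s s0 hsL rfl (by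
            show (wM w1)⁻¹.w * p.w = 1
            rw [hwinv, e, inv_mul_cancel])⟩
        · exact ⟨r, Or.inr (Or.inl rfl), key r r0 hrL rfl (by
            show (wM w2)⁻¹.w * p.w = 1
            rw [hwinv, e, inv_mul_cancel])⟩
        · exact ⟨r * s, Or.inr (Or.inr (Or.inr rfl)), key (r * s) (r0 * s0)
            ((inL_facts ci cd).2.2.1 _ _ hrL hsL) (D.hom _ _ hrL hsL).symm (by
            show (r0 * s0)⁻¹.w * p.w = 1
            rw [e]
            show (r0 * s0)⁻¹.w * (r0 * s0).w = 1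
            exact congrArg Mn.w (inv_mul_cancel (r0 * s0)))⟩ }
  intro g hg
  obtain ⟨k, hk, y, hy, rfl⟩ := hdec g hg
  exact mul_mem (hnF k ((hPn ⟨k, hk⟩).1 (by rw [normalizer_eq_top]; exact mem_top _))) (le_normalizer hy)

end Loc

end Cfsg.Agent.SpThreeCent
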