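import Cfsg.Agent.Lib.SpThreeCent.Local

/-!
# The whole monomial automizer: the centralizer of a three-cycle
-/

set_option autoImplicit false
set_option linter.style.haveILetI false
set_option linter.unusedSectionVars false
set_option maxRecDepth 100000
set_option synthInstance.maxSize 10000

namespace Cfsg.Agent.SpThreeCent

open Subgroup
open Cfsg.Agent.NineSym
open Cfsg.Agent.ExtraTwoNine.CoordPerm (P6)
open SymSix (cb cc ct cw)

variable {G : Type*} [Group G] [Finite G] {a : G} {R J : Subgroup G} {φ : Mn → G}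

namespace Loc

variable (D : Loc a R J true true φ)
include D

/-- A subgroup with no `3`-element of the automizer has `J` as a Sylow subgroup. -/
theorem sylow_at_three {C : Subgroup G} (hJC : J ≤ C)
    (h : ∀ p, φ p ∈ C → p.w ^ 3 = 1 → p.w = 1) : SylowAt C J :=
  .of_normalizer hJC D.J_isP fun g hg hgn ⟨k, hk⟩ => by
    obtain ⟨p, hp, rfl⟩ := D.norm_eq g hgn
    exact D.mem_of_w (h p hg (D.w_cube hp hk))

/-- The elements of weight two. -/
theorem cent_two {v : V3} (w : Wt) (h : wact w (1, 1, 0) = v) {g : G}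
    (hg : g * φ (jM v) = φ (jM v) * g) : g ∈ normalizer (J : Set G) := by
  subst h
  obtain ⟨hinv, hu1, hu2, h11, h12, h21, h22, hind, hindu, hstab, hax⟩ := mon_two_facts
  have := D.cent_klein (wok_all rhoW) (wok_all nCw) hinv hu1 hu2 h11 h12 h21 h22 hind hindu hstab hax
  exact D.cent_orbit (wok_all w) (fun g hg => this (mem_centralizer_singleton_iff.2 hg)) hg

/-- Either the centralizer of a three-cycle normalizes `J`, or it is `3 × Sym 6`. -/
theorem mon_dichotomy : (centralizer ({φ (jM (0, 0, 1))} : Set G) ≤ normalizer (J : Set G)) ∨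
    ∃ K : Subgroup G, SixData J φ K := by
  classical
  haveI : Fact (Nat.Prime 3) := ⟨Nat.prime_three⟩
  obtain ⟨hno3, h8, hax, hnA, hnB, hrho, hgen, hindc, hab⟩ := stab_facts
  set C := centralizer ({φ (jM (0, 0, 1))} : Set G) with hCdef
  have hJC : J ≤ C := D.J_le_cent _
  have hfix : ∀ p, φ p ∈ C → wact p.w (0, 0, 1) = (0, 0, 1) := fun p hp =>
    D.fix_of_comm (inL_all p) (mem_centralizer_singleton_iff.1 hp)
  have hS : SylowAt C J := D.sylow_at_three hJC fun p hp h3 => hno3 _ (hfix p hp) h3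
  let F : Subgroup G :=
    { carrier := {g | ∃ v : V3, v.2.2 = 0 ∧ φ (jM v) = g}
      one_mem' := ⟨0, rfl, D.jzero⟩
      mul_mem' := by
        rintro _ _ ⟨u, hu, rfl⟩ ⟨v, hv, rfl⟩
        exact ⟨u + v, by rw [Prod.snd_add, Prod.snd_add, hu, hv, add_zero], D.jadd _ _⟩
      inv_mem' := by
        rintro _ ⟨u, hu, rfl⟩
        exact ⟨-u, by rw [Prod.snd_neg, Prod.snd_neg, hu, neg_zero], D.jneg _⟩ }
  have hFv : ∀ v, φ (jM v) ∈ F ↔ v.2.2 = 0 := fun v =>
    ⟨fun ⟨u, hu, e⟩ => D.jinj e ▸ hu, fun h => ⟨v, h, rfl⟩⟩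
  obtain ⟨K, hKC, hCK, hKF, hcomK, hdec, hall, hKS⟩ := hS.split (F := F) (fun x hx y hy => D.J_comm hx hy) (by
    intro n hnC hn j hj
    obtain ⟨p, hp, rfl⟩ := D.norm_eq n hn
    obtain ⟨x, rfl⟩ := (D.memJ j).1 hj
    rw [show φ (jM x) * φ p * (φ (jM x))⁻¹ * (φ p)⁻¹ = φ (jM x) * (φ p * φ (jM x) * (φ p)⁻¹)⁻¹ by group,
      D.act' hp, ← D.jneg, ← D.jadd]
    exact ⟨_, hax _ (hfix p hnC) x, rfl⟩)
  have hwK : ∀ w : Wt, wact w (0, 0, 1) = (0, 0, 1) → φ (wM w) ∈ K := fun w hw => by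
    refine hall _ (mem_centralizer_singleton_iff.2 ((D.fix_iff (inL_all _) _).2 hw)) ?_
    refine Nat.Coprime.coprime_dvd_left (orderOf_dvd_of_pow_eq_one (n := 8) ?_) (by norm_num)
    rw [← (D.map_pow (inL_all _) 8).2, h8 w hw, D.one]
  have hcK : ∀ (w : Wt) (y : V3), wact w (0, 0, 1) = (0, 0, 1) → φ (jM (y + -wact w y)) ∈ K := fun w y hw => by
    have hf := hcomK (φ (jM y)) (D.memj _) (φ (wM w))
      (mem_centralizer_singleton_iff.2 ((D.fix_iff (inL_all _) _).2 hw)) (D.mem_norm _ (inL_all _))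
    rwa [show φ (jM y) * φ (wM w) * (φ (jM y))⁻¹ * (φ (wM w))⁻¹ =
      φ (jM y) * (φ (wM w) * φ (jM y) * (φ (wM w))⁻¹)⁻¹ by group, D.act' (inL_all _),
      ← D.jneg, ← D.jadd] at hf
  have hFK : F ≤ K := by
    rintro _ ⟨x, hx, rfl⟩
    obtain ⟨y, z, rfl⟩ := hgen x hx
    rw [D.jadd]
    exact mul_mem (hcK _ y hnA) (hcK _ z hnB)
  have hFJ : F ≤ J := by rintro _ ⟨x, -, rfl⟩; exact D.memj _
  have hKJ : K ⊓ J = F := le_antisymm hKF (le_inf hFK hFJ)
  have hmp : ∀ v : V3, φ (jM v) ∈ K ↔ v.2.2 = 0 := fun v =>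
    ⟨fun h => (hFv v).1 (hKJ ▸ mem_inf.2 ⟨h, D.memj v⟩), fun h => hFK ((hFv v).2 h)⟩
  rw [hKJ] at hKS
  obtain ⟨P, hP⟩ := hKS.exists_sylow
  have hPm : ∀ x : K, x ∈ (P : Subgroup K) ↔ (x : G) ∈ F := fun x => by rw [hP]; rfl
  have hnF : ∀ g, g ∈ normalizer (F : Set G) → g ∈ normalizer (J : Set G) := fun g hg =>
    D.norm_plane hab (hFJ ((mem_normalizer_iff.1 hg _).1 ((hFv _).2 rfl)))
      (hFJ ((mem_normalizer_iff.1 hg _).1 ((hFv _).2 rfl)))
  have hJF : ∀ g ∈ K, g ∈ normalizer (J : Set G) → g ∈ normalizer (F : Set G) := by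
    intro g hg hgJ
    refine mem_normalizer_iff_map_conj_eq.2 (eq_of_le_of_card_ge ?_ (by
      rw [card_map_of_injective (MulEquiv.injective _)]))
    rintro _ ⟨f, hf, rfl⟩
    rw [SetLike.mem_coe, ← hKJ] at hf
    rw [← hKJ]
    exact mem_inf.2 ⟨mul_mem (mul_mem hg hf.1) (inv_mem hg), (mem_normalizer_iff.1 hgJ f).1 hf.2⟩
  have hPn : ∀ g : K, g ∈ normalizer ((P : Subgroup K) : Set K) ↔ (g : G) ∈ normalizer (F : Set G) := by
    intro g
    constructor
    · intro hn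
      refine mem_normalizer_iff.2 fun y => ⟨fun hy => (hPm _).1 ((mem_normalizer_iff.1 hn ⟨y, hFK hy⟩).1
        ((hPm _).2 hy)), fun hy => ?_⟩
      have hyK : y ∈ K := by
        have := mul_mem (mul_mem (inv_mem g.2) (hFK hy)) g.2
        simpa [mul_assoc] using this
      exact (hPm _).1 ((mem_normalizer_iff.1 hn ⟨y, hyK⟩).2 ((hPm _).2 hy))
    · intro hn
      refine mem_normalizer_iff.2 fun y => ?_
      rw [hPm, hPm]
      exact mem_normalizer_iff.1 hn y
  have hcard : Nat.card (P : Subgroup K) = 9 := by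
    rw [hP, Nat.card_congr (subgroupOfEquivOfLe hFK).toEquiv,
      ← Nat.card_eq_of_bijective
        (fun v : {v : V3 // v.2.2 = 0} => (⟨φ (jM v.1), (hFv _).2 v.2⟩ : F))
        ⟨fun u v e => Subtype.ext (D.jinj (congrArg Subtype.val e)),
          fun g => by obtain ⟨v, hv, e⟩ := g.2; exact ⟨⟨v, hv⟩, Subtype.ext e⟩⟩, Nat.card_eq_fintype_card]
    convert plane_card
  have hC : centralizer ((P : Subgroup K) : Set K) = P := by
    refine le_antisymm (fun g hg => ?_) fun g hg => mem_centralizer_iff.2 fun x hx =>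
      Subtype.ext (D.J_comm (hFJ ((hPm x).1 hx)) (hFJ ((hPm g).1 hg)))
    have hc : ∀ v : V3, v.2.2 = 0 → (g : G) * φ (jM v) = φ (jM v) * g := fun v hv => by
      have := mem_centralizer_iff.1 hg ⟨φ (jM v), (hmp v).2 hv⟩ ((hPm _).2 ((hFv v).2 hv))
      exact (congrArg Subtype.val this).symm
    obtain ⟨p, hp, e⟩ := D.norm_eq _ (D.cent_pair' hab (hc _ rfl) (hc _ rfl))
    have ha := D.fix_of_comm hp (e ▸ hc (1, 0, 0) rfl)
    have hb := D.fix_of_comm hp (e ▸ hc (0, 1, 0) rfl)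
    have hw := wact_faithful' _ ha hb (hfix p (e ▸ hKC g.2))
    refine (hPm g).2 (hKJ ▸ mem_inf.2 ⟨g.2, ?_⟩)
    rw [← e]; exact D.mem_of_w hw
  have hcent : ∀ x ∈ (P : Subgroup K), x ≠ 1 →
      centralizer ({x} : Set K) ≤ normalizer ((P : Subgroup K) : Set K) := fun x hx hx1 g hg => by
    obtain ⟨v, hv, e⟩ := (hPm x).1 hx
    have hv0 : v ≠ 0 := fun h => hx1 (Subtype.ext (by rw [← e, h, D.jzero]; rfl))
    refine (hPn g).2 (hJF g g.2 (D.cent_pair' (hindc v hv hv0) (mem_centralizer_singleton_iff.1 (hKC g.2)) ?_))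
    rw [e]
    exact congrArg Subtype.val (mem_centralizer_singleton_iff.1 hg)
  -- the quotient of the normalizer
  set NK := normalizer ((P : Subgroup K) : Set K) with hNK
  have hch : ∀ n : NK, ∃ p, φ p = ((n : K) : G) := fun n => by
    obtain ⟨p, -, e⟩ := D.norm_eq _ (hnF _ ((hPn n).1 n.2))
    exact ⟨p, e⟩
  choose pf hpf using hch
  have huniq : ∀ (n : NK) (q : Mn), φ q = ((n : K) : G) → pf n = q := fun n q h =>
    D.inj _ _ (inL_all _) (inL_all _) ((hpf n).trans h.symm)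
  let δ : DihedralGroup 4 →* Wt := MonoidHom.mk' dihFun dihFun_facts.1
  let f : NK →* δ.range := MonoidHom.mk' (fun n => ⟨(pf n).w, by
      obtain ⟨x, hx⟩ := dihFun_facts.2.2.2 _ (hfix (pf n) (by rw [hpf]; exact hKC (n : K).2))
      exact ⟨x, hx⟩⟩) fun m n => Subtype.ext <| by
    show (pf (m * n)).w = (pf m * pf n).w
    rw [huniq (m * n) (pf m * pf n) (by rw [D.hom _ _ (inL_all _) (inL_all _), hpf, hpf]; rfl)]
  have hfs : Function.Surjective f := by
    rintro ⟨_, x, rfl⟩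
    have hx : wact (dihFun x) (0, 0, 1) = (0, 0, 1) := dihFun_facts.2.2.1 x
    refine ⟨⟨⟨φ (wM (dihFun x)), hwK _ hx⟩, (hPn _).2 (hJF _ (hwK _ hx) (D.mem_norm _ (inL_all _)))⟩, Subtype.ext ?_⟩
    show (pf _).w = _
    rw [huniq ⟨⟨φ (wM (dihFun x)), hwK _ hx⟩, _⟩ (wM (dihFun x)) rfl]
    rfl
  have hfk : f.ker = (P : Subgroup K).subgroupOf NK := by
    ext n
    rw [MonoidHom.mem_ker, mem_subgroupOf, hPm]
    constructor
    · intro h
      rw [← hKJ]
      refine mem_inf.2 ⟨(n : K).2, ?_⟩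
      rw [← hpf n]
      exact D.mem_of_w (congrArg Subtype.val h)
    · rintro ⟨v, -, e⟩
      refine Subtype.ext ?_
      show (pf n).w = 1
      rw [huniq n (jM v) e]
      rfl
  have eN : NK ⧸ (P : Subgroup K).subgroupOf NK ≃* DihedralGroup 4 :=
    (((QuotientGroup.quotientMulEquivOfEq hfk).symm).trans
      (QuotientGroup.quotientKerEquivOfSurjective f hfs)).trans
      (MonoidHom.ofInjective (f := δ) dihFun_facts.2.1).symm
  rcases Cfsg.Agent.S3333.result P _ rfl hcard hC eN hcent with h | h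
  · left
    have hKN : K ≤ normalizer (J : Set G) := fun k hk =>
      hnF k ((hPn ⟨k, hk⟩).1 (by rw [hNK, normalizer_eq_top_iff.2 h]; exact mem_top _))
    exact D.J_sup hdec hKN
  · exact Or.inr ⟨K, ⟨hKC, hCK, hdec, hall, hmp, h⟩⟩

theorem exists_sixMap {K : Subgroup G} (S : SixData J φ K) : ∃ f : P6 →* G, SixMap φ K f := by
  classical
  obtain ⟨⟨hA2, hR2, hC2⟩, ⟨hAa, hAb, hRa, hab, hAR⟩, ⟨ha1, hb1, hba, hba'⟩, hnc, hfix, hgen⟩ := six_rels
  obtain ⟨hsq, hb12, hb32, hc02, hc42⟩ := sw6_facts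
  have hL := inL_all
  have hmul : ∀ p q : Mn, φ (p * q) = φ p * φ q := fun p q => D.hom _ _ (hL p) (hL q)
  have hinv : ∀ p : Mn, φ p⁻¹ = (φ p)⁻¹ := fun p => D.inv' (hL p)
  have hinj : ∀ {p q : Mn}, φ p = φ q → p = q := fun h => D.inj _ _ (hL _) (hL _) h
  have hmemK : ∀ g, g * φ (jM (0, 0, 1)) = φ (jM (0, 0, 1)) * g → g * g = 1 → g ∈ K := fun g h1 h2 =>
    S.hall g (mem_centralizer_singleton_iff.2 h1) (Nat.Coprime.coprime_dvd_left
      (orderOf_dvd_of_pow_eq_one (n := 2) (by rw [pow_two, h2])) (by norm_num))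
  have hA : φ (wM nAw) ∈ K := hmemK _ ((D.fix_iff (hL _) _).2 stab_facts.2.2.2.1) (by rw [← hmul, hA2, D.one])
  have hR : φ (wM rhoW) ∈ K :=
    hmemK _ ((D.fix_iff (hL _) _).2 stab_facts.2.2.2.2.2.1) (by rw [← hmul, hR2, D.one])
  let b : K := ⟨φ (jM (1, 0, 0)), (S.mem_plane _).2 rfl⟩
  let c : K := ⟨φ (jM (0, 1, 0)), (S.mem_plane _).2 rfl⟩
  let t : K := ⟨φ (wM nAw), hA⟩
  let w : K := ⟨φ (wM rhoW), hR⟩
  obtain ⟨e⟩ := S.iso
  obtain ⟨e', h1, h2, h3, h4⟩ := sym6_extend e b c t w (Subtype.ext (D.jcube _)) (Subtype.ext (D.jcube _))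
    (fun h => ha1 (D.eq_one (hL _) (congrArg Subtype.val h))) (Subtype.ext (D.jcomm _ _))
    ⟨fun h => hb1 (D.eq_one (hL _) (congrArg Subtype.val h)), fun h => hba (hinj (congrArg Subtype.val h)),
      fun h => hba' (hinj ((congrArg Subtype.val h).trans (hinv _).symm))⟩
    (Subtype.ext (by show φ _ * φ _ = 1; rw [← hmul, hA2, D.one]))
    (Subtype.ext (by show φ _ * φ _ * φ _ = (φ _)⁻¹; rw [← hmul, ← hmul, hAa, hinv]))
    (Subtype.ext (by show φ _ * φ _ = φ _ * φ _; rw [← hmul, hAb, hmul]))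
    (Subtype.ext (by show φ _ * φ _ = 1; rw [← hmul, hR2, D.one]))
    (Subtype.ext (by show φ _ * φ _ * φ _ = φ _; rw [← hmul, ← hmul, hRa]))
    (Subtype.ext (by
      show φ _ * (φ _ * φ _ * φ _) = φ _ * φ _ * φ _ * φ _
      rw [← hmul, ← hmul, ← hmul, hAR, hmul]))
  let f : P6 →* G := K.subtype.comp e'.toMonoidHom
  have hf : ∀ π, f π ∈ K := fun π => (e' π).2
  have hfinj : Function.Injective f := fun x y h => e'.injective (Subtype.ext h)
  have hfb : f cb = φ (jM (1, 0, 0)) := congrArg Subtype.val h1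
  have hfc : f cc = φ (jM (0, 1, 0)) := congrArg Subtype.val h2
  have hft : f ct = φ (wM nAw) := congrArg Subtype.val h3
  have hfw : f cw = φ (wM rhoW) := congrArg Subtype.val h4
  have hpow : ∀ (p : Mn) (n : ℕ), φ (p ^ n) = φ p ^ n := fun p n => (D.map_pow (hL p) n).2
  have hfp : ∀ (π : P6) (n : ℕ), f (π ^ n) = f π ^ n := fun π n => by
    induction n with
    | zero => rw [pow_zero, pow_zero, map_one]
    | succ n ih => rw [pow_succ, pow_succ, map_mul, ih]
  have hagree : ∀ q, f (word6 q) = φ (wordM q) := fun q => by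
    simp only [word6, wordM, map_mul, hfp, hmul, hpow, hfb, hfc, hft, hfw]
  have hcf : ∀ π, φ (jM (0, 0, 1)) * f π = f π * φ (jM (0, 0, 1)) := fun π =>
    (mem_centralizer_singleton_iff.1 (S.hKC (hf π))).symm
  -- conjugation by the third transposition
  set n := φ (wM nCw) with hn
  have hn2 : n * n = 1 := by rw [hn, ← hmul, hC2, D.one]
  have hconj : ∀ x y : G, n * (x * y) * n = n * x * n * (n * y * n) := fun x y => by
    rw [show n * x * n * (n * y * n) = n * x * (n * n) * y * n by group, hn2, mul_one]; group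
  have hone : n * f 1 * n = f 1 := by rw [map_one, mul_one, hn2]
  have hnK : ∀ π, n * f π * n ∈ K := fun π => by
    refine perm6_induction (p := fun π => n * f π * n ∈ K) ?_ (fun i => ?_) (fun x y hx hy => ?_) π
    · show n * f 1 * n ∈ K
      rw [hone]; exact hf 1
    · refine hmemK _ ?_ ?_
      · have hnc' : n * φ (jM (0, 0, 1)) * n = (φ (jM (0, 0, 1)))⁻¹ := by
          rw [hn, ← hmul, ← hmul, ← hinv]
          exact congrArg φ (by decide +kernel)
        have hcn : ∀ x, x * φ (jM (0, 0, 1)) = φ (jM (0, 0, 1)) * x →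
            n * x * n * (n * φ (jM (0, 0, 1)) * n) = n * φ (jM (0, 0, 1)) * n * (n * x * n) := fun x hx => by
          rw [← hconj, hx, hconj]
        have h := hcn _ (hcf (sw6 i)).symm
        rw [hnc'] at h
        exact (Commute.inv_right_iff.1 (show Commute (n * f (sw6 i) * n) (φ (jM (0, 0, 1)))⁻¹ from h)).eq
      · rw [← hconj, ← map_mul, hsq, hone, map_one]
    · show n * f (x * y) * n ∈ K
      rw [map_mul, hconj]; exact mul_mem hx hy
  have hrange : ∀ g, g ∈ K ↔ ∃ π, f π = g := fun g =>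
    ⟨fun hg => ⟨e'.symm ⟨g, hg⟩, congrArg Subtype.val (e'.apply_symm_apply _)⟩, by rintro ⟨π, rfl⟩; exact hf π⟩
  have hlow : ∀ i : Fin 5, i ≠ 2 → n * f (sw6 i) * n = f (sw6 i) := fun i hi => by
    obtain ⟨q, hq⟩ := hgen i hi
    rw [← hq, hagree, hn, ← hmul, hnc q, hmul, mul_assoc, ← hn, hn2, mul_one]
  obtain ⟨g, hg⟩ := (hrange _).1 (hnK (sw6 2))
  have himg : ∀ x y z : P6, x * y = z → n * f x * n * (n * f y * n) = n * f z * n := fun x y z h => by
    rw [← hconj, ← map_mul, h]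
  have hg2 : g * g = 1 := hfinj (by rw [map_mul, hg, himg _ _ _ (hsq 2), hone])
  have hfix' : ∀ i, i ≠ 2 → sw6 2 * sw6 i = sw6 i * sw6 2 → g * sw6 i = sw6 i * g := fun i hi h =>
    hfinj (by rw [map_mul, map_mul, hg, ← hlow i hi, ← hconj, ← hconj, ← map_mul, ← map_mul, h])
  have hbr : ∀ i, i ≠ 2 → sw6 2 * sw6 i * (sw6 2 * sw6 i) * (sw6 2 * sw6 i) = 1 →
      g * sw6 i * (g * sw6 i) * (g * sw6 i) = 1 := fun i hi h => by
    refine hfinj ?_
    simp only [map_mul]
    rw [hg, ← hlow i hi]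
    simp only [← hconj, ← map_mul]
    rw [h, hone]
  have hg3 := nC_unique g hg2 (hfix' 0 (by decide) hc02) (hfix' 4 (by decide) hc42)
    (hbr 1 (by decide) hb12) (hbr 3 (by decide) hb32)
  rw [hg3] at hg
  refine ⟨f, ⟨hfinj, hrange, hagree, fun π => ?_, hcf⟩⟩
  have key : n * f π * n = f π := by
    refine perm6_induction (p := fun π => n * f π * n = f π) hone (fun i => ?_) (fun x y hx hy => ?_) π
    · rcases eq_or_ne i 2 with rfl | hi
      · exact hg.symm
      · exact hlow i hi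
    · show n * f (x * y) * n = f (x * y)
      rw [map_mul, hconj, hx, hy]
  calc n * f π = n * f π * (n * n) := by rw [hn2, mul_one]
    _ = f π * n := by rw [← mul_assoc, key]

end Loc

end Cfsg.Agent.SpThreeCent
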