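import Cfsg.Agent.Lib.SpThreeCent.Setup
import Cfsg.Agent.Lib.NineSym.Tools

/-!
# The case of two classes: coordinates and the closure of the distinguished subgroup
-/

set_option autoImplicit false
set_option linter.style.haveILetI false
set_option linter.unusedSectionVars false
set_option maxRecDepth 100000
set_option synthInstance.maxSize 10000

namespace Cfsg.Agent.SpThreeCent

open Subgroup
open Cfsg.Agent.NineSym (Mn Wt V3 InL Wok jM jM_add wM wact pact pmul SylowAt)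
open Cfsg.Agent.PSpAmalgam (SL3 negOne)

/-- The transposition fixing the first coordinate, in the model. -/
def tM : Mn := wM ⟨false, 0, 5⟩

/-- The inversion, in the model. -/
def iM : Mn := wM ⟨true, 0, 0⟩

/-- An element of the Sylow subgroup of the model. -/
def mP (v : V3) (i : Fin 3) : Mn := ⟨v, ⟨false, 0, Fin.castLE (by norm_num) i⟩⟩

/-- A vector with equal coordinates. -/
abbrev Diag (v : V3) : Prop := v.1 = v.2.1 ∧ v.2.1 = v.2.2

/-- A vector with vanishing sum. -/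
abbrev Plane (v : V3) : Prop := v.1 + v.2.1 + v.2.2 = 0

theorem inL_iff {p : Mn} : InL true false p ↔ p.w.k = 0 :=
  ⟨fun h => by_contra fun hne => Bool.noConfusion (h.2 hne), fun h => ⟨fun _ => rfl, fun hne => absurd h hne⟩⟩

theorem inL_mul_two : ∀ u w : Wt, u.k = 0 → w.k = 0 → (u * w).k = 0 := by decide +kernel
theorem inL_wt_inv : ∀ u : Wt, u.k = 0 → u⁻¹.k = 0 := by decide +kernel

theorem move_jM (p : Mn) (u : V3) : p * jM u = jM (wact p.w u) * p := by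
  obtain ⟨pv, pw⟩ := p
  show Mn.mk (pv + wact pw u) (pw * 1) = Mn.mk (wact pw u + wact 1 pv) (1 * pw)
  rw [NineSym.wact_one, add_comm, (by decide +kernel : ∀ w : Wt, w * 1 = w ∧ 1 * w = w) pw |>.1,
    ((by decide +kernel : ∀ w : Wt, w * 1 = w ∧ 1 * w = w) pw).2]

theorem mP_facts : (∀ i : Fin 3, mP 0 1 ^ (i : ℕ) = mP 0 i) ∧ (∀ v i, mP v i = jM v * mP 0 i) ∧
    (∀ v i, mP v i ^ 3 = 1 → i = 0 ∨ Plane v) ∧ (∀ v, mP v 0 = jM v) := by
  decide +kernel

theorem mP_ne : ∀ v u i, mP v i = jM u → i = 0 := by decide +kernel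

theorem mP_ne_tM : ∀ v i, mP v i ≠ tM := by decide +kernel

theorem diag_smul : ∀ v : V3, Diag v → ∃ k : Fin 3, v = (k : ℕ) • ((1, 1, 1) : V3) := by decide +kernel

theorem x_coords : ∀ v : V3, Plane v → ∃ k l : Fin 3, v = (k : ℕ) • ((0, 1, 2) : V3) + (l : ℕ) • (1, 1, 1) := by
  decide +kernel

theorem x_turn : ∀ k l i : Fin 3,
    (k : ℕ) • ((k : ℕ) • ((0, 1, 2) : V3) + (l : ℕ) • (1, 1, 1)) + (l : ℕ) • (1, 1, 1) ≠
      wact ⟨false, 0, Fin.castLE (by norm_num) i⟩ (wact tM.w (0, 1, 2)) := by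
  decide +kernel

theorem plane_conj : ∀ i j : Fin 3, i ≠ 0 → j ≠ 0 → ∀ v w : V3, Plane v → Plane w →
    ∃ u : V3, (jM u * mP v j * (jM u)⁻¹ = mP w i ∨ jM u * (mP v j * mP v j) * (jM u)⁻¹ = mP w i) := by
  decide +kernel

theorem sl_facts : (∀ s : SL3, s * s = 1 → s = 1 ∨ s = negOne) ∧ ∀ s : SL3, s * negOne = negOne * s := by
  decide +kernel

theorem sylow_conj {G : Type*} [Group G] [Finite G] {C S : Subgroup G} (h : SylowAt C S) {y : G} (hy : y ∈ C)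
    {k : ℕ} (hk : y ^ 3 ^ k = 1) : ∃ c ∈ C, c * y * c⁻¹ ∈ S := by
  haveI : Fact (Nat.Prime 3) := ⟨Nat.prime_three⟩
  obtain ⟨T, hT⟩ := h.exists_sylow
  have hp : IsPGroup 3 (zpowers (⟨y, hy⟩ : C)) := by
    rintro ⟨g, hg⟩
    obtain ⟨n, rfl⟩ := mem_zpowers_iff.1 hg
    refine ⟨k, Subtype.ext ?_⟩
    rw [Subgroup.coe_pow, ← zpow_natCast, zpow_comm, zpow_natCast,
      show (⟨y, hy⟩ : C) ^ 3 ^ k = 1 from Subtype.ext (by simpa using hk), one_zpow]
    rfl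
  obtain ⟨Q, hQ⟩ := hp.exists_le_sylow
  obtain ⟨c, hc⟩ := MulAction.exists_smul_eq C Q T
  refine ⟨c, c.2, ?_⟩
  have : c * ⟨y, hy⟩ * c⁻¹ ∈ (T : Subgroup C) := by
    rw [← hc, Sylow.coe_subgroup_smul]
    exact smul_mem_pointwise_smul _ (MulAut.conj c) _ (hQ (mem_zpowers _))
  rw [hT, mem_subgroupOf] at this
  simpa using this

variable {G : Type*} [Group G] [Finite G] {a : G} {R J : Subgroup G} {φ : Mn → G}
variable (D : Loc a R J true false φ)
include D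

local notation "M" => normalizer (zpowers a : Set G)

theorem Loc.inLjM (v : V3) : InL true false (jM v) := inL_iff.2 rfl

theorem Loc.inLmP (v : V3) (i : Fin 3) : InL true false (mP v i) := inL_iff.2 rfl

theorem Loc.map_mul {p q : Mn} (hp : InL true false p) (hq : InL true false q) : φ (p * q) = φ p * φ q :=
  D.hom p q hp hq

theorem Loc.map_one : φ 1 = 1 := by
  have := D.hom 1 1 (inL_iff.2 rfl) (inL_iff.2 rfl)
  rw [mul_one] at this
  exact mul_eq_left.1 this.symm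

theorem Loc.map_inv {p : Mn} (hp : InL true false p) : φ p⁻¹ = (φ p)⁻¹ :=
  eq_inv_of_mul_eq_one_left (by
    rw [← D.hom p⁻¹ p (inL_iff.2 (inL_wt_inv _ (inL_iff.1 hp))) hp, inv_mul_cancel, D.map_one])

theorem Loc.inL_pow {p : Mn} (hp : InL true false p) : ∀ n : ℕ, InL true false (p ^ n)
  | 0 => by rw [pow_zero]; exact inL_iff.2 rfl
  | n + 1 => by
    rw [pow_succ]
    exact inL_iff.2 (inL_mul_two _ _ (inL_iff.1 (Loc.inL_pow hp n)) (inL_iff.1 hp))

theorem Loc.two_map_pow {p : Mn} (hp : InL true false p) : ∀ n : ℕ, φ (p ^ n) = φ p ^ n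
  | 0 => by rw [pow_zero, pow_zero, D.map_one]
  | n + 1 => by rw [pow_succ, pow_succ, D.hom _ _ (D.inL_pow hp n) hp, Loc.two_map_pow hp n]

theorem Loc.two_eq_one {p : Mn} (hp : InL true false p) (h : φ p = 1) : p = 1 :=
  D.inj p 1 hp (inL_iff.2 rfl) (h.trans D.map_one.symm)

theorem Loc.conj_j {p : Mn} (hp : InL true false p) (u : V3) :
    φ p * φ (jM u) * (φ p)⁻¹ = φ (jM (wact p.w u)) := by
  rw [mul_inv_eq_iff_eq_mul, ← D.hom _ _ hp (D.inLjM u), ← D.hom _ _ (D.inLjM _) hp, move_jM]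

theorem Loc.comm_iff {p : Mn} (hp : InL true false p) (u : V3) :
    φ p * φ (jM u) = φ (jM u) * φ p ↔ wact p.w u = u := by
  constructor
  · intro h
    have := D.conj_j hp u
    rw [h, mul_inv_cancel_right] at this
    exact (congrArg Mn.v (D.inj _ _ (D.inLjM u) (D.inLjM _) this)).symm
  · intro h
    rw [← mul_inv_eq_iff_eq_mul, D.conj_j hp, h]

theorem Loc.jM_nsmul (n : ℕ) (v : V3) : φ (jM (n • v)) = φ (jM v) ^ n := by
  induction n with
  | zero => rw [zero_nsmul, pow_zero]; exact D.map_one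
  | succ n ih => rw [succ_nsmul, jM_add, D.hom _ _ (D.inLjM _) (D.inLjM _), ih, pow_succ]

theorem Loc.mem_J (v : V3) : φ (jM v) ∈ J := (D.memJ _).2 ⟨v, rfl⟩

theorem Loc.jdata : JData a R J := by
  refine ⟨fun g hg => ?_, fun x hx y hy => ?_, fun x hx => ?_, ?_⟩
  · obtain ⟨v, rfl⟩ := (D.memJ g).1 hg
    rw [mem_centralizer_singleton_iff, ← D.a_eq, D.comm_iff (D.inLjM v)]
    exact NineSym.wact_one _
  · obtain ⟨u, rfl⟩ := (D.memJ x).1 hx
    obtain ⟨v, rfl⟩ := (D.memJ y).1 hy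
    exact (D.comm_iff (D.inLjM u) v).2 (NineSym.wact_one v)
  · obtain ⟨v, rfl⟩ := (D.memJ x).1 hx
    rw [← D.jM_nsmul, (by decide +kernel : ∀ v : V3, 3 • v = 0) v]
    exact D.map_one
  · have hb := Nat.card_congr (Equiv.ofBijective (fun v => (⟨φ (jM v), D.mem_J v⟩ : J))
      ⟨fun u v h => congrArg Mn.v (D.inj _ _ (D.inLjM u) (D.inLjM v) (congrArg Subtype.val h)),
        fun ⟨g, hg⟩ => ((D.memJ g).1 hg).imp fun v e => Subtype.ext e⟩)
    rw [← hb]; simp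

theorem Loc.cube_a : a ^ 3 = 1 := D.order ▸ pow_orderOf_eq_one a

theorem Loc.a_ne_inv : a ≠ a⁻¹ := by
  intro h
  have h2 : a ^ 2 = 1 := by rw [pow_two]; exact mul_eq_one_iff_eq_inv.2 h
  have := orderOf_dvd_of_pow_eq_one h2
  rw [D.order] at this
  norm_num at this

theorem Loc.pow_zp {g : G} (h : g ∈ zpowers a) : g = 1 ∨ g = a ∨ g = a⁻¹ := by
  obtain ⟨k, rfl⟩ := mem_zpowers_iff.1 h
  have e : a ^ k = a ^ (k % 3) := by
    conv_lhs => rw [← Int.emod_add_mul_ediv k 3, zpow_add, zpow_mul, show a ^ (3 : ℤ) = 1 by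
      exact_mod_cast D.cube_a, one_zpow, mul_one]
  rcases (show k % 3 = 0 ∨ k % 3 = 1 ∨ k % 3 = 2 by omega) with h | h | h <;> rw [e, h]
  · exact Or.inl (zpow_zero a)
  · exact Or.inr (Or.inl (zpow_one a))
  · refine Or.inr (Or.inr (eq_inv_of_mul_eq_one_left ?_))
    rw [← zpow_add_one]
    exact_mod_cast D.cube_a

theorem Loc.diag_iff {v : V3} : φ (jM v) ∈ zpowers a ↔ Diag v := by
  constructor
  · intro h
    rcases D.pow_zp h with e | e | e
    · have := congrArg Mn.v (D.two_eq_one (D.inLjM v) e)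
      rw [show v = 0 from this]; exact ⟨rfl, rfl⟩
    · rw [← D.a_eq] at e
      rw [show v = (1, 1, 1) from congrArg Mn.v (D.inj _ _ (D.inLjM v) (D.inLjM _) e)]; exact ⟨rfl, rfl⟩
    · rw [← D.a_eq, ← D.map_inv (D.inLjM _)] at e
      have h1 := congrArg Mn.v (D.inj _ _ (D.inLjM v) (inL_iff.2 rfl) e)
      rw [show v = (2, 2, 2) from h1.trans (by decide +kernel)]; exact ⟨rfl, rfl⟩
  · intro h
    obtain ⟨k, rfl⟩ := diag_smul v h
    rw [D.jM_nsmul, D.a_eq]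
    exact npow_mem_zpowers a _

theorem Loc.mem_M_iff {g : G} : g ∈ M ↔ g * a * g⁻¹ = a ∨ g * a * g⁻¹ = a⁻¹ := by
  constructor
  · intro h
    rcases D.pow_zp ((mem_normalizer_iff.1 h a).1 (mem_zpowers a)) with e | e | e
    · have : a = 1 := by
        rw [mul_inv_eq_one, mul_eq_left] at e
        exact e
      have h2 := D.order
      rw [this, orderOf_one] at h2
      norm_num at h2
    · exact Or.inl e
    · exact Or.inr e
  · intro h
    refine mem_normalizer_iff_map_conj_eq.2 ?_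
    rw [MonoidHom.map_zpowers]
    rcases h with e | e
    · exact congrArg zpowers e
    · show zpowers (g * a * g⁻¹) = _
      rw [e, zpowers_inv]

theorem Loc.cent_le_M : centralizer ({a} : Set G) ≤ M := fun g hg =>
  D.mem_M_iff.2 (Or.inl (mul_inv_eq_iff_eq_mul.2 (mem_centralizer_singleton_iff.1 hg)))

theorem Loc.normJ_le_M : normalizer (J : Set G) ≤ M := by
  intro g hg
  obtain ⟨p, hp, rfl⟩ := D.norm_eq g hg
  refine D.mem_M_iff.2 ?_
  rw [← D.a_eq, D.conj_j hp]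
  rcases (by decide +kernel : ∀ w : Wt, w.k = 0 → wact w (1, 1, 1) = (1, 1, 1) ∨ wact w (1, 1, 1) = (2, 2, 2))
    p.w (inL_iff.1 hp) with e | e
  · exact Or.inl (by rw [e])
  · refine Or.inr ?_
    rw [e, ← D.map_inv (D.inLjM _), show (jM (1, 1, 1))⁻¹ = jM (2, 2, 2) by decide +kernel]

theorem Loc.sq_cent {g : G} (hg : g ∈ M) : g * g ∈ centralizer ({a} : Set G) := by
  refine mem_centralizer_singleton_iff.2 (mul_inv_eq_iff_eq_mul.1 ?_)
  rw [show g * g * a * (g * g)⁻¹ = g * (g * a * g⁻¹) * g⁻¹ by group]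
  rcases D.mem_M_iff.1 hg with e | e
  · rw [e, e]
  · rw [e, ← inv_inj]
    simp only [mul_inv_rev, inv_inv, ← mul_assoc]
    exact e

theorem Loc.odd_cent {g : G} (hg : g ∈ M) {n : ℕ} (hn : Odd n) (h : g ^ n = 1) :
    g ∈ centralizer ({a} : Set G) := by
  obtain ⟨m, rfl⟩ := hn
  have e : g = (g * g) ^ (m + 1) := by
    rw [← pow_two, ← pow_mul, show 2 * (m + 1) = (2 * m + 1) + 1 by ring, pow_succ, h, one_mul]
  rw [e]
  exact pow_mem (D.sq_cent hg) _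

theorem Loc.sylowC : SylowAt (centralizer ({a} : Set G)) (R ⊔ J) := by
  obtain ⟨h81, hle⟩ := card_sup D.toCentData D.jdata
  refine ⟨hle, IsPGroup.of_card (p := 3) (n := 4) (by rw [h81]; norm_num), fun T hTC hT hPT => ?_⟩
  haveI : Fact (Nat.Prime 3) := ⟨Nat.prime_three⟩
  obtain ⟨n, hn⟩ := hT.exists_card_eq
  refine (eq_of_le_of_card_ge hPT ?_).symm
  rw [h81, hn]
  have h1 := card_dvd_of_le hTC
  rw [D.card, hn] at h1
  by_contra h
  push Not at h
  have h5 : 5 ≤ n := by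
    by_contra hlt
    have : 3 ^ n ≤ 3 ^ 4 := Nat.pow_le_pow_right (by norm_num) (by omega)
    norm_num at this
    omega
  have := (pow_dvd_pow 3 h5).trans h1
  norm_num at this

theorem Loc.shift_notMem : φ (mP 0 1) ∉ J := fun h => by
  obtain ⟨u, hu⟩ := (D.memJ _).1 h
  exact (by decide : (1 : Fin 3) ≠ 0) (mP_ne 0 u 1 (D.inj _ _ (D.inLmP _ _) (D.inLjM u) hu.symm))

theorem Loc.sum_form {g : G} (hg : g ∈ R ⊔ J) : ∃ v i, g = φ (mP v i) := by
  have hs : φ (mP 0 1) ∈ R := D.shift_R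
  obtain ⟨j, hj, i, rfl⟩ := sup_decomp D.toCentData D.jdata hs D.shift_notMem hg
  obtain ⟨v, rfl⟩ := (D.memJ j).1 hj
  refine ⟨v, i, ?_⟩
  rw [mP_facts.2.1 v i, ← D.two_map_pow (D.inLmP _ _), mP_facts.1, D.hom _ _ (D.inLjM v) (D.inLmP _ _)]

theorem Loc.plane_iff {v : V3} : φ (jM v) ∈ R ↔ Plane v := by
  refine ⟨fun h => ?_, D.plane_R v⟩
  by_contra hne
  refine not_le_R D.toCentData D.jdata fun g hg => ?_
  obtain ⟨w, rfl⟩ := (D.memJ g).1 hg
  obtain ⟨n, hn⟩ : ∃ n : Fin 3, Plane (w + (n : ℕ) • v) :=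
    (by decide +kernel : ∀ v w : V3, ¬ Plane v → ∃ n : Fin 3, Plane (w + (n : ℕ) • v)) v w hne
  have h1 := D.plane_R _ hn
  rw [jM_add, D.hom _ _ (D.inLjM _) (D.inLjM _), D.jM_nsmul] at h1
  exact (mul_mem_cancel_right (pow_mem h _)).1 h1

theorem Loc.mP_mem_R {v : V3} (hv : Plane v) (i : Fin 3) : φ (mP v i) ∈ R := by
  rw [mP_facts.2.1, D.hom _ _ (D.inLjM v) (D.inLmP _ _), ← mP_facts.1, D.two_map_pow (D.inLmP _ _)]
  exact mul_mem (D.plane_R v hv) (pow_mem D.shift_R _)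

theorem Loc.form_R {r : G} (hr : r ∈ R) : ∃ v i, Plane v ∧ r = φ (mP v i) := by
  obtain ⟨v, i, rfl⟩ := D.sum_form (mem_sup_left hr)
  refine ⟨v, i, D.plane_iff.1 ?_, rfl⟩
  rw [mP_facts.2.1 v i, D.hom _ _ (D.inLjM v) (D.inLmP _ _), ← mP_facts.1,
    D.two_map_pow (D.inLmP _ _)] at hr
  exact (mul_mem_cancel_right (pow_mem D.shift_R _)).1 hr

theorem Loc.three_mem {g : G} (hg : g ∈ R ⊔ J) (h3 : g ^ 3 = 1) : g ∈ R ∨ g ∈ J := by
  obtain ⟨v, i, rfl⟩ := D.sum_form hg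
  rw [← D.two_map_pow (D.inLmP _ _)] at h3
  rcases mP_facts.2.2.1 v i (D.two_eq_one (D.inL_pow (D.inLmP _ _) _) h3) with rfl | h
  · exact Or.inr (by rw [mP_facts.2.2.2]; exact D.mem_J v)
  · exact Or.inl (D.mP_mem_R h i)

theorem Loc.t_facts : φ tM * φ tM = 1 ∧ φ tM ∈ centralizer ({a} : Set G) ∧ φ tM ∉ R := by
  have hL : InL true false tM := inL_iff.2 rfl
  refine ⟨?_, ?_, fun h => ?_⟩
  · rw [← D.hom _ _ hL hL, show tM * tM = 1 by decide +kernel, D.map_one]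
  · rw [mem_centralizer_singleton_iff, ← D.a_eq, D.comm_iff hL]
    decide +kernel
  · obtain ⟨v, i, -, e⟩ := D.form_R h
    exact mP_ne_tM v i (D.inj _ _ (D.inLmP _ _) hL e.symm)

theorem Loc.t_quot {π : ↥(centralizer ({a} : Set G)) →* SL3}
    (hπk : ∀ g : ↥(centralizer ({a} : Set G)), π g = 1 ↔ (g : G) ∈ R) :
    π ⟨φ tM, D.t_facts.2.1⟩ = negOne := by
  obtain ⟨h1, h2, h3⟩ := D.t_facts
  rcases sl_facts.1 (π ⟨φ tM, h2⟩) (by
    rw [← _root_.map_mul, show (⟨φ tM, h2⟩ : ↥(centralizer ({a} : Set G))) * ⟨φ tM, h2⟩ = 1 from Subtype.ext h1,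
      _root_.map_one]) with e | e
  · exact absurd ((hπk _).1 e) h3
  · exact e

/-- An element of `C(a)` moving the plane. -/
theorem Loc.exists_mover : ∃ g ∈ centralizer ({a} : Set G), ∃ w i, Plane w ∧ i ≠ 0 ∧
    g * φ (jM (0, 1, 2)) * g⁻¹ = φ (mP w i) := by
  obtain ⟨π, hπs, hπk⟩ := D.quot
  obtain ⟨-, -, -, -, q, hq, -⟩ := sl_neg_facts
  obtain ⟨g, hg⟩ := hπs (q ^ 3)
  obtain ⟨htt, htC, -⟩ := D.t_facts
  set x := φ (jM (0, 1, 2)) with hx
  have hxR : x ∈ R := D.plane_R _ (by decide +kernel)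
  obtain ⟨w, i, hw, e⟩ := D.form_R ((mem_normalizer_iff.1 (D.norm g.2) x).1 hxR)
  refine ⟨g, g.2, w, i, hw, fun hi => ?_, e⟩
  subst hi
  rw [mP_facts.2.2.2] at e
  obtain ⟨k, l, rfl⟩ := x_coords w hw
  have hr : ((g * g * ⟨φ tM, htC⟩ : ↥(centralizer ({a} : Set G))) : G) ∈ R := by
    rw [← hπk, _root_.map_mul, _root_.map_mul, hg, hq, D.t_quot hπk, sl_neg_facts.1]
  obtain ⟨v, j, -, er⟩ := D.form_R hr
  have hgg : ((g : G) * g) = φ (mP v j) * φ tM := by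
    rw [← er]
    simp only [Subgroup.coe_mul, mul_assoc, htt, mul_one]
  have hga : (g : G) * a * (g : G)⁻¹ = a := mul_inv_eq_iff_eq_mul.2 (mem_centralizer_singleton_iff.1 g.2)
  have h1 : (g : G) * g * x * ((g : G) * g)⁻¹ =
      φ (jM ((k : ℕ) • ((k : ℕ) • ((0, 1, 2) : V3) + (l : ℕ) • (1, 1, 1)) + (l : ℕ) • (1, 1, 1))) := by
    rw [show (g : G) * g * x * ((g : G) * g)⁻¹ = (g : G) * ((g : G) * x * (g : G)⁻¹) * (g : G)⁻¹ by group, e]
    conv_lhs => rw [jM_add, D.hom _ _ (D.inLjM _) (D.inLjM _), D.jM_nsmul, D.jM_nsmul, D.a_eq]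
    rw [← hx, show (g : G) * (x ^ (k : ℕ) * a ^ (l : ℕ)) * (g : G)⁻¹ =
      ((g : G) * x ^ (k : ℕ) * (g : G)⁻¹) * ((g : G) * a ^ (l : ℕ) * (g : G)⁻¹) by group, ← conj_pow,
      ← conj_pow, e, hga, jM_add ((k : ℕ) • _) ((l : ℕ) • (1, 1, 1) : V3), D.hom _ _ (D.inLjM _) (D.inLjM _)]
    simp only [D.jM_nsmul, jM_add, D.hom _ _ (D.inLjM _) (D.inLjM _), D.a_eq]
  rw [hgg, show φ (mP v j) * φ tM * x * (φ (mP v j) * φ tM)⁻¹ =
    φ (mP v j) * (φ tM * x * (φ tM)⁻¹) * (φ (mP v j))⁻¹ by group, hx, D.conj_j (inL_iff.2 rfl),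
    D.conj_j (D.inLmP _ _)] at h1
  exact x_turn k l j (congrArg Mn.v (D.inj _ _ (D.inLjM _) (D.inLjM _) h1)).symm

/-- The elements of `R` outside `⟨a⟩` are conjugate in `C(a)` into the plane. -/
theorem Loc.R_conj {r : G} (hr : r ∈ R) (hra : r ∉ zpowers a) : ∃ c ∈ centralizer ({a} : Set G), ∃ v : V3,
    Plane v ∧ ¬ Diag v ∧ c * r * c⁻¹ = φ (jM v) := by
  have hout : ∀ {c : G}, c ∈ centralizer ({a} : Set G) → c * r * c⁻¹ ∉ zpowers a := by
    intro c hc h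
    apply hra
    obtain ⟨k, hk⟩ := mem_zpowers_iff.1 h
    have : Commute c (a ^ k) := Commute.zpow_right (mem_centralizer_singleton_iff.1 hc) k
    rw [hk] at this
    have e : r = c * r * c⁻¹ := by
      have h1 := this.eq
      rw [← mul_right_inj c]
      calc c * r = c * r * c⁻¹ * c := by group
        _ = c * (c * r * c⁻¹) := h1.symm
    exact e ▸ h
  obtain ⟨v, j, hv, rfl⟩ := D.form_R hr
  by_cases hj : j = 0
  · subst hj
    refine ⟨1, one_mem _, v, hv, fun h => ?_, by rw [mP_facts.2.2.2]; group⟩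
    exact hra (by rw [mP_facts.2.2.2]; exact D.diag_iff.2 h)
  obtain ⟨g, hg, w, i, hw, hi, e⟩ := D.exists_mover
  obtain ⟨u, hu⟩ := plane_conj i j hi hj v w hv hw
  have hc : g⁻¹ * φ (jM u) ∈ centralizer ({a} : Set G) := mul_mem (inv_mem hg) (D.jdata.le (D.mem_J u))
  refine ⟨_, hc, ?_⟩
  have hLu : InL true false (jM u)⁻¹ := inL_iff.2 rfl
  have hx : ∀ {z : G}, φ (jM u) * z * (φ (jM u))⁻¹ = φ (mP w i) →
      g⁻¹ * φ (jM u) * z * (g⁻¹ * φ (jM u))⁻¹ = φ (jM (0, 1, 2)) := by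
    intro z hz
    calc _ = g⁻¹ * (φ (jM u) * z * (φ (jM u))⁻¹) * g := by group
      _ = _ := by rw [hz, ← e]; group
  rcases hu with hu | hu
  · refine ⟨(0, 1, 2), by decide +kernel, by decide +kernel, hx ?_⟩
    rw [← hu, D.hom _ _ (inL_iff.2 rfl) hLu, D.hom _ _ (D.inLjM u) (D.inLmP _ _), D.map_inv (D.inLjM u)]
  · refine ⟨(2 : ℕ) • ((0, 1, 2) : V3), by decide +kernel, by decide +kernel, ?_⟩
    have h2 := hx (z := φ (mP v j) * φ (mP v j)) (by
      rw [← hu, D.hom _ _ (inL_iff.2 (inL_mul_two _ _ rfl (inL_mul_two _ _ rfl rfl))) hLu,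
        D.hom _ _ (D.inLjM u) (inL_iff.2 (inL_mul_two _ _ rfl rfl)),
        D.hom _ _ (D.inLmP _ _) (D.inLmP _ _), D.map_inv (D.inLjM u)])
    have h4 : φ (mP v j) = (φ (mP v j) * φ (mP v j)) ^ 2 := by
      rw [← pow_two, ← pow_mul, show 2 * 2 = 3 + 1 from rfl, pow_add, D.exp _ hr, one_mul, pow_one]
    rw [D.jM_nsmul, h4, ← conj_pow, h2]

/-- `⟨a⟩` is weakly closed in `C(a)`. -/
theorem Loc.closed {g : G} (h : g * a * g⁻¹ ∈ centralizer ({a} : Set G)) : g ∈ M := by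
  have h3 : (g * a * g⁻¹) ^ 3 = 1 := by rw [conj_pow, D.cube_a, mul_one, mul_inv_cancel]
  obtain ⟨c, hc, hcP⟩ := sylow_conj D.sylowC h (k := 1) (by rw [pow_one]; exact h3)
  have hcg : c * (g * a * g⁻¹) * c⁻¹ = (c * g) * a * (c * g)⁻¹ := by group
  rw [hcg] at hcP
  suffices hz : (c * g) * a * (c * g)⁻¹ ∈ zpowers a by
    have h1 : c * g ∈ M := by
      refine D.mem_M_iff.2 ((D.pow_zp hz).resolve_left fun e => ?_)
      rw [mul_inv_eq_one, mul_eq_left] at e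
      have := D.order
      rw [e, orderOf_one] at this
      norm_num at this
    have := mul_mem (inv_mem (D.cent_le_M hc)) h1
    rwa [inv_mul_cancel_left] at this
  have hkey : ∀ {d : G} {v : V3}, d * a * d⁻¹ = φ (jM v) → Diag v := by
    intro d v e
    obtain ⟨p, hp, hw⟩ := D.fus (1, 1, 1) v d (by rw [D.a_eq]; exact e)
    exact (by decide +kernel : ∀ w : Wt, w.k = 0 → Diag (wact w (1, 1, 1))) p.w (inL_iff.1 hp) |> (hw ▸ ·)
  rcases D.three_mem hcP (by rw [conj_pow, D.cube_a, mul_one, mul_inv_cancel]) with hR | hJ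
  · by_contra hne
    obtain ⟨d, -, v, -, hv, e⟩ := D.R_conj hR hne
    refine hv (hkey (d := d * (c * g)) (v := v) ?_)
    rw [← e]; group
  · obtain ⟨v, hv⟩ := (D.memJ _).1 hJ
    rw [← hv]
    exact D.diag_iff.2 (hkey hv.symm)

/-- A conjugate of `a` in the normalizer of `⟨a⟩` lies in `⟨a⟩`. -/
theorem Loc.closed_M {g : G} (h : g * a * g⁻¹ ∈ M) : g ∈ M :=
  D.closed (D.odd_cent h (n := 3) (by decide) (by rw [conj_pow, D.cube_a, mul_one, mul_inv_cancel]))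

end Cfsg.Agent.SpThreeCent
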