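import Cfsg.Agent.Lib.SpThreeCent.OrbitTwoBase
import Cfsg.Agent.Lib.NineSym.Inverted
import Cfsg.Agent.Lib.SelfThree.Main
import Cfsg.Agent.Lib.SelfThree.Sixty

/-!
# The case of two classes: centralizers of the elements of order three
-/

set_option autoImplicit false
set_option linter.style.haveILetI false
set_option linter.unusedSectionVars false
set_option maxRecDepth 100000
set_option synthInstance.maxSize 10000

namespace Cfsg.Agent.SpThreeCent

open Subgroup
open Cfsg.Agent.NineSym (Mn Wt V3 InL Wok jM jM_add wM wact pact pmul SylowAt)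

/-- The involution fixing the plane vector and inverting the axis plane. -/
def sM : Mn := wM ⟨true, 0, 5⟩

/-- The vectors with equal last coordinates. -/
abbrev Axis (v : V3) : Prop := v.2.1 = v.2.2

theorem axis_facts : Axis (0 : V3) ∧ (∀ u v : V3, Axis u → Axis v → Axis (u + v)) ∧
    (∀ v : V3, Axis v → Axis (-v)) ∧ (∀ v : V3, -v = (2 : ℕ) • v) := by decide +kernel

theorem cube_facts : ∀ p : Mn, p.w.k = 0 → p.w * p.w = 1 → p ^ 6 = 1 ∧ (p ^ 3 = 1 → p.w = 1) := by
  decide +kernel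

theorem x_fix : ∀ w : Wt, w.k = 0 → wact w (0, 1, 2) = (0, 1, 2) → w = 1 ∨ w = sM.w := by decide +kernel

theorem y_fix : ∀ w : Wt, w.k = 0 → ∀ α β : ZMod 3, α ≠ β → wact w (α, β, β) = (α, β, β) →
    (w = 1 ∨ w = tM.w) ∧ (wact w (0, 1, 2) = (0, 1, 2) → w = 1) := by decide +kernel

theorem comm_x : ∀ u : V3, Axis (u + wact sM.w (-u)) ∧ Axis (u + wact 1 (-u)) ∧
    (Axis u → u = (2 : ℕ) • u + wact sM.w (-((2 : ℕ) • u)) ∧ wact sM.w u = -u) ∧
    ∃ v : V3, Axis v ∧ ∃ k : Fin 3, u = v + (k : ℕ) • ((0, 1, 2) : V3) := by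
  decide +kernel

theorem comm_y : ∀ u : V3, (∃ k : Fin 3, u + wact tM.w (-u) = (k : ℕ) • ((0, 1, 2) : V3)) ∧
    ∃ k : Fin 3, u + wact 1 (-u) = (k : ℕ) • ((0, 1, 2) : V3) := by
  decide +kernel

theorem to_reps : ∀ v : V3, ¬ Diag v → ∃ w : Wt, w.k = 0 ∧
    (wact w v = (0, 1, 2) ∨ ∃ α β : ZMod 3, α ≠ β ∧ wact w v = (α, β, β)) := by
  decide +kernel

/-- A group of order a power of three acting on a subgroup fixes a Sylow subgroup, if their number is
prime to three. -/
theorem exists_fixed {G : Type*} [Group G] [Finite G] {A K : Subgroup G} (hA : IsPGroup 3 A)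
    (hn : A ≤ normalizer (K : Set G)) {q : ℕ} [Fact q.Prime] (h : ¬ 3 ∣ Nat.card (Sylow q K)) :
    ∃ Q : Sylow q K, A ≤ normalizer (((Q : Subgroup K).map K.subtype : Subgroup G) : Set G) := by
  haveI : Fact (Nat.Prime 3) := ⟨Nat.prime_three⟩
  let f : A →* MulAut K := K.normalizerMonoidHom.comp (Subgroup.inclusion hn)
  letI : MulAction A (Sylow q K) := MulAction.compHom _ f
  obtain ⟨Q, hQ⟩ := hA.nonempty_fixed_point_of_prime_not_dvd_card (Sylow q K) h
  refine ⟨Q, fun j hj => ?_⟩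
  refine mem_normalizer_fintype fun x hx => ?_
  obtain ⟨k, hk, rfl⟩ := hx
  refine ⟨f ⟨j, hj⟩ k, ?_, rfl⟩
  rw [← (hQ ⟨j, hj⟩ : f ⟨j, hj⟩ • Q = Q)]
  exact smul_mem_pointwise_smul k _ _ hk

variable {G : Type*} [Group G] [Finite G] {a : G} {R J : Subgroup G} {φ : Mn → G}
variable (D : Loc a R J true false φ)
include D

local notation "M" => normalizer (zpowers a : Set G)

/-- The subgroup of the vectors with equal last coordinates. -/
def Loc.axis : Subgroup G where
  carrier := {g | ∃ v : V3, Axis v ∧ φ (jM v) = g}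
  one_mem' := ⟨0, axis_facts.1, D.map_one⟩
  mul_mem' := by
    rintro _ _ ⟨u, hu, rfl⟩ ⟨v, hv, rfl⟩
    exact ⟨u + v, axis_facts.2.1 u v hu hv, by rw [jM_add, D.hom _ _ (D.inLjM _) (D.inLjM _)]⟩
  inv_mem' := by
    rintro _ ⟨v, hv, rfl⟩
    refine ⟨-v, axis_facts.2.2.1 v hv, ?_⟩
    rw [axis_facts.2.2.2, D.jM_nsmul, eq_inv_iff_mul_eq_one, ← pow_succ]
    exact D.jdata.exp _ (D.mem_J v)

theorem Loc.mem_axis {g : G} : g ∈ D.axis ↔ ∃ v : V3, Axis v ∧ φ (jM v) = g := Iff.rfl

theorem Loc.axis_le : D.axis ≤ J := by rintro g ⟨v, -, rfl⟩; exact D.mem_J v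

theorem Loc.axis_iff {v : V3} : φ (jM v) ∈ D.axis ↔ Axis v :=
  ⟨fun ⟨u, hu, e⟩ => (show u = v from congrArg Mn.v (D.inj _ _ (D.inLjM u) (D.inLjM v) e)) ▸ hu,
    fun h => ⟨v, h, rfl⟩⟩

theorem Loc.card_axis : Nat.card D.axis = 9 := by
  set f : ZMod 3 × ZMod 3 → D.axis := fun q => ⟨φ (jM (q.1, q.2, q.2)), D.axis_iff.2 rfl⟩ with hf
  have hb : Function.Bijective f := by
    refine ⟨fun p q h => ?_, ?_⟩
    · have h1 := congrArg Mn.v (D.inj _ _ (D.inLjM _) (D.inLjM _) (congrArg Subtype.val h))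
      simp only [jM, Prod.mk.injEq] at h1
      exact Prod.ext h1.1 h1.2.1
    · rintro ⟨_, ⟨v1, v2, v3⟩, hv, rfl⟩
      refine ⟨(v1, v2), Subtype.ext ?_⟩
      show φ (jM (v1, v2, v2)) = φ (jM (v1, v2, v3))
      rw [show v2 = v3 from hv]
  rw [← Nat.card_congr (Equiv.ofBijective f hb)]
  simp

theorem Loc.jdiff {p : Mn} (hp : InL true false p) (u : V3) :
    φ (jM u) * φ p * (φ (jM u))⁻¹ * (φ p)⁻¹ = φ (jM (u + wact p.w (-u))) := by
  have h : (φ (jM u))⁻¹ = φ (jM (-u)) := by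
    refine inv_eq_of_mul_eq_one_right ?_
    rw [← D.hom _ _ (D.inLjM _) (D.inLjM _), ← jM_add, add_neg_cancel]
    exact D.map_one
  rw [jM_add, D.hom _ _ (D.inLjM _) (D.inLjM _), ← D.conj_j hp, h]
  group

theorem Loc.w_one {p : Mn} (hp : InL true false p) {k : ℕ} (hk : φ p ^ 3 ^ k = 1) (hw : p.w * p.w = 1) :
    p.w = 1 := by
  obtain ⟨h6, h3⟩ := cube_facts p (inL_iff.1 hp) hw
  refine h3 (D.two_eq_one (D.inL_pow hp 3) ?_)
  rw [D.two_map_pow hp, ← orderOf_dvd_iff_pow_eq_one]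
  have d1 : orderOf (φ p) ∣ 3 ^ k := orderOf_dvd_of_pow_eq_one hk
  have d2 : orderOf (φ p) ∣ 2 * 3 := orderOf_dvd_of_pow_eq_one (by
    rw [show 2 * 3 = 6 from rfl, ← D.two_map_pow hp, h6, D.map_one])
  exact (Nat.Coprime.coprime_dvd_left d1 (Nat.Coprime.pow_left k (by norm_num : Nat.Coprime 3 2))).dvd_of_dvd_mul_left d2

theorem Loc.two_J_le_cent (v : V3) : J ≤ centralizer ({φ (jM v)} : Set G) := fun j hj =>
  mem_centralizer_singleton_iff.2 (D.jdata.comm j hj _ (D.mem_J v))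

theorem Loc.mem_J_of {p : Mn} (hp : InL true false p) (hw : p.w = 1) : φ p ∈ J := by
  obtain ⟨pv, pw⟩ := p
  exact (D.memJ _).2 ⟨pv, by rw [jM, show (pw : Wt) = 1 from hw]⟩

theorem Loc.s_inv {v : V3} (hv : Axis v) : φ sM * φ (jM v) * (φ sM)⁻¹ = (φ (jM v))⁻¹ := by
  rw [D.conj_j (inL_iff.2 rfl), (comm_x v).2.2.1 hv |>.2, ← D.map_inv (D.inLjM v)]
  exact congrArg φ ((by decide +kernel : ∀ v : V3, jM (-v) = (jM v)⁻¹) v)

theorem Loc.s_sq : φ sM * φ sM = 1 := by
  rw [← D.hom _ _ (inL_iff.2 rfl) (inL_iff.2 rfl), show sM * sM = 1 by decide +kernel, D.map_one]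

theorem Loc.pair_facts {v : V3} {u : Mn} (hu : InL true false u) (hv : wact u.w v = v) :
    φ u ∈ centralizer ({φ (jM v)} : Set G) := mem_centralizer_singleton_iff.2 ((D.comm_iff hu v).2 hv)

/-- The centralizer of the vector in the plane. -/
theorem Loc.cent_x : centralizer ({φ (jM (0, 1, 2))} : Set G) ≤ normalizer (J : Set G) := by
  set C := centralizer ({φ (jM (0, 1, 2))} : Set G) with hC
  have hJC : J ≤ C := D.two_J_le_cent _
  have hform : ∀ g ∈ C, g ∈ normalizer (J : Set G) →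
      ∃ p, InL true false p ∧ φ p = g ∧ (p.w = 1 ∨ p.w = sM.w) := by
    intro g hgC hg
    obtain ⟨p, hp, rfl⟩ := D.norm_eq g hg
    exact ⟨p, hp, rfl, x_fix _ (inL_iff.1 hp) ((D.comm_iff hp _).1 (mem_centralizer_singleton_iff.1 hgC))⟩
  have hS : SylowAt C J := by
    refine SylowAt.of_normalizer hJC (IsPGroup.of_card (p := 3) (n := 3) (by rw [D.jdata.card]; norm_num))
      fun g hgC hg ⟨k, hk⟩ => ?_
    obtain ⟨p, hp, rfl, hw⟩ := hform g hgC hg
    refine D.mem_J_of hp (D.w_one hp hk ?_)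
    rcases hw with e | e <;> rw [e] <;> decide +kernel
  obtain ⟨K, hKC, hKn, hKJ, hKc, hCK, hKp, hKS⟩ := hS.split D.jdata.comm (F := D.axis) (fun n hn hnN x hx => by
    obtain ⟨p, hp, rfl, hw⟩ := hform n hn hnN
    obtain ⟨u, rfl⟩ := (D.memJ x).1 hx
    rw [D.jdiff hp, D.axis_iff]
    rcases hw with e | e <;> rw [e]
    exacts [(comm_x u).2.1, (comm_x u).1])
  have hsC : φ sM ∈ C := D.pair_facts (inL_iff.2 rfl) (by decide +kernel)
  have hXK : D.axis ≤ K := by
    rintro g ⟨v, hv, rfl⟩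
    rw [(comm_x v).2.2.1 hv |>.1, ← D.jdiff (inL_iff.2 rfl)]
    exact hKc _ (D.mem_J _) _ hsC (D.mem_norm _ (inL_iff.2 rfl))
  have hXeq : K ⊓ J = D.axis := le_antisymm hKJ (le_inf hXK D.axis_le)
  rw [hXeq] at hKS
  have hsK : φ sM ∈ K := hKp _ hsC ((by norm_num : Nat.Coprime 2 3).coprime_dvd_left
    (orderOf_dvd_of_pow_eq_one (by rw [pow_two, D.s_sq])))
  -- normalizing the axis plane and centralizing the vector
  have hNJ : ∀ g ∈ C, g ∈ normalizer (D.axis : Set G) → g ∈ normalizer (J : Set G) := by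
    intro g hgC hg
    refine mem_normalizer_fintype fun j hj => ?_
    obtain ⟨u, rfl⟩ := (D.memJ j).1 hj
    obtain ⟨-, -, -, v, hv, k, rfl⟩ := comm_x u
    show g * φ (jM (v + (k : ℕ) • (0, 1, 2))) * g⁻¹ ∈ J
    rw [jM_add, D.hom _ _ (D.inLjM _) (D.inLjM _), D.jM_nsmul]
    have hgx : Commute g (φ (jM (0, 1, 2))) := mem_centralizer_singleton_iff.1 hgC
    rw [show g * (φ (jM v) * φ (jM (0, 1, 2)) ^ (k : ℕ)) * g⁻¹ =
      (g * φ (jM v) * g⁻¹) * (g * φ (jM (0, 1, 2)) ^ (k : ℕ) * g⁻¹) by group, ← conj_pow,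
      show g * φ (jM (0, 1, 2)) * g⁻¹ = φ (jM (0, 1, 2)) from mul_inv_eq_iff_eq_mul.2 hgx.eq]
    exact mul_mem (D.axis_le ((mem_normalizer_iff.1 hg _).1 (D.axis_iff.2 hv))) (pow_mem (D.mem_J _) _)
  have hKnorm : K ≤ normalizer (D.axis : Set G) := by
    refine NineSym.normal_of_inverted hKS (fun x hx y hy => D.jdata.comm x (D.axis_le hx) y (D.axis_le hy))
      (fun x hx => D.jdata.exp x (D.axis_le hx)) D.card_axis hsK D.s_sq
      (by rintro _ ⟨v, hv, rfl⟩; exact D.s_inv hv) (fun g hgK hg => ?_) (fun Q hQK hQ hXQ => ?_)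
    · obtain ⟨p, hp, rfl, hw⟩ := hform g (hKC hgK) (hNJ g (hKC hgK) hg)
      rcases hw with e | e
      · exact Or.inl (by rintro _ ⟨v, -, rfl⟩; rw [D.conj_j hp, e, NineSym.wact_one])
      · refine Or.inr ?_
        rintro _ ⟨v, hv, rfl⟩
        rw [D.conj_j hp, e, ← D.conj_j (inL_iff.2 rfl) (p := sM), D.s_inv hv]
    · rw [D.sig Q hQ ?_]
      · exact bot_le
      intro j hj
      obtain ⟨u, rfl⟩ := (D.memJ j).1 hj
      obtain ⟨-, -, -, v, hv, k, rfl⟩ := comm_x u
      rw [jM_add, D.hom _ _ (D.inLjM _) (D.inLjM _), D.jM_nsmul]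
      refine mul_mem (hXQ (D.axis_iff.2 hv)) (pow_mem ?_ _)
      refine centralizer_le_normalizer _ (mem_centralizer_iff.2 fun q hq => ?_)
      exact mem_centralizer_singleton_iff.1 (hKC (hQK hq))
  intro g hg
  obtain ⟨k, hk, j, hj, rfl⟩ := hCK g hg
  exact mul_mem (hNJ k (hKC hk) (hKnorm hk)) (le_normalizer hj)

theorem Loc.no_fours {K : Subgroup G} {q : ℕ} (hq : q.Prime) (hq3 : q ≠ 3)
    (hdvd : q ∣ Nat.card K) (Q : Sylow q K)
    (hQ : J ≤ normalizer (((Q : Subgroup K).map K.subtype : Subgroup G) : Set G)) : False := by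
  haveI : Fact q.Prime := ⟨hq⟩
  have hcop : (Nat.card ((Q : Subgroup K).map K.subtype : Subgroup G)).Coprime 3 := by
    obtain ⟨n, hn⟩ := Q.2.exists_card_eq
    rw [card_map_of_injective K.subtype_injective, hn]
    exact Nat.Coprime.pow_left n ((Nat.coprime_primes hq Nat.prime_three).2 hq3)
  exact SmallSimple.Basic.sylow_ne_bot hdvd Q
    ((map_eq_bot_iff_of_injective _ K.subtype_injective).1 (D.sig _ hcop hQ))

open Cfsg.Agent.SelfThree in
/-- The centralizer of a vector outside the plane. -/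
theorem Loc.cent_y {α β : ZMod 3} (hab : α ≠ β) :
    centralizer ({φ (jM (α, β, β))} : Set G) ≤ normalizer (J : Set G) := by
  classical
  set C := centralizer ({φ (jM (α, β, β))} : Set G) with hC
  set x := φ (jM (0, 1, 2)) with hx
  have hJC : J ≤ C := D.two_J_le_cent _
  have hform : ∀ g ∈ C, g ∈ normalizer (J : Set G) →
      ∃ p, InL true false p ∧ φ p = g ∧ (p.w = 1 ∨ p.w = tM.w) := by
    intro g hgC hg
    obtain ⟨p, hp, rfl⟩ := D.norm_eq g hg
    exact ⟨p, hp, rfl,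
      (y_fix _ (inL_iff.1 hp) α β hab ((D.comm_iff hp _).1 (mem_centralizer_singleton_iff.1 hgC))).1⟩
  have hS : SylowAt C J := by
    refine SylowAt.of_normalizer hJC (IsPGroup.of_card (p := 3) (n := 3) (by rw [D.jdata.card]; norm_num))
      fun g hgC hg ⟨k, hk⟩ => ?_
    obtain ⟨p, hp, rfl, hw⟩ := hform g hgC hg
    refine D.mem_J_of hp (D.w_one hp hk ?_)
    rcases hw with e | e <;> rw [e] <;> decide +kernel
  obtain ⟨K, hKC, hKn, hKJ, hKc, hCK, hKp, hKS⟩ := hS.split D.jdata.comm (F := zpowers x) (fun n hn hnN z hz => by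
    obtain ⟨p, hp, rfl, hw⟩ := hform n hn hnN
    obtain ⟨u, rfl⟩ := (D.memJ z).1 hz
    rw [D.jdiff hp]
    rcases hw with e | e <;> rw [e]
    · obtain ⟨m, hm⟩ := (comm_y u).2
      rw [hm, D.jM_nsmul]; exact npow_mem_zpowers x _
    · obtain ⟨m, hm⟩ := (comm_y u).1
      rw [hm, D.jM_nsmul]; exact npow_mem_zpowers x _)
  have htfix : wact tM.w (α, β, β) = (α, β, β) := (by decide +kernel : ∀ α β : ZMod 3,
    wact tM.w (α, β, β) = (α, β, β)) α β
  have htC : φ tM ∈ C := D.pair_facts (inL_iff.2 rfl) htfix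
  have htN : φ tM ∈ normalizer (J : Set G) := D.mem_norm _ (inL_iff.2 rfl)
  have htK : φ tM ∈ K := hKp _ htC ((by norm_num : Nat.Coprime 2 3).coprime_dvd_left
    (orderOf_dvd_of_pow_eq_one (by rw [pow_two, D.t_facts.1])))
  have hxK : x ∈ K := by
    rw [hx, show ((0, 1, 2) : V3) = (0, 2, 1) + wact tM.w (-(0, 2, 1)) by decide +kernel,
      ← D.jdiff (inL_iff.2 rfl)]
    exact hKc _ (D.mem_J _) _ htC htN
  have hxo : orderOf x = 3 := orderOf_eq_prime (D.jdata.exp _ (D.mem_J _)) fun e => by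
    exact (by decide +kernel : ((0, 1, 2) : V3) ≠ 0) (congrArg Mn.v (D.two_eq_one (D.inLjM _) e))
  have hself : Self (⟨x, hxK⟩ : K) := by
    refine ⟨by rw [orderOf_mk, hxo], fun g hg => ?_⟩
    have hgx : (g : G) ∈ centralizer ({x} : Set G) :=
      mem_centralizer_singleton_iff.2 (congrArg Subtype.val hg).symm
    obtain ⟨p, hp, e⟩ := D.norm_eq _ (D.cent_x hgx)
    have h1 : wact p.w (0, 1, 2) = (0, 1, 2) := (D.comm_iff hp _).1 (by
      rw [e]; exact mem_centralizer_singleton_iff.1 hgx)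
    have h2 : wact p.w (α, β, β) = (α, β, β) := (D.comm_iff hp _).1 (by
      rw [e]; exact mem_centralizer_singleton_iff.1 (hKC g.2))
    have hgJ : (g : G) ∈ J := e ▸ D.mem_J_of hp ((y_fix _ (inL_iff.1 hp) α β hab h2).2 h1)
    obtain ⟨n, hn⟩ := mem_zpowers_iff.1 (hKJ ⟨g.2, hgJ⟩)
    exact ⟨n, Subtype.ext (by simpa using hn)⟩
  have hJK : J ≤ normalizer (K : Set G) := hJC.trans hKn
  obtain ⟨N, hN, hN3, hshape⟩ := shape_of_self _ hself rfl
  have hNbot : N = ⊥ := by
    haveI : (Cfsg.pPrimeCore 3 K).Characteristic := PLocal.Cores.pPrimeCore_characteristic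
    have h1 : (Cfsg.pPrimeCore 3 K).map K.subtype = ⊥ := by
      refine D.sig _ ?_ fun j hj => Inv.map_char (hJK hj) _
      rw [card_map_of_injective K.subtype_injective]
      exact PLocal.Cores.coprime_card_pPrimeCore
    rw [map_eq_bot_iff_of_injective _ K.subtype_injective] at h1
    exact le_bot_iff.1 (h1 ▸ PLocal.Cores.le_pPrimeCore ((Nat.prime_three.coprime_iff_not_dvd.2 hN3).symm))
  subst hNbot
  haveI : Fact (Nat.Prime 2) := ⟨Nat.prime_two⟩
  haveI : Fact (Nat.Prime 3) := ⟨Nat.prime_three⟩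
  rcases hshape with h | h | h
  · -- the small case
    rw [index_bot] at h
    have hKle : K ≤ normalizer (J : Set G) := by
      have hxN : x ∈ normalizer (J : Set G) := le_normalizer (D.mem_J _)
      set L := zpowers x ⊔ zpowers (φ tM) with hL
      have hLK : L ≤ K := sup_le (zpowers_le.2 hxK) (zpowers_le.2 htK)
      have hto : orderOf (φ tM) = 2 := orderOf_eq_prime (by rw [pow_two, D.t_facts.1]) fun e => by
        exact (by decide +kernel : tM ≠ 1) (D.two_eq_one (inL_iff.2 rfl) e)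
      have h3 : 3 ∣ Nat.card L := by
        rw [← hxo, ← Nat.card_zpowers]
        exact card_dvd_of_le le_sup_left
      have h2 : 2 ∣ Nat.card L := by
        rw [← hto, ← Nat.card_zpowers]
        exact card_dvd_of_le le_sup_right
      rw [← eq_of_le_of_card_ge hLK (le_trans (by omega)
        (Nat.le_of_dvd Nat.card_pos ((by norm_num : Nat.Coprime 2 3).mul_dvd_of_dvd_of_dvd h2 h3)))]
      exact sup_le (zpowers_le.2 hxN) (zpowers_le.2 htN)
    intro g hg
    obtain ⟨k, hk, j, hj, rfl⟩ := hCK g hg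
    exact mul_mem (hKle hk) (le_normalizer hj)
  · exfalso
    haveI := h.simple
    haveI : IsSimpleGroup K :=
      (QuotientGroup.quotientBot (G := K)).symm.isSimpleGroup
    have h60 : Nat.card K = 60 := by rw [← h.index, index_bot]
    obtain ⟨P, Q, hne, hPQ⟩ := hself.two_fours h60
    let f : J →* MulAut K := K.normalizerMonoidHom.comp (Subgroup.inclusion hJK)
    have hperm : ∀ j : J, ∀ S : Sylow 2 K, S = P ∨ S = Q → f j • S = P ∨ f j • S = Q := by
      intro j S hS
      refine (hPQ _).1 (Sylow.smul_eq_iff_mem_normalizer.1 ?_)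
      have hcomm : MulAut.conj (⟨x, hxK⟩ : K) * f j = f j * MulAut.conj (⟨x, hxK⟩ : K) := by
        refine MulEquiv.ext fun k => Subtype.ext ?_
        show x * ((j : G) * (k : G) * (j : G)⁻¹) * x⁻¹ = (j : G) * (x * (k : G) * x⁻¹) * (j : G)⁻¹
        have hc : Commute x (j : G) := D.jdata.comm _ (D.mem_J _) _ j.2
        calc _ = (x * (j : G)) * (k : G) * (x * (j : G))⁻¹ := by group
          _ = ((j : G) * x) * (k : G) * ((j : G) * x)⁻¹ := by rw [hc.eq]
          _ = _ := by group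
      have hfix : MulAut.conj (⟨x, hxK⟩ : K) • S = S :=
        Sylow.smul_eq_iff_mem_normalizer.2 ((hPQ S).2 hS)
      show MulAut.conj (⟨x, hxK⟩ : K) • f j • S = f j • S
      rw [smul_smul, hcomm, mul_smul, hfix]
    have hP : ∀ j : J, f j • P = P := by
      intro j
      have hj3 : f j * (f j * f j) = 1 := by
        rw [← _root_.map_mul, ← _root_.map_mul, show j * (j * j) = 1 from Subtype.ext (by
          show (j : G) * ((j : G) * j) = 1
          rw [← pow_two, ← pow_succ', D.jdata.exp _ j.2]), _root_.map_one]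
      rcases hperm j P (Or.inl rfl) with h1 | h1
      · exact h1
      exfalso
      rcases hperm j Q (Or.inr rfl) with h2 | h2
      · have := congrArg (· • P) hj3
        simp only [mul_smul, h1, h2, one_smul] at this
        exact hne this.symm
      · exact hne (MulAction.injective (f j) (h1.trans h2.symm))
    refine D.no_fours Nat.prime_two (by norm_num) (by rw [h60]; norm_num) P fun j hj => ?_
    refine mem_normalizer_fintype fun y hy => ?_
    obtain ⟨k, hk, rfl⟩ := hy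
    refine ⟨f ⟨j, hj⟩ k, ?_, rfl⟩
    rw [← hP ⟨j, hj⟩]
    exact smul_mem_pointwise_smul k _ _ hk
  · exfalso
    haveI : Fact (Nat.Prime 7) := ⟨by norm_num⟩
    have h168 : Nat.card K = 168 := h.2.2
    have hn : ¬ 3 ∣ Nat.card (Sylow 7 K) := by
      intro h3
      have P : Sylow 7 K := default
      have hP : Nat.card (P : Subgroup K) = 7 := by
        simpa using SmallSimple.Basic.card_sylow_eq_pow (p := 7) (a := 1) (m := 24) (by rw [h168]; norm_num)
          (by norm_num) P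
      have hd : Nat.card (Sylow 7 K) ∣ 24 := by
        refine P.card_dvd_index.trans ?_
        have := (P : Subgroup K).card_mul_index
        rw [hP, h168] at this
        exact dvd_of_eq (Nat.eq_of_mul_eq_mul_left (by norm_num : 0 < 7) (this.trans (by norm_num)))
      have hmod : Nat.card (Sylow 7 K) % 7 = 1 := card_sylow_modEq_one 7 K
      have hle := Nat.le_of_dvd (by norm_num) hd
      interval_cases Nat.card (Sylow 7 K) <;> omega
    obtain ⟨Q, hQ⟩ := exists_fixed (IsPGroup.of_card (p := 3) (n := 3) (by rw [D.jdata.card]; norm_num)) hJK hn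
    exact D.no_fours (by norm_num) (by norm_num) (by rw [h168]; norm_num) Q hQ

/-- Centralizers of the elements of `J` outside `⟨a⟩`. -/
theorem Loc.cent_J {v : V3} (hv : ¬ Diag v) : centralizer ({φ (jM v)} : Set G) ≤ normalizer (J : Set G) := by
  obtain ⟨w, hk, hw⟩ := to_reps v hv
  have hwL : InL true false (wM w) := inL_iff.2 hk
  have hn := D.mem_norm _ hwL
  have hle : centralizer ({φ (jM (wact w v))} : Set G) ≤ normalizer (J : Set G) := by
    rcases hw with e | ⟨α, β, hab, e⟩ <;> rw [e]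
    exacts [D.cent_x, D.cent_y hab]
  intro g hg
  have h1 : φ (wM w) * g * (φ (wM w))⁻¹ ∈ normalizer (J : Set G) := by
    refine hle (mem_centralizer_singleton_iff.2 ?_)
    rw [show φ (jM (wact w v)) = φ (wM w) * φ (jM v) * (φ (wM w))⁻¹ from (D.conj_j hwL v).symm]
    have := mem_centralizer_singleton_iff.1 hg
    calc _ = φ (wM w) * (g * φ (jM v)) * (φ (wM w))⁻¹ := by group
      _ = _ := by rw [this]; group
  have := mul_mem (mul_mem (inv_mem hn) h1) hn
  simpa [mul_assoc] using this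

/-- Centralizers of the elements of order three of `C(a)`. -/
theorem Loc.cent_three {u : G} (hu : u ∈ centralizer ({a} : Set G)) (h3 : u ^ 3 = 1) (hu1 : u ≠ 1) :
    centralizer ({u} : Set G) ≤ M := by
  have hza : ∀ {z : G}, z ∈ zpowers a → z ≠ 1 → centralizer ({z} : Set G) ≤ M := by
    intro z hz hz1 g hg
    refine D.cent_le_M (mem_centralizer_singleton_iff.2 ?_)
    have h : Commute g z := mem_centralizer_singleton_iff.1 hg
    rcases (D.pow_zp hz).resolve_left hz1 with rfl | rfl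
    · exact h.eq
    · simpa using h.inv_right.eq
  obtain ⟨c, hc, hcP⟩ := sylow_conj D.sylowC hu (k := 1) (by rw [pow_one]; exact h3)
  set u' := c * u * c⁻¹ with hu'
  have hu'1 : u' ≠ 1 := fun e => hu1 (by rwa [hu', conj_eq_one_iff] at e)
  suffices centralizer ({u'} : Set G) ≤ M by
    intro g hg
    have h1 : c * g * c⁻¹ ∈ M := this (mem_centralizer_singleton_iff.2 (by
      rw [hu']
      calc _ = c * (g * u) * c⁻¹ := by group
        _ = _ := by rw [mem_centralizer_singleton_iff.1 hg]; group))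
    have := mul_mem (mul_mem (inv_mem (D.cent_le_M hc)) h1) (D.cent_le_M hc)
    simpa [mul_assoc] using this
  have hJcase : ∀ v : V3, φ (jM v) ≠ 1 → centralizer ({φ (jM v)} : Set G) ≤ M := fun v hne => by
    by_cases hd : Diag v
    · exact hza (D.diag_iff.2 hd) hne
    · exact (D.cent_J hd).trans D.normJ_le_M
  rcases D.three_mem hcP (by rw [hu', conj_pow, h3, mul_one, mul_inv_cancel]) with hR | hJ
  · by_cases hz : u' ∈ zpowers a
    · exact hza hz hu'1
    obtain ⟨d, hd, v, -, hv, e⟩ := D.R_conj hR hz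
    intro g hg
    have h1 : d * g * d⁻¹ ∈ M := by
      refine (D.cent_J hv).trans D.normJ_le_M (mem_centralizer_singleton_iff.2 ?_)
      rw [← e]
      calc _ = d * (g * u') * d⁻¹ := by group
        _ = _ := by rw [mem_centralizer_singleton_iff.1 hg]; group
    have := mul_mem (mul_mem (inv_mem (D.cent_le_M hd)) h1) (D.cent_le_M hd)
    simpa [mul_assoc] using this
  · obtain ⟨v, e⟩ := (D.memJ _).1 hJ
    exact e ▸ hJcase v (e.symm ▸ hu'1)

/-- Normalizers of the nontrivial subgroups of order a power of three of `M`. -/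
theorem Loc.normalizer_le {Q : Subgroup G} (hQ : IsPGroup 3 Q) (hQM : Q ≤ M) (h1 : Q ≠ ⊥) :
    normalizer (Q : Set G) ≤ M := by
  haveI : Fact (Nat.Prime 3) := ⟨Nat.prime_three⟩
  have hQC : Q ≤ centralizer ({a} : Set G) := fun q hq => by
    obtain ⟨k, hk⟩ := hQ ⟨q, hq⟩
    exact D.odd_cent (hQM hq) (n := 3 ^ k) (Odd.pow (by decide)) (by simpa using congrArg Subtype.val hk)
  haveI : Nontrivial Q := (Subgroup.nontrivial_iff_ne_bot Q).2 h1
  haveI := hQ.center_nontrivial
  obtain ⟨z, hz⟩ := exists_prime_orderOf_dvd_card' (G := center Q) 3 (by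
    obtain ⟨n, hn⟩ := (hQ.to_subgroup (center Q)).exists_card_eq
    have hlt : 1 < Nat.card (center Q) := Finite.one_lt_card
    rw [hn] at hlt ⊢
    exact dvd_pow_self 3 (by rintro rfl; simp at hlt))
  obtain ⟨u, hu⟩ : ∃ u : G, u = ((z : Q) : G) := ⟨_, rfl⟩
  have huQ : u ∈ Q := hu ▸ (z : Q).2
  have huo : orderOf u = 3 := by rw [hu, Subgroup.orderOf_coe, Subgroup.orderOf_coe, hz]
  intro g hg
  refine D.closed_M (D.cent_three (hQC huQ) (huo ▸ pow_orderOf_eq_one u) (fun e => by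
    rw [e, orderOf_one] at huo; norm_num at huo) (mem_centralizer_singleton_iff.2 ?_))
  have hgu : g⁻¹ * u * g ∈ Q := by
    have := (mem_normalizer_iff.1 (inv_mem hg) u).1 huQ
    simpa using this
  have h2 : (g⁻¹ * u * g) * a = a * (g⁻¹ * u * g) := mem_centralizer_singleton_iff.1 (hQC hgu)
  calc g * a * g⁻¹ * u = g * (a * (g⁻¹ * u * g)) * g⁻¹ := by group
    _ = g * ((g⁻¹ * u * g) * a) * g⁻¹ := by rw [h2]
    _ = _ := by group

end Cfsg.Agent.SpThreeCent
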