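import Cfsg.Agent.Lib.SpThreeCent.Fields
import Cfsg.Agent.Lib.SpThreeCent.SixEnd.Stab
import Cfsg.Agent.S0215

/-!
# The centralizer of two commuting transvections

The transvection `(03)` is isolated in `Y = C((12), (45))`; by the `Z*`-theorem `Y = O(Y) C(03)`, and the
odd core is trivial: `(03)` inverts it, the four group `(36)(78), (37)(68), (38)(67)` centralizes it, so
`(78)` and `(68)` invert it and `e₃` centralizes it.
-/

set_option autoImplicit false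
set_option linter.style.haveILetI false
set_option linter.unusedSectionVars false
set_option maxRecDepth 100000
set_option synthInstance.maxSize 10000

namespace Cfsg.Agent.SpThreeCent

open Subgroup
open Cfsg.Agent.NineSym
open Cfsg.Agent.ExtraTwoNine.CoordPerm (P6)
open SymSix (cb cc ct cw)
open SixEnd (bil tvS rep tvS_comm_bil)

/-- A four group permuted cyclically by an element without fixed points acts trivially on an abelian
group of odd order. -/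
theorem klein_cycle_fix {G : Type*} [Group G] {O : Subgroup G}
    (hcomm : ∀ x ∈ O, ∀ y ∈ O, x * y = y * x) (hodd : ∀ x ∈ O, x * x = 1 → x = 1)
    {n0 n1 n2 e : G} (hn0 : n0 * n0 = 1) (hn1 : n1 * n1 = 1) (h012 : n0 * n1 = n2)
    (h01 : n0 * n1 = n1 * n0) (he : e ^ 3 = 1)
    (he0 : e * n0 * e⁻¹ = n1) (he1 : e * n1 * e⁻¹ = n2)
    (hN0 : ∀ x ∈ O, n0 * x * n0⁻¹ ∈ O) (hN1 : ∀ x ∈ O, n1 * x * n1⁻¹ ∈ O)
    (hNe : ∀ x ∈ O, e * x * e⁻¹ ∈ O) (hfix : ∀ x ∈ O, e * x * e⁻¹ = x → x = 1) :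
    ∀ x ∈ O, n0 * x * n0⁻¹ = x := by
  have he3 : e * e * e = 1 := by rw [← pow_three', he]
  have he2 : e * n2 * e⁻¹ = n0 := by
    rw [show n2 = e * (e * n0 * e⁻¹) * e⁻¹ by rw [he0, he1],
      show e * (e * (e * n0 * e⁻¹) * e⁻¹) * e⁻¹ = (e * e * e) * n0 * (e * e * e)⁻¹ by group, he3, one_mul,
      inv_one, mul_one]
  have hn0i : n0⁻¹ = n0 := inv_eq_of_mul_eq_one_left hn0
  have hn1i : n1⁻¹ = n1 := inv_eq_of_mul_eq_one_left hn1
  -- an element inverted by the first and fixed by the second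
  have stepA : ∀ u ∈ O, n0 * u * n0⁻¹ = u⁻¹ → n1 * u * n1⁻¹ = u → u = 1 := by
    intro u hu hu0 hu1
    set w := e * u * e⁻¹ with hw
    set w' := e * w * e⁻¹ with hw'
    have hwO : w ∈ O := hNe u hu
    have hw'O : w' ∈ O := hNe w hwO
    have hw1 : n1 * w * n1⁻¹ = w⁻¹ := by
      rw [hw, ← he0, show e * n0 * e⁻¹ * (e * u * e⁻¹) * (e * n0 * e⁻¹)⁻¹ = e * (n0 * u * n0⁻¹) * e⁻¹ by group,
        hu0]
      group
    have hw2 : n2 * w * n2⁻¹ = w := by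
      rw [hw, ← he1, show e * n1 * e⁻¹ * (e * u * e⁻¹) * (e * n1 * e⁻¹)⁻¹ = e * (n1 * u * n1⁻¹) * e⁻¹ by group,
        hu1]
    have hw0 : n0 * w * n0⁻¹ = w⁻¹ := by
      have h : n0 = n1 * n2 := by
        rw [← h012, h01, ← mul_assoc, hn1, one_mul]
      rw [h, show n1 * n2 * w * (n1 * n2)⁻¹ = n1 * (n2 * w * n2⁻¹) * n1⁻¹ by group, hw2, hw1]
    have hw'0 : n0 * w' * n0⁻¹ = w' := by
      rw [hw', ← he2, show e * n2 * e⁻¹ * (e * w * e⁻¹) * (e * n2 * e⁻¹)⁻¹ = e * (n2 * w * n2⁻¹) * e⁻¹ by group,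
        hw2]
    have hz : u * w * w' = 1 := hfix _ (mul_mem (mul_mem hu hwO) hw'O) (by
      rw [show e * (u * w * w') * e⁻¹ = (e * u * e⁻¹) * (e * w * e⁻¹) * (e * w' * e⁻¹) by group, ← hw, ← hw',
        show e * w' * e⁻¹ = (e * e * e) * u * (e * e * e)⁻¹ by rw [hw', hw]; group, he3, one_mul, inv_one,
        mul_one]
      exact hcomm _ (mul_mem hwO hw'O) _ hu |>.trans (mul_assoc _ _ _).symm)
    have hz' : u⁻¹ * w⁻¹ * w' = 1 := by
      rw [← hu0, ← hw0]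
      nth_rewrite 1 [← hw'0]
      rw [show n0 * u * n0⁻¹ * (n0 * w * n0⁻¹) * (n0 * w' * n0⁻¹) = n0 * (u * w * w') * n0⁻¹ by group, hz]
      group
    have h2 : w' * w' = 1 := by
      have e1 : w' = (u * w)⁻¹ := eq_inv_of_mul_eq_one_right hz
      have e2 : w' = w * u := by
        rw [← mul_inv_rev] at hz'
        exact (inv_mul_eq_one.1 hz').symm
      calc w' * w' = (u * w)⁻¹ * (w * u) := by rw [← e1, ← e2]
        _ = 1 := by rw [hcomm w hwO u hu, inv_mul_cancel]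
    have h3 := hodd w' hw'O h2
    rw [hw', conj_eq_one_iff, hw, conj_eq_one_iff] at h3
    exact h3
  intro x hx
  set u := x * (n0 * x * n0⁻¹)⁻¹ with hu
  have huO : u ∈ O := mul_mem hx (inv_mem (hN0 x hx))
  have hu0 : n0 * u * n0⁻¹ = u⁻¹ := by
    rw [hu, show n0 * (x * (n0 * x * n0⁻¹)⁻¹) * n0⁻¹ =
      (n0 * x * n0⁻¹) * ((n0 * n0) * x * (n0 * n0)⁻¹)⁻¹ by group, hn0]
    group
  set v := u * (n1 * u * n1⁻¹) with hv
  have hvO : v ∈ O := mul_mem huO (hN1 u huO)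
  have hv1 : n1 * v * n1⁻¹ = v := by
    rw [hv, show n1 * (u * (n1 * u * n1⁻¹)) * n1⁻¹ =
      (n1 * u * n1⁻¹) * ((n1 * n1) * u * (n1 * n1)⁻¹) by group, hn1, one_mul, inv_one, mul_one]
    exact hcomm _ (hN1 u huO) _ huO
  have hv0 : n0 * v * n0⁻¹ = v⁻¹ := by
    rw [hv, show n0 * (u * (n1 * u * n1⁻¹)) * n0⁻¹ =
      (n0 * u * n0⁻¹) * ((n0 * n1) * u * (n0 * n1)⁻¹) by group, h01,
      show n1 * n0 * u * (n1 * n0)⁻¹ = n1 * (n0 * u * n0⁻¹) * n1⁻¹ by group, hu0,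
      show u⁻¹ * (n1 * u⁻¹ * n1⁻¹) = ((n1 * u * n1⁻¹) * u)⁻¹ by group, hcomm _ (hN1 u huO) _ huO]
  have hu1 : n1 * u * n1⁻¹ = u⁻¹ := by
    have := stepA v hvO hv0 hv1
    rw [hv] at this
    exact eq_inv_of_mul_eq_one_right this
  have hu2 : n2 * u * n2⁻¹ = u := by
    rw [← h012, show n0 * n1 * u * (n0 * n1)⁻¹ = n0 * (n1 * u * n1⁻¹) * n0⁻¹ by group, hu1,
      show n0 * u⁻¹ * n0⁻¹ = (n0 * u * n0⁻¹)⁻¹ by group, hu0, inv_inv]
  set u' := e * u * e⁻¹ with hu'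
  set u'' := e * u' * e⁻¹ with hu''
  have h'2 : n2 * u' * n2⁻¹ = u'⁻¹ := by
    rw [hu', ← he1, show e * n1 * e⁻¹ * (e * u * e⁻¹) * (e * n1 * e⁻¹)⁻¹ = e * (n1 * u * n1⁻¹) * e⁻¹ by group,
      hu1]
    group
  have h'0 : n0 * u' * n0⁻¹ = u' := by
    rw [hu', ← he2, show e * n2 * e⁻¹ * (e * u * e⁻¹) * (e * n2 * e⁻¹)⁻¹ = e * (n2 * u * n2⁻¹) * e⁻¹ by group,
      hu2]
  have h1 : u'' = 1 := stepA u'' (hNe _ (hNe _ huO))
    (by
      rw [hu'', ← he2, show e * n2 * e⁻¹ * (e * u' * e⁻¹) * (e * n2 * e⁻¹)⁻¹ = e * (n2 * u' * n2⁻¹) * e⁻¹ by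
        group, h'2]
      group)
    (by
      rw [hu'', ← he0, show e * n0 * e⁻¹ * (e * u' * e⁻¹) * (e * n0 * e⁻¹)⁻¹ = e * (n0 * u' * n0⁻¹) * e⁻¹ by
        group, h'0])
  rw [hu'', conj_eq_one_iff, hu', conj_eq_one_iff, hu, mul_inv_eq_one] at h1
  exact h1.symm

variable {G : Type*} [Group G] [Finite G] {a : G} {R J : Subgroup G} {φ : Mn → G}

namespace Loc

variable (D : Loc a R J true true φ)
include D

variable {K : Subgroup G} (S6 : SixData J φ K) {f : P6 →* G} (F : SixMap φ K f)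
include S6 F

variable (Θ : SixEnd.S →* G) (hΘi : Function.Injective Θ) (hΘ : ∀ i, Θ (SixEnd.node i) = nodeG φ f i)
include hΘi hΘ

/-- The centralizer of `(03)`, `(12)`, `(45)` lies inside, as that of `(03)`, `(14)`, `(25)` does. -/
theorem emb_cent_triple
    (hT0 : ∀ g, g * f t03 = f t03 * g → g * f (Equiv.swap 1 4) = f (Equiv.swap 1 4) * g →
      g * f (Equiv.swap 2 5) = f (Equiv.swap 2 5) * g → g ∈ Θ.range)
    {g : G} (hgd : g * f t03 = f t03 * g) (hg1 : g * f (Equiv.swap 1 2) = f (Equiv.swap 1 2) * g)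
    (hg2 : g * f (Equiv.swap 4 5) = f (Equiv.swap 4 5) * g) : g ∈ Θ.range := by
  obtain ⟨-, -, ⟨hc03, hc14, hc25, hc2⟩, -⟩ := klein_six
  set k := f (Equiv.swap 2 4) with hk
  have hkk : k * k = 1 := by rw [hk, ← map_mul, hc2, map_one]
  have hconj : ∀ x y : G, k * x * k * (k * y * k) = k * (x * y) * k := fun x y => by
    rw [show k * x * k * (k * y * k) = k * x * (k * k) * y * k by group, hkk]; group
  have hback : ∀ x y : P6, Equiv.swap 2 4 * x * Equiv.swap 2 4 = y → k * f y * k = f x := fun x y h => by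
    rw [hk, ← map_mul, ← map_mul, ← h]
    congr 1
    rw [show Equiv.swap 2 4 * (Equiv.swap 2 4 * x * Equiv.swap 2 4) * Equiv.swap 2 4 =
      (Equiv.swap 2 4 * Equiv.swap 2 4 : P6) * x * (Equiv.swap 2 4 * Equiv.swap 2 4) by group, hc2]
    group
  have h := hT0 (k * g * k)
    (by rw [← hback _ _ hc03, hconj, hconj, hgd]) (by rw [← hback _ _ hc14, hconj, hconj, hg1])
    (by rw [← hback _ _ hc25, hconj, hconj, hg2])
  have hkM : k ∈ Θ.range := D.emb_K S6 F Θ hΘi hΘ _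
  have := mul_mem (mul_mem hkM h) hkM
  rwa [show k * (k * g * k) * k = (k * k) * g * (k * k) by group, hkk, one_mul, mul_one] at this

/-- The centralizer of the two transvections. -/
theorem emb_pair
    (hT0 : ∀ g, g * f t03 = f t03 * g → g * f (Equiv.swap 1 4) = f (Equiv.swap 1 4) * g →
      g * f (Equiv.swap 2 5) = f (Equiv.swap 2 5) * g → g ∈ Θ.range)
    (hcls : ∀ s : SixEnd.S, s * s = 1 → s ≠ 1 → ∃ g : SixEnd.S, ∃ i, g * s * g⁻¹ = rep i)
    (g : G) (hg8 : g * Θ (tvS 8) = Θ (tvS 8) * g) (hg16 : g * Θ (tvS 16) = Θ (tvS 16) * g) :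
    g ∈ Θ.range := by
  classical
  haveI : Fact (Nat.Prime 3) := ⟨Nat.prime_three⟩
  haveI : Fact (Nat.Prime 2) := ⟨Nat.prime_two⟩
  obtain ⟨-, -, -, ⟨h1203, h4503, h1245, hd1, hd12, -, hdd⟩, -⟩ := klein_six
  obtain ⟨-, ⟨hsA, hsB, hsC, hse2, -⟩, ⟨-, -, -, -, -, -, hn2, hne3, -⟩, -⟩ := cross_model
  obtain ⟨h8, h16, h24, -, -, -, h4⟩ := D.emb_values S6 F Θ hΘi hΘ
  have h20 := D.emb_twenty S6 F Θ hΘi hΘ
  change Θ (tvS 8) = _ at h8
  change Θ (tvS 16) = _ at h16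
  change Θ (tvS 24) = _ at h24
  change Θ (tvS 4) = _ at h4
  change Θ (tvS 20) = _ at h20
  have htriple := fun x => D.emb_cent_triple S6 F Θ hΘi hΘ hT0 (g := x)
  have hN := D.emb_norm S6 F Θ hΘi hΘ
  set M := Θ.range with hM
  set r1 := f (Equiv.swap 1 2) with hr1
  set r2 := f (Equiv.swap 4 5) with hr2
  set d := f t03 with hd
  set σ := φ (wM sigW) with hσ
  set n := φ (wM nCw) with hn
  set e := φ (jM (0, 0, 1)) with he
  set γ := σ * d * σ⁻¹ with hγ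
  let Y : Subgroup G := centralizer ({r1, r2} : Set G)
  have hY : ∀ x, x ∈ Y ↔ x * r1 = r1 * x ∧ x * r2 = r2 * x := fun x => by
    simp only [Y, mem_centralizer_iff, Set.mem_insert_iff, Set.mem_singleton_iff, forall_eq_or_imp, forall_eq,
      eq_comm]
  have hfc : ∀ x y : P6, x * y = y * x → f x * f y = f y * f x := fun x y h => by rw [← map_mul, h, map_mul]
  have hdY : d ∈ Y := (hY d).2 ⟨hfc _ _ h1203, hfc _ _ h4503⟩
  have hdd' : d * d = 1 := by rw [hd, ← map_mul, hdd, map_one]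
  have hdne : d ≠ 1 := fun h => hd1 (F.inj (by rw [← hd, h, map_one]))
  -- `M ∩ Y` commutes with `d` and has order `768`
  set C2 := centralizer ({tvS 8, tvS 16} : Set SixEnd.S) with hC2
  have hC2m : ∀ s, s ∈ C2 ↔ s * tvS 8 = tvS 8 * s ∧ s * tvS 16 = tvS 16 * s := fun s => by
    simp only [hC2, mem_centralizer_iff, Set.mem_insert_iff, Set.mem_singleton_iff, forall_eq_or_imp, forall_eq,
      eq_comm]
  have hMY : ∀ x ∈ Y, x ∈ M → ∃ s ∈ C2, Θ s = x := by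
    rintro x hxY ⟨s, rfl⟩
    obtain ⟨x1, x2⟩ := (hY _).1 hxY
    refine ⟨s, (hC2m s).2 ⟨hΘi ?_, hΘi ?_⟩, rfl⟩ <;> rw [map_mul, map_mul]
    · rw [h8]; exact x1
    · rw [h16]; exact x2
  -- `d` is isolated in `Y`
  have hiso : Cfsg.IsIsolatedInvolution (⟨d, hdY⟩ : Y) := by
    refine ⟨orderOf_eq_prime (by rw [pow_two]; exact Subtype.ext hdd') (fun h => hdne (congrArg Subtype.val h)),
      fun y hy => ?_⟩
    refine Subtype.ext ?_
    show (y : G) * d * (y : G)⁻¹ = d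
    set z := (y : G) * d * (y : G)⁻¹ with hz
    have hzY : z ∈ Y := mul_mem (mul_mem y.2 hdY) (inv_mem y.2)
    have hzd : z * d = d * z := (congrArg Subtype.val hy.eq).symm
    obtain ⟨y1, y2⟩ := (hY _).1 y.2
    obtain ⟨z1, z2⟩ := (hY _).1 hzY
    obtain ⟨s, hs, hsz⟩ := hMY z hzY (htriple z hzd z1 z2)
    obtain ⟨s8, s16⟩ := (hC2m s).1 hs
    have hs1 : s ≠ 1 := fun h => hdne (by
      rw [h, map_one, hz, eq_comm, conj_eq_one_iff] at hsz
      exact hsz)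
    have hs2 : s * s = 1 := hΘi (by
      rw [map_mul, map_one, hsz, hz,
        show (y : G) * d * (y : G)⁻¹ * ((y : G) * d * (y : G)⁻¹) = y * (d * d) * (y : G)⁻¹ by group, hdd', mul_one,
        mul_inv_cancel])
    obtain ⟨c, i, hci⟩ := hcls s hs2 hs1
    have hdref : ∃ w, w * Θ (rep 0) * w⁻¹ = d := by
      obtain ⟨c', hc'⟩ : ∃ c : P6, c * Equiv.swap 1 2 * c⁻¹ = t03 :=
        ⟨Equiv.swap 0 1 * Equiv.swap 2 3, by decide +kernel⟩
      refine ⟨f c', ?_⟩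
      rw [show rep 0 = tvS 8 from rfl, h8, hr1, hd, ← hc', map_mul f (c' * _), map_mul f c', map_inv]
    obtain ⟨w, hw⟩ := hdref
    have hi : 0 = i := D.emb_ne S6 F Θ hΘi hΘ 0 i (Θ c * y * w) (by
      rw [← hci, map_mul, map_mul, map_inv, hsz, hz, ← hw]
      group)
    subst hi
    obtain ⟨x, hx⟩ : ∃ x : Fin 64, s = tvS x := by
      refine ⟨((c⁻¹ : SixEnd.S) : Equiv.Perm (Fin 64)) 8, ?_⟩
      rw [← SixEnd.tvS_conj, show tvS 8 = rep 0 from rfl, ← hci]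
      group
    subst hx
    have hb8 : bil x 8 = false := tvS_comm_bil s8
    have hb16 : bil x 16 = false := tvS_comm_bil s16
    have hfix : ∀ r : G, (y : G) * r = r * y → z = r → d = r := fun r hr h => by
      rw [show d = (y : G)⁻¹ * z * y by rw [hz]; group, h, mul_assoc, ← hr, inv_mul_cancel_left]
    rcases SixEnd.pair_orbit x hb8 hb16 with rfl | rfl | rfl | rfl | ⟨x1, ⟨hx18, hx116⟩, x2, ⟨hx28, hx216⟩, hx⟩
    · exact absurd SixEnd.tvS_zero hs1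
    · exact absurd (hfix r1 y1 (hsz.symm.trans h8)) (fun h => hd12 (F.inj h))
    · exact absurd (hfix r2 y2 (hsz.symm.trans h16))
        (fun h => (by decide +kernel : t03 ≠ (Equiv.swap 4 5 : P6)) (F.inj h))
    · exact hsz.symm.trans h24
    · exfalso
      set τ : SixEnd.S := tvS x1 * tvS x2 with hτ
      have hτ8 : τ * tvS 8 * τ⁻¹ = tvS 8 := by
        rw [SixEnd.tvS_conj]
        congr 1
        show SixEnd.tvFun x1 (SixEnd.tvFun x2 8) = 8
        rw [show SixEnd.tvFun x2 8 = 8 from SixEnd.tv_fix hx28, show SixEnd.tvFun x1 8 = 8 from SixEnd.tv_fix hx18]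
      have hτ16 : τ * tvS 16 * τ⁻¹ = tvS 16 := by
        rw [SixEnd.tvS_conj]
        congr 1
        show SixEnd.tvFun x1 (SixEnd.tvFun x2 16) = 16
        rw [show SixEnd.tvFun x2 16 = 16 from SixEnd.tv_fix hx216,
          show SixEnd.tvFun x1 16 = 16 from SixEnd.tv_fix hx116]
      have hτx : τ * tvS 20 * τ⁻¹ = tvS x := by
        rw [SixEnd.tvS_conj]
        exact congrArg tvS hx
      refine absurd (D.emb_ne S6 F Θ hΘi hΘ 2 3 ((Θ τ)⁻¹ * y) ?_) (by decide)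
      have h3' : Θ (rep 3) = (Θ τ)⁻¹ * (r1 * r2 * z) * Θ τ := by
        rw [show rep 3 = τ⁻¹ * (tvS 8 * tvS 16 * tvS x) * τ by
          rw [show rep 3 = tvS 8 * tvS 16 * tvS 20 from rfl, ← hτx]
          nth_rewrite 2 [← hτ8]
          nth_rewrite 2 [← hτ16]
          group, map_mul Θ (τ⁻¹ * _), map_mul Θ τ⁻¹, map_inv, map_mul Θ (tvS 8 * tvS 16), map_mul Θ (tvS 8),
          h8, h16, hsz]
      rw [h3', show rep 2 = tvS 8 * tvS 16 * tvS 24 from rfl, map_mul Θ (tvS 8 * tvS 16), map_mul Θ (tvS 8),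
        h8, h16, h24, hz,
        show (Θ τ)⁻¹ * (y : G) * (r1 * r2 * d) * ((Θ τ)⁻¹ * (y : G))⁻¹ =
          (Θ τ)⁻¹ * (((y : G) * r1 * (y : G)⁻¹) * ((y : G) * r2 * (y : G)⁻¹) * ((y : G) * d * (y : G)⁻¹)) * Θ τ by
            group, y1, mul_inv_cancel_right, y2, mul_inv_cancel_right]
  -- the odd core
  let Oy : Subgroup Y := Cfsg.oddCore Y
  haveI : Oy.Normal := ZStar.Main.oddCore_normal
  let O : Subgroup G := Oy.map Y.subtype
  have hOY : O ≤ Y := map_subtype_le _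
  have hOodd : Odd (Nat.card O) := by
    rw [card_map_of_injective Y.subtype_injective]
    exact InvChar.Core.odd_card_oddCore
  have hOn : ∀ y ∈ Y, ∀ x ∈ O, y * x * y⁻¹ ∈ O := by
    rintro y hy _ ⟨x, hx, rfl⟩
    exact ⟨_, (inferInstance : Oy.Normal).conj_mem x hx ⟨y, hy⟩, rfl⟩
  have hno2 : ∀ x ∈ O, x * x = 1 → x = 1 := fun x hx h => by
    refine orderOf_eq_one_iff.1 (Nat.eq_one_of_dvd_coprimes (a := 2) (b := Nat.card O) ?_ ?_ ?_)
    · exact (Nat.coprime_two_left).2 hOodd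
    · exact orderOf_dvd_of_pow_eq_one (by rw [pow_two, h])
    · have := orderOf_dvd_natCard (⟨x, hx⟩ : O)
      rwa [orderOf_mk] at this
  -- `Y = O (Y ∩ C(d))`
  have hdec : ∀ y ∈ Y, ∃ h ∈ O, d * h * d⁻¹ = h⁻¹ ∧ (h * y) * d = d * (h * y) := by
    intro y hy
    obtain ⟨o, ho, hoe⟩ : ∃ o ∈ O, d * y * d⁻¹ = o * y := by
      refine ⟨_, ⟨_, ZStar.Main.commutator_mem_oddCore hiso ⟨y, hy⟩, rfl⟩, ?_⟩
      simp only [Subgroup.coe_subtype, Subgroup.coe_mul, InvMemClass.coe_inv]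
      group
    have hodinv : d * o * d⁻¹ = o⁻¹ := by
      refine eq_inv_of_mul_eq_one_left (mul_right_cancel (b := y) ?_)
      calc d * o * d⁻¹ * o * y = d * o * d⁻¹ * (d * y * d⁻¹) := by rw [hoe, mul_assoc (d * o * d⁻¹)]
        _ = d * (o * y) * d⁻¹ := by group
        _ = d * (d * y * d⁻¹) * d⁻¹ := by rw [hoe]
        _ = (d * d) * y * (d * d)⁻¹ := by group
        _ = 1 * y := by rw [hdd', one_mul, inv_one, mul_one]
    obtain ⟨k, hk⟩ := hOodd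
    have ho1 : o ^ (2 * k + 1) = 1 := by
      have h := congrArg Subtype.val (pow_card_eq_one' (x := (⟨o, ho⟩ : O)))
      rw [hk] at h
      simpa using h
    refine ⟨o ^ (k + 1), pow_mem ho _, by rw [← conj_pow, hodinv, inv_pow], ?_⟩
    refine (mul_inv_eq_iff_eq_mul.1 ?_).symm
    calc d * (o ^ (k + 1) * y) * d⁻¹ = (d * o ^ (k + 1) * d⁻¹) * (d * y * d⁻¹) := by group
      _ = (o ^ (k + 1))⁻¹ * (o * y) := by rw [← conj_pow, hodinv, inv_pow, hoe]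
      _ = o ^ (k + 1) * y := by
        rw [← mul_assoc]
        congr 1
        rw [inv_mul_eq_iff_eq_mul, ← pow_add, show k + 1 + (k + 1) = 2 * k + 1 + 1 by omega, pow_succ, ho1,
          one_mul]
  -- `O` meets the image trivially
  have he3 : e ^ 3 = 1 := D.jcube _
  have he1 : e ≠ 1 := fun h => cross_aux.1 (D.jinj (h.trans D.jzero.symm))
  have heo : orderOf e = 3 := orderOf_eq_prime he3 he1
  have heM : e ∈ M := D.emb_e3 S6 F Θ hΘi hΘ
  have heY : e ∈ Y := (hY e).2 ⟨F.c _, F.c _⟩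
  have hs1 : σ * n * σ⁻¹ = r1 := by rw [hσ, hn, hr1, D.f12 S6 F, D.hconjM, hsA]
  have hs2 : σ * r1 * σ⁻¹ = r2 := by rw [hσ, hr1, hr2, D.f12 S6 F, D.f45 S6 F, D.hconjM, hsB]
  have hs3 : σ * r2 * σ⁻¹ = n := by rw [hσ, hn, hr2, D.f45 S6 F, D.hconjM, hsC]
  have hsc : ∀ x y : G, σ * x * σ⁻¹ * (σ * y * σ⁻¹) = σ * (x * y) * σ⁻¹ := fun x y => by group
  have hγY : γ ∈ Y := (hY γ).2
    ⟨by rw [← hs1, hγ, hsc, hsc, F.nC], by rw [← hs2, hγ, hsc, hsc, hfc _ _ h1203]⟩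
  have hfcc : f cc = φ (jM (0, 1, 0)) := by
    obtain ⟨-, ⟨q, hq, hq'⟩, -⟩ := gen_facts
    rw [← hq, F.agree, hq']
  have hse : σ * f cc * σ⁻¹ = e := by rw [hσ, he, hfcc, D.hconjM, hse2]
  have hsyl : SylowAt Y (zpowers e) := by
    refine SylowAt.of_normalizer (zpowers_le.2 heY) (IsPGroup.of_card (n := 1) (by rw [Nat.card_zpowers, heo, pow_one])) ?_
    intro x hxY hxn ⟨k, hk⟩
    have hxe : x * e = e * x := by
      obtain ⟨m, hm⟩ := mem_zpowers_iff.1 ((mem_normalizer_iff.1 hxn _).1 (mem_zpowers e))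
      rw [zpow_eq_zpow_emod m (n := 3) (by exact_mod_cast he3)] at hm
      have h0 := Int.emod_nonneg m (show (3 : ℤ) ≠ 0 by norm_num)
      have h1 := Int.emod_lt_of_pos m (show (0 : ℤ) < 3 by norm_num)
      rcases (show m % 3 = 0 ∨ m % 3 = 1 ∨ m % 3 = 2 by omega) with h | h | h <;> rw [h] at hm
      · rw [zpow_zero, eq_comm, conj_eq_one_iff] at hm
        exact absurd hm he1
      · rw [zpow_one] at hm
        exact mul_inv_eq_iff_eq_mul.1 hm.symm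
      · refine no_odd_neg hk (hm.symm.trans (eq_inv_of_mul_eq_one_left ?_))
        rw [zpow_two, ← pow_two, ← pow_succ, he3]
    obtain ⟨π, i, rfl⟩ := D.cent_e3 S6 F hxe
    obtain ⟨x1, x2⟩ := (hY _).1 hxY
    have h4 : π ^ 4 = 1 := (by decide +kernel : ∀ π : P6, π * Equiv.swap 1 2 = Equiv.swap 1 2 * π →
      π * Equiv.swap 4 5 = Equiv.swap 4 5 * π → π ^ 4 = 1) π (D.e3_comm_iff S6 F x1) (D.e3_comm_iff S6 F x2)
    have hei : (e ^ i.val) ^ 3 ^ (k + 1) = 1 := by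
      rw [← pow_mul, pow_succ', mul_left_comm, pow_mul, he3, one_pow]
    have hπ : π ^ 3 ^ (k + 1) = 1 := by
      refine F.inj ?_
      have h : (f π * e ^ i.val) ^ 3 ^ (k + 1) = 1 := by rw [pow_succ, pow_mul, hk, one_pow]
      rw [((show Commute e (f π) from F.c π).symm.pow_right _).mul_pow, hei, mul_one] at h
      rw [_root_.map_pow, h, map_one]
    rw [orderOf_eq_one_iff.1 (Nat.eq_one_of_dvd_coprimes
      (Nat.Coprime.pow_left (k + 1) (show Nat.Coprime 3 4 by norm_num))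
      (orderOf_dvd_of_pow_eq_one hπ) (orderOf_dvd_of_pow_eq_one h4)), map_one, one_mul]
    exact pow_mem (mem_zpowers e) _
  have hdvd : Nat.card (O ⊓ M : Subgroup G) ∣ 768 := by
    refine dvd_trans (card_dvd_of_le (K := C2.map Θ) fun x hx => ?_) (dvd_of_eq ?_)
    · obtain ⟨s, hs, hsx⟩ := hMY x (hOY hx.1) hx.2
      exact ⟨s, hs, hsx⟩
    · rw [card_map_of_injective hΘi]
      exact SixEnd.card_pair
  have h3O : ¬ 3 ∣ Nat.card O := fun h => by
    obtain ⟨⟨x, hx⟩, hxo⟩ := exists_prime_orderOf_dvd_card' (G := O) 3 h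
    rw [orderOf_mk] at hxo
    obtain ⟨c, hc, hcx⟩ : ∃ c ∈ Y, c * x * c⁻¹ ∈ zpowers e := by
      obtain ⟨P, hP⟩ := hsyl.exists_sylow
      have hp : IsPGroup 3 (zpowers (⟨x, hOY hx⟩ : Y)) :=
        IsPGroup.of_card (n := 1) (by rw [Nat.card_zpowers, ← Subgroup.orderOf_coe, hxo, pow_one])
      obtain ⟨Q, hQ⟩ := hp.exists_le_sylow
      obtain ⟨c, hc⟩ := MulAction.exists_smul_eq Y Q P
      have h : MulAut.conj c (⟨x, hOY hx⟩ : Y) ∈ (P : Subgroup Y) := by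
        rw [← hc, Sylow.coe_subgroup_smul]
        exact smul_mem_pointwise_smul _ (MulAut.conj c) _ (hQ (mem_zpowers _))
      rw [hP] at h
      exact ⟨c, c.2, by simpa using mem_subgroupOf.1 h⟩
    obtain ⟨m, hm⟩ := mem_zpowers_iff.1 hcx
    have hmem : e ∈ O := by
      have hm' : e ^ m ∈ O := hm ▸ hOn c hc x hx
      have h0 := Int.emod_nonneg m (show (3 : ℤ) ≠ 0 by norm_num)
      have h1 := Int.emod_lt_of_pos m (show (0 : ℤ) < 3 by norm_num)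
      rw [zpow_eq_zpow_emod m (n := 3) (by exact_mod_cast he3)] at hm' hm
      rcases (show m % 3 = 0 ∨ m % 3 = 1 ∨ m % 3 = 2 by omega) with e' | e' | e' <;> rw [e'] at hm' hm
      · exfalso
        rw [zpow_zero, eq_comm, conj_eq_one_iff] at hm
        rw [hm, orderOf_one] at hxo
        norm_num at hxo
      · rwa [zpow_one] at hm'
      · rw [show e = (e ^ (2 : ℤ))⁻¹ by
          rw [zpow_two]; exact eq_inv_of_mul_eq_one_left (by rw [← pow_three, he3])]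
        exact inv_mem hm'
    -- the order of `O ⊓ M` is three, so the shifted transposition normalizes `⟨e⟩`
    have hOM3 : zpowers e = O ⊓ M := by
      refine eq_of_le_of_card_ge (le_inf (zpowers_le.2 hmem) (zpowers_le.2 heM)) ?_
      rw [Nat.card_zpowers, heo]
      refine Nat.le_of_dvd (by norm_num) ?_
      have hodd : Odd (Nat.card (O ⊓ M : Subgroup G)) := Odd.of_dvd_nat hOodd (card_dvd_of_le inf_le_left)
      exact Nat.Coprime.dvd_of_dvd_mul_left (m := 2 ^ 8) (n := 3) ((Nat.coprime_two_right.2 hodd).pow_right 8) hdvd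
    have hγM : γ ∈ M := ⟨tvS 4, h4⟩
    have h' : γ * e * γ⁻¹ ∈ zpowers e := by
      rw [hOM3]
      exact mem_inf.2 ⟨hOn γ hγY e hmem, mul_mem (mul_mem hγM heM) (inv_mem hγM)⟩
    rw [hγ, ← hse, show σ * d * σ⁻¹ * (σ * f cc * σ⁻¹) * (σ * d * σ⁻¹)⁻¹ = σ * (d * f cc * d⁻¹) * σ⁻¹ by group]
      at h'
    obtain ⟨m, hm⟩ := mem_zpowers_iff.1 h'
    rw [show (σ * f cc * σ⁻¹) ^ m = σ * f cc ^ m * σ⁻¹ from conj_zpow, mul_left_inj, mul_right_inj, hd,
      ← map_zpow, ← map_inv, ← map_mul, ← map_mul] at hm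
    have hcc3 : cc ^ (3 : ℤ) = (1 : P6) := by decide +kernel
    rw [zpow_eq_zpow_emod m (n := 3) hcc3] at hm
    have h0 := Int.emod_nonneg m (show (3 : ℤ) ≠ 0 by norm_num)
    have h1 := Int.emod_lt_of_pos m (show (0 : ℤ) < 3 by norm_num)
    obtain ⟨j, hj⟩ : ∃ j : Fin 3, m % 3 = (j.val : ℤ) := ⟨⟨(m % 3).toNat, by omega⟩, by simp; omega⟩
    rw [hj, zpow_natCast] at hm
    exact (by decide +kernel : ∀ j : Fin 3, cc ^ j.val ≠ (t03 * cc * t03⁻¹ : P6)) j (F.inj hm)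
  have hOM : ∀ x ∈ O, x ∈ M → x = 1 := by
    intro x hx hxM
    have h1 : orderOf x ∣ 768 := by
      have := (orderOf_dvd_natCard (⟨x, hx, hxM⟩ : (O ⊓ M : Subgroup G))).trans hdvd
      rw [← Subgroup.orderOf_coe] at this
      exact this
    have h2 : orderOf x ∣ Nat.card O := by
      have := orderOf_dvd_natCard (⟨x, hx⟩ : O)
      rwa [orderOf_mk] at this
    refine orderOf_eq_one_iff.1 (Nat.eq_one_of_dvd_coprimes (a := 768) (b := Nat.card O) ?_ h1 h2)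
    exact Nat.Coprime.mul_left (k := Nat.card O) (m := 256) (n := 3)
      ((Nat.coprime_two_left.2 hOodd).pow_left 8) ((Nat.prime_three.coprime_iff_not_dvd).2 h3O)
  -- `d` inverts `O`
  have hinv : ∀ x ∈ O, d * x * d⁻¹ = x⁻¹ := by
    intro x hx
    obtain ⟨h, hh, hhi, hhc⟩ := hdec x (hOY hx)
    obtain ⟨x1, x2⟩ := (hY _).1 (hOY (mul_mem hh hx))
    have h1 := hOM _ (mul_mem hh hx) (htriple _ hhc x1 x2)
    rw [eq_inv_of_mul_eq_one_right h1, show d * h⁻¹ * d⁻¹ = (d * h * d⁻¹)⁻¹ by group, hhi]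
  have hcomm : ∀ x ∈ O, ∀ y ∈ O, x * y = y * x := fun x hx y hy => by
    have h := hinv _ (mul_mem hx hy)
    rw [show d * (x * y) * d⁻¹ = d * x * d⁻¹ * (d * y * d⁻¹) by group, hinv x hx, hinv y hy, ← mul_inv_rev,
      inv_inj] at h
    exact h.symm
  -- the four group
  have hnn : n * n = 1 := by rw [hn, ← D.hmul, hn2, D.one]
  have hnY : n ∈ Y := (hY n).2 ⟨F.nC _, F.nC _⟩
  set k0 := t03 * Equiv.swap 4 5 with hk0
  obtain ⟨hk00, hk11, hk012, hkc⟩ : k0 * k0 = 1 ∧ cc * k0 * cc⁻¹ * (cc * k0 * cc⁻¹) = 1 ∧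
      k0 * (cc * k0 * cc⁻¹) = cc * (cc * k0 * cc⁻¹) * cc⁻¹ ∧
      k0 * (cc * k0 * cc⁻¹) = cc * k0 * cc⁻¹ * k0 := by
    rw [hk0]; decide +kernel
  set n0 := γ * n with hn0
  have hn0' : n0 = σ * f k0 * σ⁻¹ := by rw [hn0, hγ, ← hs3, hsc, hk0, map_mul]
  have hn1' : e * n0 * e⁻¹ = σ * f (cc * k0 * cc⁻¹) * σ⁻¹ := by
    rw [hn0', ← hse, map_mul f (cc * k0), map_mul f cc, map_inv]; group
  have hn2' : e * (e * n0 * e⁻¹) * e⁻¹ = σ * f (cc * (cc * k0 * cc⁻¹) * cc⁻¹) * σ⁻¹ := by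
    rw [hn1', ← hse, map_mul f (cc * (cc * k0 * cc⁻¹)), map_mul f cc (cc * k0 * cc⁻¹), map_inv]; group
  have hσf : ∀ x y : P6, σ * f x * σ⁻¹ * (σ * f y * σ⁻¹) = σ * f (x * y) * σ⁻¹ := fun x y => by
    rw [hsc, map_mul]
  have hn0Y : n0 ∈ Y := mul_mem hγY hnY
  have hefix : ∀ x ∈ O, e * x * e⁻¹ = x → x = 1 := fun x hx h =>
    hOM x hx (D.emb_cent_e3 S6 F Θ hΘi hΘ (mem_centralizer_singleton_iff.2
      (mul_inv_eq_iff_eq_mul.1 h).symm))
  have hklein : ∀ x ∈ O, n0 * x * n0⁻¹ = x := klein_cycle_fix hcomm hno2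
    (n1 := e * n0 * e⁻¹) (n2 := e * (e * n0 * e⁻¹) * e⁻¹) (e := e)
    (by rw [hn0', hσf, hk00, map_one, mul_one, mul_inv_cancel])
    (by rw [hn1', hσf, hk11, map_one, mul_one, mul_inv_cancel])
    (by rw [hn2', hn1', hn0', hσf, hk012])
    (by rw [hn1', hn0', hσf, hσf, hkc]) he3 rfl rfl
    (hOn n0 hn0Y) (hOn _ (mul_mem (mul_mem heY hn0Y) (inv_mem heY))) (hOn e heY) hefix
  -- `(78)` inverts `O`
  have hninv : ∀ x ∈ O, n * x * n⁻¹ = x⁻¹ := by
    intro x hx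
    set y := x * (n * x * n⁻¹) with hy
    have hyO : y ∈ O := mul_mem hx (hOn n hnY x hx)
    have hyn : n * y * n⁻¹ = y := by
      rw [hy, show n * (x * (n * x * n⁻¹)) * n⁻¹ = (n * x * n⁻¹) * ((n * n) * x * (n * n)⁻¹) by group, hnn,
        one_mul, inv_one, mul_one]
      exact hcomm _ (hOn n hnY x hx) _ hx
    have hyγ : γ * y * γ⁻¹ = y := by
      have := hklein y hyO
      rwa [hn0, show γ * n * y * (γ * n)⁻¹ = γ * (n * y * n⁻¹) * γ⁻¹ by group, hyn] at this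
    have hyc : ∀ r, r * y * r⁻¹ = y → σ⁻¹ * y * σ * (σ⁻¹ * r * σ) = σ⁻¹ * r * σ * (σ⁻¹ * y * σ) := fun r h => by
      calc σ⁻¹ * y * σ * (σ⁻¹ * r * σ) = σ⁻¹ * (y * r) * σ := by group
        _ = σ⁻¹ * (r * y) * σ := by rw [mul_inv_eq_iff_eq_mul.1 h]
        _ = _ := by group
    obtain ⟨y1, y2⟩ := (hY _).1 (hOY hyO)
    have h1 := htriple (σ⁻¹ * y * σ)
      (by rw [show d = σ⁻¹ * γ * σ by rw [hγ]; group]; exact hyc γ hyγ)
      (by
        rw [show r1 = σ⁻¹ * r2 * σ by rw [← hs2]; group]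
        exact hyc r2 (by rw [← y2, mul_inv_cancel_right]))
      (by
        rw [show r2 = σ⁻¹ * n * σ by rw [← hs3]; group]
        exact hyc n hyn)
    have hσM : σ ∈ M := hN (D.mem_norm _ (inL_all _))
    have hyM : y ∈ M := by
      have := mul_mem (mul_mem hσM h1) (inv_mem hσM)
      rwa [show σ * (σ⁻¹ * y * σ) * σ⁻¹ = y by group] at this
    exact eq_inv_of_mul_eq_one_right (hOM y hyO hyM)
  have hO1 : ∀ x ∈ O, x = 1 := by
    intro x hx
    refine hefix x hx ?_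
    have hne : n * e * n⁻¹ = e⁻¹ := by rw [hn, he, D.hconjM, hne3, D.hinv]
    have h1 : e * n * e⁻¹ * x * (e * n * e⁻¹)⁻¹ = x⁻¹ := by
      have := hninv _ (hOn e⁻¹ (inv_mem heY) x hx)
      calc e * n * e⁻¹ * x * (e * n * e⁻¹)⁻¹ = e * (n * (e⁻¹ * x * e⁻¹⁻¹) * n⁻¹) * e⁻¹ := by group
        _ = e * (e⁻¹ * x * e⁻¹⁻¹)⁻¹ * e⁻¹ := by rw [this]
        _ = x⁻¹ := by group
    have h2 : e = n * (e * n * e⁻¹) := by
      rw [← mul_assoc, ← mul_assoc, show n * e * n = n * e * n⁻¹ by rw [inv_eq_of_mul_eq_one_left hnn], hne,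
        ← mul_inv_rev, ← pow_two]
      exact (inv_eq_of_mul_eq_one_right (by rw [← pow_succ, he3])).symm
    calc e * x * e⁻¹ = n * (e * n * e⁻¹) * x * (n * (e * n * e⁻¹))⁻¹ := by rw [← h2]
      _ = n * ((e * n * e⁻¹) * x * (e * n * e⁻¹)⁻¹) * n⁻¹ := by group
      _ = (n * x * n⁻¹)⁻¹ := by rw [h1]; group
      _ = x := by rw [hninv x hx, inv_inv]
  -- conclusion
  have hgY : g ∈ Y := (hY g).2 ⟨by rw [← h8]; exact hg8, by rw [← h16]; exact hg16⟩
  obtain ⟨h, hh, -, hhc⟩ := hdec g hgY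
  rw [hO1 h hh, one_mul] at hhc
  obtain ⟨g1, g2⟩ := (hY g).1 hgY
  exact htriple g hhc g1 g2

end Loc

end Cfsg.Agent.SpThreeCent
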