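import Cfsg.Agent.Lib.SpThreeCent.Classes
import Cfsg.Agent.Lib.Involutions.ThompsonTransfer
import Cfsg.Agent.Lib.PLocal.Cores
import Cfsg.Agent.S3333
import Mathlib.GroupTheory.Perm.Centralizer

/-!
# The small case: a subgroup of index two avoiding the reflection
-/

set_option autoImplicit false
set_option linter.style.haveILetI false
set_option linter.unusedSectionVars false
set_option maxRecDepth 100000
set_option synthInstance.maxSize 10000

namespace Cfsg.Agent.SpThreeCent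

open Subgroup
open Cfsg.Agent.NineSym

theorem wM_hom : ∀ u w : Wt, wM (u * w) = wM u * wM w := by decide +kernel

theorem refl_facts :
    wM nCw * wM nCw = 1 ∧ wM nCw ≠ 1 ∧ (∀ v : V3, wact nCw v = v ↔ v.2.2 = 0) ∧
    (∀ p : Mn, p * wM nCw = wM nCw * p → wact p.w (1, 0, 0) = (1, 0, 0) → wact p.w (0, 1, 0) = (0, 1, 0) →
      ∃ v : V3, v.2.2 = 0 ∧ (p = jM v ∨ p = jM v * wM nCw)) ∧
    (∀ v : V3, v.2.2 = 0 → v ≠ 0 → ∃ w : Wt, wact w (1, 1, 0) = v ∨ wact w (0, 0, 1) = v) := by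
  decide +kernel

theorem refl_dihedral :
    (∀ x : DihedralGroup 4, wM (dihFun x) * wM nCw = wM nCw * wM (dihFun x)) ∧
    (∀ x : DihedralGroup 4, ∀ v : V3, v.2.2 = 0 →
      (wM (dihFun x) = jM v ∨ wM (dihFun x) = jM v * wM nCw) → x = 1) ∧
    (∀ p : Mn, p * wM nCw = wM nCw * p → ∃ x : DihedralGroup 4, ∃ v : V3, v.2.2 = 0 ∧
      (p = wM (dihFun x) * jM v ∨ p = wM (dihFun x) * jM v * wM nCw)) := by
  decide +kernel

theorem invol_classes : (∀ w : Wt, w * w = 1 → w ≠ 1 → ∃ u : Wt,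
      u * w * u⁻¹ = nCw ∨ u * w * u⁻¹ = rhoW ∨ u * w * u⁻¹ = zW ∨ u * w * u⁻¹ = zpW ∨ u * w * u⁻¹ = invW) ∧
    (∀ w : Wt, (w = nCw ∨ w = rhoW ∨ w = zW ∨ w = zpW ∨ w = invW) → ∀ v : V3,
      (⟨v, w⟩ : Mn) * ⟨v, w⟩ = 1 → ∃ u : V3, jM u * ⟨v, w⟩ * (jM u)⁻¹ = wM w) ∧
    ∀ v : V3, jM v * jM v = 1 → jM v = 1 := by
  decide +kernel

theorem swap_facts : wM ⟨false, 0, 4⟩ * wM nCw * (wM ⟨false, 0, 4⟩)⁻¹ = wM nAw ∧
    wM ⟨false, 0, 4⟩ * wM nAw * (wM ⟨false, 0, 4⟩)⁻¹ = wM nCw ∧ wM ⟨false, 0, 4⟩ * wM ⟨false, 0, 4⟩ = 1 ∧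
    wM nAw * wM nCw = wM nCw * wM nAw ∧ wM ⟨false, 0, 4⟩ * wM nCw ≠ wM nCw * wM ⟨false, 0, 4⟩ ∧
    wM nAw ≠ 1 ∧ wM nAw ≠ wM nCw ∧ wM nAw * wM nAw = 1 ∧
    ∀ p : Mn, p * wM nCw ≠ wM nAw * wM nCw * p := by
  decide +kernel

theorem card_model : Fintype.card Mn = 1296 ∧ Fintype.card {p : Mn // p * wM nCw = wM nCw * p} = 144 := by
  decide +kernel

theorem sixteen_dvd_centralizer (π : Equiv.Perm (Fin 6)) (h : π * π = 1) :
    16 ∣ Nat.card (centralizer ({π} : Set (Equiv.Perm (Fin 6)))) := by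
  classical
  have hct : π.cycleType = Multiset.replicate π.cycleType.card 2 := by
    refine Multiset.eq_replicate_card.mpr fun n hn => ?_
    have h1 := Equiv.Perm.dvd_of_mem_cycleType hn
    have h2 := Equiv.Perm.two_le_of_mem_cycleType hn
    have := Nat.le_of_dvd two_pos (h1.trans (orderOf_dvd_of_pow_eq_one (by rw [pow_two, h])))
    omega
  have hle : π.cycleType.sum ≤ 6 := by
    rw [Equiv.Perm.sum_cycleType]
    exact (Finset.card_le_univ _).trans (by simp)
  rw [hct, Multiset.sum_replicate, smul_eq_mul] at hle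
  rw [Equiv.Perm.nat_card_centralizer, hct]
  generalize π.cycleType.card = n at hle ⊢
  rcases (show n = 0 ∨ n = 1 ∨ n = 2 ∨ n = 3 by omega) with rfl | rfl | rfl | rfl <;> decide +kernel

variable {G : Type*} [Group G] [Finite G] {a : G} {R J : Subgroup G} {φ : Mn → G}

namespace Loc

variable (D : Loc a R J true true φ)
include D

theorem sylow_z_small (hs : centralizer ({φ (jM (0, 0, 1))} : Set G) ≤ normalizer (J : Set G)) :
    SylowAt (centralizer ({φ (wM zW)} : Set G)) (J ⊓ centralizer ({φ (wM zW)} : Set G)) :=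
  D.sylow_line (inL_all _) line_facts.1.1 line_facts.1.2
    (fun _ _ hg _ => hs (mem_centralizer_singleton_iff.2 hg))
    fun w _ hc h3 hne => absurd (comm_three _ (Or.inr (Or.inr (Or.inl rfl))) w hc h3) hne

variable (hs : centralizer ({φ (jM (0, 0, 1))} : Set G) ≤ normalizer (J : Set G))
include hs

/-- The conjugates of the reflection in the normalizer are conjugate to it there. -/
theorem refl_fusion {q : Mn} {g : G} (h : g * φ (wM nCw) * g⁻¹ = φ q) :
    ∃ p : Mn, p * wM nCw * p⁻¹ = q := by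
  obtain ⟨hc1, hc2, hc3⟩ := invol_classes
  have hq2 : q * q = 1 := D.eq_one (inL_all _) (by
    rw [D.hmul, ← h, show g * φ (wM nCw) * g⁻¹ * (g * φ (wM nCw) * g⁻¹) = g * (φ (wM nCw) * φ (wM nCw)) * g⁻¹ by
      group, ← D.hmul, refl_facts.1, D.one, mul_one, mul_inv_cancel])
  obtain ⟨v, w⟩ := q
  have hw2 : w * w = 1 := congrArg Mn.w hq2
  by_cases hw1 : w = 1
  · subst hw1
    exfalso
    have e := hc3 v hq2
    rw [show (⟨v, 1⟩ : Mn) = jM v from rfl, e, D.one, conj_eq_one_iff] at h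
    exact refl_facts.2.1 (D.eq_one (inL_all _) h)
  obtain ⟨u, hu⟩ := hc1 w hw2 hw1
  set q' := wM u * ⟨v, w⟩ * (wM u)⁻¹ with hq'
  have hwq : q'.w = u * w * u⁻¹ := rfl
  have hq'2 : q' * q' = 1 := by
    rw [hq', show wM u * ⟨v, w⟩ * (wM u)⁻¹ * (wM u * ⟨v, w⟩ * (wM u)⁻¹) =
      wM u * (⟨v, w⟩ * ⟨v, w⟩) * (wM u)⁻¹ by group, hq2, mul_one, mul_inv_cancel]
  have key : ∀ c : Wt, (c = nCw ∨ c = rhoW ∨ c = zW ∨ c = zpW ∨ c = invW) → q'.w = c →
      ∃ d : Mn, d * ⟨v, w⟩ * d⁻¹ = wM c ∧ φ d * g * φ (wM nCw) * (φ d * g)⁻¹ = φ (wM c) := by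
    intro c hc e
    obtain ⟨x, hx⟩ := hc2 c hc q'.v (by rw [← e]; exact hq'2)
    have hd : (jM x * wM u) * ⟨v, w⟩ * (jM x * wM u)⁻¹ = wM c := by
      rw [← hx, ← e, show (⟨q'.v, q'.w⟩ : Mn) = q' from rfl, hq']
      group
    refine ⟨jM x * wM u, hd, ?_⟩
    rw [← hd, D.hmul (_ * _) _⁻¹, D.hmul (jM x * wM u) ⟨v, w⟩, D.hinv, ← h]
    group
  rw [hwq] at key
  rcases hu with e | e | e | e | e
  · obtain ⟨d, hd, -⟩ := key _ (Or.inl rfl) e
    exact ⟨d⁻¹, by rw [← hd]; group⟩
  · obtain ⟨d, -, hd⟩ := key _ (Or.inr (Or.inl rfl)) e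
    exact absurd hd (D.refl_ne_rho _)
  · obtain ⟨d, -, hd⟩ := key _ (Or.inr (Or.inr (Or.inl rfl))) e
    exact absurd hd (D.not_conj_plane (inL_all _) (inL_all _) refl_plane.1.1 refl_plane.1.2.1 refl_plane.1.2.2
      D.sylow_refl (D.sylow_z_small hs) (fun w _ => not_conj_facts.2.1 w) _)
  · obtain ⟨d, -, hd⟩ := key _ (Or.inr (Or.inr (Or.inr (Or.inl rfl)))) e
    exact absurd hd (D.refl_ne_zp _)
  · obtain ⟨d, -, hd⟩ := key _ (Or.inr (Or.inr (Or.inr (Or.inr rfl)))) e
    exact absurd hd (D.refl_ne_inv _)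

/-- The centralizer of the reflection normalizes `J`, or is twice the symmetric group of degree six. -/
theorem refl_cent : centralizer ({φ (wM nCw)} : Set G) ≤ normalizer (J : Set G) ∨
    ∃ π : ↥(centralizer ({φ (wM nCw)} : Set G)) →* Equiv.Perm (Fin 6),
      Function.Surjective π ∧ ∀ x, π x = 1 ↔ ((x : G) = 1 ∨ (x : G) = φ (wM nCw)) := by
  classical
  haveI : Fact (Nat.Prime 3) := ⟨Nat.prime_three⟩
  obtain ⟨hr2, hr1, hfix, hcp, hwt⟩ := refl_facts
  obtain ⟨hdr, hdi, hds⟩ := refl_dihedral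
  set r := φ (wM nCw) with hr
  have hrr : r * r = 1 := by rw [hr, ← D.hmul, hr2, D.one]
  set C := centralizer ({r} : Set G) with hC
  set rC : C := ⟨r, mem_centralizer_singleton_iff.2 rfl⟩ with hrC
  haveI : (zpowers rC).Normal := ⟨fun n hn c => by
    obtain ⟨k, rfl⟩ := mem_zpowers_iff.1 hn
    have hc : Commute c rC := Subtype.ext (mem_centralizer_singleton_iff.1 c.2)
    rw [(hc.zpow_right k).eq, mul_inv_cancel_right]
    exact zpow_mem (mem_zpowers rC) k⟩
  set mk : C →* C ⧸ zpowers rC := QuotientGroup.mk' (zpowers rC) with hmk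
  have hz : ∀ x : C, x ∈ zpowers rC ↔ ((x : G) = 1 ∨ (x : G) = r) := by
    intro x
    constructor
    · intro hx
      obtain ⟨k, rfl⟩ := mem_zpowers_iff.1 hx
      have h2 : rC ^ (2 : ℤ) = 1 := by rw [zpow_two]; exact Subtype.ext hrr
      rw [← Int.emod_add_mul_ediv k 2, zpow_add, zpow_mul, h2, one_zpow, mul_one]
      rcases Int.emod_two_eq_zero_or_one k with e | e <;> rw [e]
      · exact Or.inl (by simp)
      · exact Or.inr (by simp [hrC])
    · rintro (h | h)
      · rw [show x = 1 from Subtype.ext h]; exact one_mem _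
      · rw [show x = rC from Subtype.ext h]; exact mem_zpowers _
  have hmkeq : ∀ x y : C, mk x = mk y ↔ ((x : G)⁻¹ * y = 1 ∨ (x : G)⁻¹ * y = r) := fun x y => by
    rw [hmk, QuotientGroup.mk'_eq_mk']
    constructor
    · rintro ⟨z, hz', e⟩
      rcases (hz z).1 hz' with h | h
      · exact Or.inl (by rw [← e, Subgroup.coe_mul, inv_mul_cancel_left, h])
      · exact Or.inr (by rw [← e, Subgroup.coe_mul, inv_mul_cancel_left, h])
    · exact fun h => ⟨x⁻¹ * y, (hz _).2 h, mul_inv_cancel_left x y⟩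
  -- lifting the elements of order three
  have hlift : ∀ x y : C, mk x = mk y → (x : G) ^ 3 = 1 → (y : G) ^ 3 = 1 → (x : G) = y := by
    intro x y hxy hx hy
    rcases (hmkeq x y).1 hxy with h | h
    · exact inv_mul_eq_one.1 h
    exfalso
    have hy' : (y : G) = x * r := by rw [← h, mul_inv_cancel_left]
    have hc : Commute (x : G) r := mem_centralizer_singleton_iff.1 x.2
    rw [hy', hc.mul_pow, hx, one_mul, pow_succ, pow_two, hrr, one_mul, hr] at hy
    exact hr1 (D.eq_one (inL_all _) hy)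
  set E := J ⊓ C with hE
  have hEv : ∀ g, g ∈ E ↔ ∃ v : V3, φ (jM v) = g ∧ v.2.2 = 0 := fun g => by
    rw [hE, hC, hr, D.mem_fix (inL_all _)]
    exact exists_congr fun v => and_congr_right fun _ => hfix v
  obtain ⟨P, hP⟩ := D.sylow_refl.exists_sylow
  let P' : Sylow 3 (C ⧸ zpowers rC) := P.mapSurjective (QuotientGroup.mk'_surjective (zpowers rC))
  have hP' : ∀ y, y ∈ (P' : Subgroup (C ⧸ zpowers rC)) ↔ ∃ x : C, (x : G) ∈ E ∧ mk x = y := fun y => by
    show y ∈ (P : Subgroup C).map mk ↔ _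
    rw [hP]
    exact Iff.rfl
  have hE3 : ∀ g ∈ E, g ^ 3 = 1 := fun g hg => D.J_cube hg.1
  have hconjl : ∀ (g x : C), (x : G) ∈ E → mk (g * x * g⁻¹) ∈ (P' : Subgroup (C ⧸ zpowers rC)) →
      (g : G) * x * (g : G)⁻¹ ∈ E := by
    intro g x hx hm
    obtain ⟨z, hzE, hz'⟩ := (hP' _).1 hm
    have e := hlift _ _ hz' (hE3 _ hzE) (by
      simp only [Subgroup.coe_mul, InvMemClass.coe_inv]
      rw [conj_pow, hE3 _ hx, mul_one, mul_inv_cancel])
    simp only [Subgroup.coe_mul, InvMemClass.coe_inv] at e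
    exact e ▸ hzE
  have hnE : ∀ g : C, mk g ∈ normalizer ((P' : Subgroup (C ⧸ zpowers rC)) : Set (C ⧸ zpowers rC)) →
      (g : G) ∈ normalizer (J : Set G) := by
    intro g hg
    have hk : ∀ v : V3, v.2.2 = 0 → (g : G) * φ (jM v) * (g : G)⁻¹ ∈ J := fun v hv => by
      have hxE : φ (jM v) ∈ E := (hEv _).2 ⟨v, rfl, hv⟩
      refine (hconjl g ⟨φ (jM v), hxE.2⟩ hxE ?_).1
      rw [map_mul, map_mul, map_inv]
      exact (mem_normalizer_iff.1 hg _).1 ((hP' _).2 ⟨_, hxE, rfl⟩)
    exact D.norm_plane refl_plane.1.1 (hk _ rfl) (hk _ rfl)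
  have hEn : ∀ g : C, (g : G) ∈ normalizer (J : Set G) →
      mk g ∈ normalizer ((P' : Subgroup (C ⧸ zpowers rC)) : Set (C ⧸ zpowers rC)) := by
    intro g hg
    refine mem_normalizer_fintype fun y hy => ?_
    obtain ⟨x, hx, rfl⟩ := (hP' y).1 hy
    refine (hP' _).2 ⟨g * x * g⁻¹, ?_, by rw [map_mul, map_mul, map_inv]⟩
    exact mem_inf.2 ⟨(mem_normalizer_iff.1 hg _).1 hx.1, (g * x * g⁻¹).2⟩
  have hinj : ∀ x y : C, (x : G) ∈ E → (y : G) ∈ E → mk x = mk y → x = y := fun x y hx hy e =>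
    Subtype.ext (hlift x y e (hE3 _ hx) (hE3 _ hy))
  have hmem : ∀ v : V3, v.2.2 = 0 → φ (jM v) ∈ C := fun v hv => ((hEv _).2 ⟨v, rfl, hv⟩).2
  have hcard : Nat.card (P' : Subgroup (C ⧸ zpowers rC)) = 9 := by
    rw [← Nat.card_eq_of_bijective (fun v : {v : V3 // v.2.2 = 0} =>
      (⟨mk ⟨φ (jM v.1), hmem v.1 v.2⟩, (hP' _).2 ⟨_, (hEv _).2 ⟨v.1, rfl, v.2⟩, rfl⟩⟩ :
        (P' : Subgroup (C ⧸ zpowers rC)))) ⟨?_, ?_⟩, Nat.card_eq_fintype_card]
    · convert plane_card
    · intro u v e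
      exact Subtype.ext (D.jinj (congrArg Subtype.val
        (hinj _ _ ((hEv _).2 ⟨u.1, rfl, u.2⟩) ((hEv _).2 ⟨v.1, rfl, v.2⟩) (congrArg Subtype.val e))))
    · rintro ⟨y, hy⟩
      obtain ⟨x, hx, rfl⟩ := (hP' y).1 hy
      obtain ⟨v, e, hv⟩ := (hEv _).1 hx
      exact ⟨⟨v, hv⟩, Subtype.ext (congrArg mk (Subtype.ext e))⟩
  have hcomm : ∀ g x : C, (x : G) ∈ E → Commute (mk g) (mk x) → (g : G) * x = x * g := by
    intro g x hx hc
    have e := hlift (g * x * g⁻¹) x (by rw [map_mul, map_mul, map_inv, hc.eq, mul_inv_cancel_right])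
      (by simp only [Subgroup.coe_mul, InvMemClass.coe_inv]
          rw [conj_pow, hE3 _ hx, mul_one, mul_inv_cancel]) (hE3 _ hx)
    simp only [Subgroup.coe_mul, InvMemClass.coe_inv] at e
    exact mul_inv_eq_iff_eq_mul.1 e
  have hsplit : ∀ g : C, ∀ p : Mn, φ p = g → p * wM nCw = wM nCw * p := fun g p e =>
    D.comm' (inL_all _) (inL_all _) (by rw [e]; exact mem_centralizer_singleton_iff.1 g.2)
  have hmkJ : ∀ g : C, ∀ v : V3, v.2.2 = 0 → ((g : G) = φ (jM v) ∨ (g : G) = φ (jM v) * r) →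
      mk g ∈ (P' : Subgroup (C ⧸ zpowers rC)) := by
    intro g v hv hg
    refine (hP' _).2 ⟨⟨φ (jM v), hmem v hv⟩, (hEv _).2 ⟨v, rfl, hv⟩, (hmkeq _ _).2 ?_⟩
    rcases hg with e | e <;> rw [e]
    · exact Or.inl (inv_mul_cancel _)
    · exact Or.inr (inv_mul_cancel_left _ _)
  have hself : centralizer (((P' : Subgroup (C ⧸ zpowers rC)) : Set (C ⧸ zpowers rC))) = P' := by
    refine le_antisymm (fun y hy => ?_) fun y hy => mem_centralizer_iff.2 fun z hz' => ?_
    · obtain ⟨g, rfl⟩ := QuotientGroup.mk'_surjective (zpowers rC) y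
      have hc : ∀ v : V3, v.2.2 = 0 → (g : G) * φ (jM v) = φ (jM v) * g := fun v hv =>
        hcomm g ⟨_, hmem v hv⟩ ((hEv _).2 ⟨v, rfl, hv⟩)
          ((mem_centralizer_iff.1 hy _ ((hP' _).2 ⟨_, (hEv _).2 ⟨v, rfl, hv⟩, rfl⟩)).symm)
      obtain ⟨p, -, e⟩ := D.norm_eq _ (D.cent_pair' refl_plane.1.1 (hc _ rfl) (hc _ rfl))
      obtain ⟨v, hv, hp⟩ := hcp p (hsplit g p e) (D.fix_of_comm (inL_all _) (e ▸ hc _ rfl))
        (D.fix_of_comm (inL_all _) (e ▸ hc _ rfl))
      refine hmkJ g v hv ?_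
      rcases hp with h | h <;> rw [h] at e
      · exact Or.inl e.symm
      · rw [D.hmul] at e; exact Or.inr e.symm
    · obtain ⟨x, hx, rfl⟩ := (hP' y).1 hy
      obtain ⟨x', hx', rfl⟩ := (hP' z).1 hz'
      rw [← map_mul, ← map_mul]
      exact congrArg mk (Subtype.ext (D.J_comm hx'.1 hx.1))
  set N := normalizer (((P' : Subgroup (C ⧸ zpowers rC)) : Set (C ⧸ zpowers rC))) with hN
  have hdC : ∀ x : DihedralGroup 4, φ (wM (dihFun x)) ∈ C := fun x =>
    mem_centralizer_singleton_iff.2 (by rw [hr, ← D.hmul, ← D.hmul, hdr])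
  let δ : DihedralGroup 4 →* N := MonoidHom.mk'
    (fun x => ⟨mk ⟨φ (wM (dihFun x)), hdC x⟩, hEn _ (D.mem_norm _ (inL_all _))⟩) fun x y => Subtype.ext (by
      show mk _ = mk _ * mk _
      rw [← map_mul]
      exact congrArg mk (Subtype.ext (by
        show φ (wM (dihFun (x * y))) = φ (wM (dihFun x)) * φ (wM (dihFun y))
        rw [dihFun_facts.1, wM_hom, D.hmul])))
  let f : DihedralGroup 4 →* N ⧸ (P' : Subgroup (C ⧸ zpowers rC)).subgroupOf N :=
    (QuotientGroup.mk' _).comp δ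
  have hfb : Function.Bijective f := by
    refine ⟨(injective_iff_map_eq_one f).2 fun x hx => ?_, fun y => ?_⟩
    · have hm : mk ⟨φ (wM (dihFun x)), hdC x⟩ ∈ (P' : Subgroup (C ⧸ zpowers rC)) :=
        mem_subgroupOf.1 ((QuotientGroup.eq_one_iff _).1 hx)
      obtain ⟨z, hzE, e⟩ := (hP' _).1 hm
      obtain ⟨v, ev, hv⟩ := (hEv _).1 hzE
      refine hdi x v hv ?_
      rcases (hmkeq _ _).1 e with h | h
      · refine Or.inl (D.inj _ _ (inL_all _) (inL_all _) ?_)
        rw [ev]; exact (inv_mul_eq_one.1 h).symm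
      · refine Or.inr (D.inj _ _ (inL_all _) (inL_all _) ?_)
        rw [D.hmul, ev, ← hr, ← h]; exact (mul_inv_cancel_left _ _).symm
    · obtain ⟨⟨y, hy⟩, rfl⟩ := QuotientGroup.mk'_surjective _ y
      obtain ⟨g, rfl⟩ := QuotientGroup.mk'_surjective (zpowers rC) y
      obtain ⟨p, -, e⟩ := D.norm_eq _ (hnE g hy)
      obtain ⟨x, v, hv, hp⟩ := hds p (hsplit g p e)
      refine ⟨x, ?_⟩
      show QuotientGroup.mk' _ (δ x) = _
      rw [QuotientGroup.mk'_eq_mk']
      refine ⟨(δ x)⁻¹ * ⟨mk g, hy⟩, mem_subgroupOf.2 ?_, mul_inv_cancel_left _ _⟩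
      show (mk ⟨φ (wM (dihFun x)), hdC x⟩)⁻¹ * mk g ∈ (P' : Subgroup (C ⧸ zpowers rC))
      rw [← map_inv, ← map_mul]
      refine hmkJ _ v hv ?_
      simp only [Subgroup.coe_mul, InvMemClass.coe_inv, ← e]
      rcases hp with rfl | rfl
      · exact Or.inl (by rw [D.hmul, inv_mul_cancel_left])
      · exact Or.inr (by rw [D.hmul, D.hmul, mul_assoc, inv_mul_cancel_left])
  rcases Cfsg.Agent.S3333.result P' _ rfl hcard hself (MulEquiv.ofBijective f hfb).symm (fun y hy hy1 z hz' => by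
    obtain ⟨x, hx, rfl⟩ := (hP' y).1 hy
    obtain ⟨g, rfl⟩ := QuotientGroup.mk'_surjective (zpowers rC) z
    have hgx := hcomm g x hx (mem_centralizer_singleton_iff.1 hz')
    obtain ⟨v, ev, hv⟩ := (hEv _).1 hx
    have hv0 : v ≠ 0 := fun h0 => hy1 (by
      rw [show x = 1 from Subtype.ext (by rw [← ev, h0, D.jzero]; rfl), map_one])
    refine hEn g ?_
    obtain ⟨w, hw | hw⟩ := hwt v hv hv0
    · exact D.cent_two w hw (by rw [ev]; exact hgx)
    · exact D.cent_orbit (wok_all w) (fun k hk => hs (mem_centralizer_singleton_iff.2 hk))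
        (by rw [hw, ev]; exact hgx)) with h | ⟨⟨e⟩⟩
  · exact Or.inl fun g hg => hnE ⟨g, hg⟩ (by rw [hN, normalizer_eq_top_iff.2 h]; exact mem_top _)
  · refine Or.inr ⟨e.toMonoidHom.comp mk, e.surjective.comp (QuotientGroup.mk'_surjective _), fun x => ?_⟩
    rw [MonoidHom.comp_apply, MulEquiv.coe_toMonoidHom, MulEquiv.map_eq_one_iff, hmk, QuotientGroup.mk'_apply,
      QuotientGroup.eq_one_iff, hz]

/-- The cosets of the normalizer fixed by the reflection. -/
theorem refl_fixed {g : G} (h : φ (wM nCw) • (g : G ⧸ normalizer (J : Set G)) = g) :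
    ∃ c ∈ centralizer ({φ (wM nCw)} : Set G), (c : G ⧸ normalizer (J : Set G)) = g := by
  have h' : g⁻¹ * (φ (wM nCw))⁻¹ * g ∈ normalizer (J : Set G) := by
    have := QuotientGroup.eq.1 (show ((φ (wM nCw) * g : G) : G ⧸ normalizer (J : Set G)) = g from h)
    simpa [mul_assoc] using this
  rw [← D.hinv, show (wM nCw)⁻¹ = wM nCw from inv_eq_of_mul_eq_one_left refl_facts.1] at h'
  obtain ⟨q, -, hq⟩ := D.norm_eq _ h'
  obtain ⟨p, hp⟩ := D.refl_fusion hs (g := g⁻¹) (q := q) (by rw [hq, inv_inv])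
  rw [← hp, D.hmul, D.hmul, D.hinv] at hq
  refine ⟨g * φ p, mem_centralizer_singleton_iff.2 ?_, QuotientGroup.eq.2 ?_⟩
  · calc g * φ p * φ (wM nCw) = g * (φ p * φ (wM nCw) * (φ p)⁻¹) * φ p := by group
      _ = g * (g⁻¹ * φ (wM nCw) * g) * φ p := by rw [hq]
      _ = _ := by group
  · rw [mul_inv_rev, mul_assoc, inv_mul_cancel, mul_one]
    exact inv_mem (D.mem_norm _ (inL_all _))

/-- A subgroup of index two avoiding the reflection. -/
theorem exists_index_refl : ∃ H : Subgroup G, H.index = 2 ∧ φ (wM nCw) ∉ H := by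
  classical
  haveI : Fact (Nat.Prime 2) := ⟨Nat.prime_two⟩
  set N := normalizer (J : Set G) with hN
  set r := φ (wM nCw) with hr
  have hrr : r * r = 1 := by rw [hr, ← D.hmul, refl_facts.1, D.one]
  have hro : orderOf r = 2 := orderOf_eq_prime (by rw [pow_two, hrr])
    fun e => refl_facts.2.1 (D.eq_one (inL_all _) e)
  set C := centralizer ({r} : Set G) with hC
  have horb : ∀ x : G ⧸ N, r • x = x ↔ x ∈ MulAction.orbit C ((1 : G) : G ⧸ N) := by
    intro x
    constructor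
    · intro hx
      obtain ⟨g, rfl⟩ := QuotientGroup.mk_surjective x
      obtain ⟨c, hc, e⟩ := D.refl_fixed hs hx
      exact ⟨⟨c, hc⟩, by rw [← e]; show ((c * 1 : G) : G ⧸ N) = _; rw [mul_one]⟩
    · rintro ⟨⟨c, hc⟩, rfl⟩
      show ((r * (c * 1) : G) : G ⧸ N) = ((c * 1 : G) : G ⧸ N)
      rw [QuotientGroup.eq, mul_one, mul_inv_rev, mul_assoc,
        inv_eq_of_mul_eq_one_left hrr, show r * c = c * r from (mem_centralizer_singleton_iff.1 hc).symm,
        inv_mul_cancel_left]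
      exact D.mem_norm _ (inL_all _)
  rcases D.refl_cent hs with hsmall | ⟨π, hπs, hπk⟩
  · -- one fixed coset
    have hone : ∀ x : G ⧸ N, r • x = x → x = ((1 : G) : G ⧸ N) := fun x hx => by
      obtain ⟨⟨c, hc⟩, rfl⟩ := (horb x).1 hx
      show ((c * 1 : G) : G ⧸ N) = _
      rw [QuotientGroup.eq]
      simpa using inv_mem (hsmall hc)
    have hodd : ¬ 2 ∣ N.index := by
      haveI hp : IsPGroup 2 (zpowers r) := IsPGroup.of_card (n := 1) (by rw [Nat.card_zpowers, hro, pow_one])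
      have h := hp.card_modEq_card_fixedPoints (G ⧸ N)
      have h1 : Nat.card (MulAction.fixedPoints (zpowers r) (G ⧸ N)) = 1 := by
        rw [Nat.card_eq_one_iff_unique]
        refine ⟨⟨fun x y => Subtype.ext ((hone _ (x.2 ⟨r, mem_zpowers r⟩)).trans
          (hone _ (y.2 ⟨r, mem_zpowers r⟩)).symm)⟩, ⟨⟨((1 : G) : G ⧸ N), fun z => ?_⟩⟩⟩
        obtain ⟨z, hz⟩ := z
        show ((z * 1 : G) : G ⧸ N) = _
        rw [QuotientGroup.eq, mul_one, mul_one]
        exact inv_mem (zpowers_le.2 (D.mem_norm _ (inL_all _)) hz)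
      rw [h1, ← index_eq_card, Nat.ModEq] at h
      omega
    let N0 : Subgroup G :=
      { carrier := {g | ∃ p : Mn, p.w.e = false ∧ φ p = g}
        one_mem' := ⟨1, rfl, D.one⟩
        mul_mem' := by
          rintro _ _ ⟨p, hp, rfl⟩ ⟨q, hq, rfl⟩
          exact ⟨p * q, by show (p.w.e ^^ q.w.e) = false; rw [hp, hq]; rfl, D.hmul p q⟩
        inv_mem' := by
          rintro _ ⟨p, hp, rfl⟩
          exact ⟨p⁻¹, hp, D.hinv p⟩ }
    have hN0 : N0 ≤ N := by rintro _ ⟨p, -, rfl⟩; exact D.mem_norm _ (inL_all _)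
    have hN02 : N0.relIndex N = 2 := by
      refine Subgroup.index_eq_two_iff.2 ⟨⟨r, D.mem_norm _ (inL_all _)⟩, fun n => ?_⟩
      obtain ⟨p, -, hp⟩ := D.norm_eq _ n.2
      have hiff : ∀ q : Mn, φ q ∈ N0 ↔ q.w.e = false := fun q =>
        ⟨fun ⟨q', hq', e⟩ => D.inj _ _ (inL_all _) (inL_all _) e ▸ hq', fun h => ⟨q, h, rfl⟩⟩
      rw [mem_subgroupOf, mem_subgroupOf, Subgroup.coe_mul, ← hp]
      show Xor' (φ p * φ (wM nCw) ∈ N0) (φ p ∈ N0)
      rw [← D.hmul, hiff, hiff, show (p * wM nCw).w.e = (p.w.e ^^ true) from rfl]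
      cases p.w.e
      · exact Or.inr ⟨rfl, by simp⟩
      · exact Or.inl ⟨rfl, by simp⟩
    have hidx : N0.index % 4 = 2 := by
      rw [← relIndex_mul_index hN0, hN02]
      omega
    obtain ⟨H, hH, hrH⟩ := Involutions.ThompsonTransfer.exists_index_two_of_no_conj N0 hidx r hro fun g hg => by
      obtain ⟨q, hq, e⟩ := hg
      obtain ⟨p, hp⟩ := D.refl_fusion hs (g := g) (q := q) e.symm
      rw [← hp] at hq
      revert hq
      show ((p.w.e ^^ true) ^^ p.w.e) = false → False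
      cases p.w.e <;> simp
    exact ⟨H, hH, hrH⟩
  · -- ten fixed cosets among a multiple of four
    obtain ⟨hsr, hsa, hs2, hac, hsne, ha1, har, ha2, hnz⟩ := swap_facts
    set e1 := φ (wM nAw) with he1
    set s := φ (wM ⟨false, 0, 4⟩) with hsdef
    have hss : s * s = 1 := by rw [hsdef, ← D.hmul, hs2, D.one]
    set rC : C := ⟨r, mem_centralizer_singleton_iff.2 rfl⟩ with hrC
    have heC : e1 ∈ C := mem_centralizer_singleton_iff.2 (by rw [he1, hr, ← D.hmul, ← D.hmul, hac])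
    set eC : C := ⟨e1, heC⟩ with heCdef
    have hee : π eC * π eC = 1 := by
      rw [← map_mul, show eC * eC = 1 from Subtype.ext (by
        show e1 * e1 = 1
        rw [he1, ← D.hmul, ha2, D.one]), map_one]
    have hker : Nat.card π.ker = 2 := by
      rw [Nat.card_eq_two_iff]
      refine ⟨1, ⟨rC, (hπk rC).2 (Or.inr rfl)⟩, fun e => ?_, ?_⟩
      · have e' := congrArg (fun x : π.ker => ((x : C) : G)) e
        exact (fun e : r = 1 => by rw [e, orderOf_one] at hro; omega) e'.symm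
      · refine Set.eq_univ_of_forall fun x => ?_
        rcases (hπk x).1 x.2 with e | e
        · exact Or.inl (Subtype.ext (Subtype.ext e))
        · exact Or.inr (Subtype.ext (Subtype.ext e))
    have hCcard : Nat.card C = 1440 := by
      have h := PLocal.Cores.card_comap_eq (⊤ : Subgroup (Equiv.Perm (Fin 6))) hπs
      rw [comap_top, card_top, card_top, hker, Nat.card_perm, Nat.card_eq_fintype_card (α := Fin 6),
        Fintype.card_fin] at h
      rw [h]; rfl
    -- a two-subgroup of order at least sixty-four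
    set P := centralizer ({r, e1} : Set G) with hP
    have hPC : P ≤ C := fun g hg =>
      mem_centralizer_singleton_iff.2 (mem_centralizer_iff.1 hg r (Set.mem_insert _ _)).symm
    have hP32 : 32 ∣ Nat.card P := by
      have hle : (centralizer ({π eC} : Set (Equiv.Perm (Fin 6)))).comap π ≤ P.subgroupOf C := by
        intro g hg
        refine mem_subgroupOf.2 (mem_centralizer_iff.2 ?_)
        rintro y (rfl | rfl)
        · exact (mem_centralizer_singleton_iff.1 g.2).symm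
        · have h1 : π (g * eC * g⁻¹ * eC⁻¹) = 1 := by
            rw [map_mul, map_mul, map_mul, map_inv, map_inv, mem_centralizer_singleton_iff.1 (mem_comap.1 hg),
              mul_inv_cancel_right, mul_inv_cancel]
          rcases (hπk _).1 h1 with h | h
          · simp only [Subgroup.coe_mul, InvMemClass.coe_inv, mul_inv_eq_one] at h
            exact (mul_inv_eq_iff_eq_mul.1 h).symm
          · exfalso
            simp only [Subgroup.coe_mul, InvMemClass.coe_inv, heCdef, mul_inv_eq_iff_eq_mul] at h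
            have h2 : (g : G) * s * r * ((g : G) * s)⁻¹ = φ (wM nAw * wM nCw) := by
              rw [show (g : G) * s * r * ((g : G) * s)⁻¹ = (g : G) * (s * r * s⁻¹) * (g : G)⁻¹ by group,
                show s * r * s⁻¹ = e1 by rw [he1, hsdef, hr, ← D.hinv, ← D.hmul, ← D.hmul, hsr],
                h, D.hmul, ← he1, mul_inv_cancel_right]
              exact ((mem_centralizer_singleton_iff.1 heC)).symm
            obtain ⟨p, hp⟩ := D.refl_fusion hs h2
            exact hnz p (by rw [← hp]; group)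
      have h16 := sixteen_dvd_centralizer (π eC) hee
      have h := card_dvd_of_le hle
      rw [PLocal.Cores.card_comap_eq _ hπs, hker, Nat.card_congr (subgroupOfEquivOfLe hPC).toEquiv] at h
      exact (show 2 * 16 ∣ _ from Nat.mul_dvd_mul_left 2 h16).trans h
    have hsn : zpowers s ≤ normalizer (P : Set G) := by
      refine zpowers_le.2 (mem_normalizer_fintype fun g hg => ?_)
      have h1 : s * r * s⁻¹ = e1 := by rw [he1, hsdef, hr, ← D.hinv, ← D.hmul, ← D.hmul, hsr]
      have h2 : s * e1 * s⁻¹ = r := by rw [he1, hsdef, hr, ← D.hinv, ← D.hmul, ← D.hmul, hsa]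
      have hg1 := mem_centralizer_iff.1 hg r (Set.mem_insert _ _)
      have hg2 := mem_centralizer_iff.1 hg e1 (Set.mem_insert_of_mem _ rfl)
      refine mem_centralizer_iff.2 ?_
      rintro y (rfl | rfl)
      · calc r * (s * g * s⁻¹) = s * (e1 * g) * s⁻¹ := by rw [← h2]; group
          _ = s * (g * e1) * s⁻¹ := by rw [hg2]
          _ = _ := by rw [← h2]; group
      · calc e1 * (s * g * s⁻¹) = s * (r * g) * s⁻¹ := by rw [← h1]; group
          _ = s * (g * r) * s⁻¹ := by rw [hg1]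
          _ = _ := by rw [← h1]; group
    have hsP : s ∉ P := fun h => hsne (D.comm' (inL_all _) (inL_all _) (by
      rw [← hsdef, ← hr]; exact (mem_centralizer_iff.1 h r (Set.mem_insert _ _)).symm))
    have hso : orderOf s = 2 := orderOf_eq_prime (by rw [pow_two, hss]) fun e => hsP (e ▸ one_mem _)
    have hU : 2 * Nat.card P ∣ Nat.card G := by
      have hdisj : Disjoint P (zpowers s) := by
        rw [disjoint_iff, eq_bot_iff]
        rintro g ⟨hgP, hgs⟩
        obtain ⟨k, rfl⟩ := mem_zpowers_iff.1 hgs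
        rw [← zpow_mod_orderOf, hso] at hgP ⊢
        rcases Int.emod_two_eq_zero_or_one k with e | e <;> simp only [Nat.cast_ofNat, e] at hgP ⊢
        · exact mem_bot.2 (zpow_zero s)
        · rw [zpow_one] at hgP
          exact absurd hgP hsP
      have hb : Function.Bijective (fun q : P × zpowers s => (⟨(q.1 : G) * q.2,
          mul_mem (mem_sup_left q.1.2) (mem_sup_right q.2.2)⟩ : (P ⊔ zpowers s : Subgroup G))) := by
        refine ⟨fun x y e => mul_injective_of_disjoint hdisj (congrArg Subtype.val e), fun ⟨g, hg⟩ => ?_⟩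
        rw [← SetLike.mem_coe, coe_mul_of_right_le_normalizer_left P (zpowers s) hsn] at hg
        obtain ⟨x, hx, y, hy, rfl⟩ := hg
        exact ⟨(⟨x, hx⟩, ⟨y, hy⟩), rfl⟩
      have := card_subgroup_dvd_card (P ⊔ zpowers s)
      rwa [← Nat.card_eq_of_bijective _ hb, Nat.card_prod, Nat.card_zpowers, hso, mul_comm] at this
    have hG : Nat.card G = 1296 * N.index := by
      rw [← card_mul_index N]
      congr 1
      rw [← card_model.1, ← Nat.card_eq_fintype_card]
      refine (Nat.card_eq_of_bijective (fun p : Mn => (⟨φ p, D.mem_norm p (inL_all p)⟩ : N)) ⟨fun p q e =>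
        D.inj _ _ (inL_all _) (inL_all _) (congrArg Subtype.val e), fun n => ?_⟩).symm
      obtain ⟨p, -, hp⟩ := D.norm_eq _ n.2
      exact ⟨p, Subtype.ext hp⟩
    have h64 : 64 ∣ 1296 * N.index := hG ▸ (show 2 * 32 ∣ _ from Nat.mul_dvd_mul_left 2 hP32).trans hU
    -- the fixed cosets
    have hten : Nat.card {x : G ⧸ N // r • x = x} = 10 := by
      have hidx := MulAction.index_stabilizer (G := C) (x := ((1 : G) : G ⧸ N))
      have hstab : MulAction.stabilizer C ((1 : G) : G ⧸ N) = N.subgroupOf C := by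
        ext c
        rw [MulAction.mem_stabilizer_iff, mem_subgroupOf]
        show ((c * 1 : G) : G ⧸ N) = _ ↔ _
        rw [QuotientGroup.eq, mul_one, mul_one, inv_mem_iff]
      have hN144 : Nat.card (N.subgroupOf C) = 144 := by
        rw [← card_model.2, ← Nat.card_eq_fintype_card]
        refine (Nat.card_eq_of_bijective (fun p : {p : Mn // p * wM nCw = wM nCw * p} =>
          (⟨⟨φ p.1, mem_centralizer_singleton_iff.2 (by rw [hr, ← D.hmul, ← D.hmul, p.2])⟩,
            mem_subgroupOf.2 (D.mem_norm _ (inL_all _))⟩ : N.subgroupOf C)) ⟨fun p q e => ?_, fun c => ?_⟩).symm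
        · exact Subtype.ext (D.inj _ _ (inL_all _) (inL_all _)
            (congrArg (fun x : N.subgroupOf C => ((x : C) : G)) e))
        · obtain ⟨p, -, hp⟩ := D.norm_eq _ (mem_subgroupOf.1 c.2)
          exact ⟨⟨p, D.comm' (inL_all _) (inL_all _) (by rw [hp]; exact mem_centralizer_singleton_iff.1 c.1.2)⟩,
            Subtype.ext (Subtype.ext hp)⟩
      have h := card_mul_index (N.subgroupOf C)
      rw [← hstab, hidx, hstab, hN144, hCcard] at h
      rw [show Nat.card {x : G ⧸ N // r • x = x} = (MulAction.orbit C ((1 : G) : G ⧸ N)).ncard from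
        (Nat.card_congr (Equiv.subtypeEquivRight horb)).trans (Nat.card_coe_set_eq _)]
      omega
    haveI := Fintype.ofFinite (G ⧸ N)
    let ψ : G →* ℤˣ := Equiv.Perm.sign.comp (MulAction.toPermHom G (G ⧸ N))
    set σ := MulAction.toPermHom G (G ⧸ N) r with hσ
    have hneg : ψ r = -1 := by
      show Equiv.Perm.sign σ = -1
      have hσ2 : σ ^ 2 = 1 := by rw [hσ, ← _root_.map_pow, pow_two, hrr, map_one]
      have hct : σ.cycleType = Multiset.replicate σ.cycleType.card 2 := by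
        refine Multiset.eq_replicate_card.mpr fun n hn => ?_
        have h1 := Equiv.Perm.dvd_of_mem_cycleType hn
        have h2 := Equiv.Perm.two_le_of_mem_cycleType hn
        have := Nat.le_of_dvd two_pos (h1.trans (orderOf_dvd_of_pow_eq_one hσ2))
        omega
      have hsupp : σ.support.card + 10 = N.index := by
        have h1 : σ.supportᶜ.card = 10 := by
          rw [← hten, ← Fintype.card_coe, ← Nat.card_eq_fintype_card]
          exact Nat.card_congr (Equiv.subtypeEquivRight fun x => by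
            rw [Finset.mem_compl, Equiv.Perm.mem_support, not_not]; rfl)
        have h2 := Finset.card_add_card_compl σ.support
        rw [h1, ← Nat.card_eq_fintype_card, ← index_eq_card] at h2
        exact h2
      have hsum := Equiv.Perm.sum_cycleType σ
      rw [hct, Multiset.sum_replicate, smul_eq_mul] at hsum
      rw [Equiv.Perm.sign_of_cycleType, hct, Multiset.sum_replicate, Multiset.card_replicate, smul_eq_mul]
      apply Odd.neg_one_pow
      rw [Nat.odd_iff]
      omega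
    refine ⟨ψ.ker, ?_, fun h => ?_⟩
    · rw [index_ker]
      have : ψ.range = ⊤ := by
        rw [eq_top_iff]
        intro u _
        rcases Int.units_eq_one_or u with rfl | rfl
        exacts [one_mem _, ⟨r, hneg⟩]
      rw [this, card_top, Nat.card_eq_fintype_card]
      rfl
    · rw [MonoidHom.mem_ker, hneg] at h
      exact absurd h (by decide)

end Loc

end Cfsg.Agent.SpThreeCent
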